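import Mathlib
import Cfsg.Prelude.Def_Solvable
import Cfsg.Agent.Helper5.Basic

namespace Cfsg.Agent.Helper5

/-- The join of all normal subgroups with a property closed under joins of normal subgroups
has the property (finite group). -/
theorem sSup_normal_induction {G : Type*} [Group G] [Finite G] (P : Subgroup G → Prop) (hbot : P ⊥)
    (hsup : ∀ A B : Subgroup G, A.Normal → B.Normal → P A → P B → P (A ⊔ B)) :
    P (sSup {N : Subgroup G | N.Normal ∧ P N}) := by
  classical
  have hfin : {N : Subgroup G | N.Normal ∧ P N}.Finite := Set.toFinite _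
  have h : sSup {N : Subgroup G | N.Normal ∧ P N} = hfin.toFinset.sup id := by
    rw [Finset.sup_id_eq_sSup, Set.Finite.coe_toFinset]
  rw [h]
  have key : (hfin.toFinset.sup id).Normal ∧ P (hfin.toFinset.sup id) := by
    refine Finset.sup_induction (p := fun N : Subgroup G => N.Normal ∧ P N)
      ⟨Subgroup.normal_bot, hbot⟩ ?_ ?_
    · rintro a ⟨ha1, ha2⟩ b ⟨hb1, hb2⟩
      exact ⟨Subgroup.sup_normal a b, hsup a b ha1 hb1 ha2 hb2⟩
    · intro b hb
      exact (Set.Finite.mem_toFinset hfin).mp hb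
  exact key.2

theorem coprime_card_sup {G : Type*} [Group G] [Finite G] (p : ℕ) [Fact p.Prime]
    (A B : Subgroup G) [B.Normal] (hA : (Nat.card A).Coprime p) (hB : (Nat.card B).Coprime p) :
    (Nat.card (A ⊔ B : Subgroup G)).Coprime p := by
  have hp := (Fact.out : p.Prime)
  rw [Nat.coprime_comm, Nat.Prime.coprime_iff_not_dvd hp]
  intro hdvd
  obtain ⟨x, hx⟩ := exists_prime_orderOf_dvd_card' p hdvd
  obtain ⟨a, ha, b, hb, hab⟩ := Subgroup.mem_sup_of_normal_right.mp x.2
  have h1 : (x : G) ^ Nat.card A ∈ B := by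
    rw [← QuotientGroup.eq_one_iff, QuotientGroup.mk_pow, ← hab, QuotientGroup.mk_mul]
    have hb' : (QuotientGroup.mk b : G ⧸ B) = 1 := (QuotientGroup.eq_one_iff b).mpr hb
    rw [hb', mul_one, ← QuotientGroup.mk_pow]
    have : a ^ Nat.card A = 1 := by
      have h0 := congrArg Subtype.val (pow_card_eq_one' (G := ↥A) (x := ⟨a, ha⟩))
      rwa [Subgroup.coe_pow] at h0
    rw [this]; rfl
  have h2 : ((x : G) ^ Nat.card A) ^ Nat.card B = 1 := by
    have h0 := congrArg Subtype.val (pow_card_eq_one' (G := ↥B) (x := ⟨_, h1⟩))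
    rwa [Subgroup.coe_pow] at h0
  have h3 : orderOf (x : G) ∣ Nat.card A * Nat.card B := by
    apply orderOf_dvd_of_pow_eq_one
    rw [pow_mul]; exact h2
  rw [Subgroup.orderOf_coe, hx] at h3
  rcases (Nat.Prime.dvd_mul hp).mp h3 with h | h
  · exact (Nat.Prime.coprime_iff_not_dvd hp).mp hA.symm h
  · exact (Nat.Prime.coprime_iff_not_dvd hp).mp hB.symm h

theorem pPrimeCore_coprime (p : ℕ) [Fact p.Prime] (G : Type*) [Group G] [Finite G] :
    (Nat.card (Cfsg.pPrimeCore p G)).Coprime p :=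
  sSup_normal_induction (fun N => (Nat.card N).Coprime p) (by simp)
    (fun A B _ hB hA hB' => by haveI := hB; exact coprime_card_sup p A B hA hB')

theorem le_pPrimeCore {p : ℕ} {G : Type*} [Group G] (N : Subgroup G) (hN : N.Normal)
    (h : (Nat.card N).Coprime p) : N ≤ Cfsg.pPrimeCore p G := le_sSup ⟨hN, h⟩

theorem pPrimeCore_normal' (p : ℕ) (G : Type*) [Group G] : (Cfsg.pPrimeCore p G).Normal :=
  Subgroup.sSup_normal _ (fun _ hH => hH.1)

end Cfsg.Agent.Helper5
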