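import Mathlib
import Cfsg.Prelude.Def_LocalStructure
import Cfsg.Agent.Helper5.Basic
import Cfsg.Agent.Helper5.CharP

set_option autoImplicit false

namespace Cfsg.Agent.Helper5

variable {G : Type*} [Group G]

theorem le_normalizer_sup (A B N : Subgroup G) (hA : N ≤ Subgroup.normalizer (A : Set G))
    (hB : N ≤ Subgroup.normalizer (B : Set G)) :
    N ≤ Subgroup.normalizer ((A ⊔ B : Subgroup G) : Set G) := by
  intro n hn
  rw [mem_normalizer_iff_conj_eq, Subgroup.map_sup, (mem_normalizer_iff_conj_eq A n).1 (hA hn),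
    (mem_normalizer_iff_conj_eq B n).1 (hB hn)]

/-- a `p`-closed subgroup `K` has a largest `p`-subgroup, normalized by `N_G(K)`. -/
theorem pClosed_sylow [Finite G] {p : ℕ} [Fact p.Prime] (K : Subgroup G)
    (hK : Cfsg.IsPClosed p ↥K) :
    ∃ P₁ : Subgroup G, P₁ ≤ K ∧ IsPGroup p P₁ ∧ (∀ A : Subgroup G, A ≤ K → IsPGroup p A → A ≤ P₁) ∧
      Subgroup.normalizer (K : Set G) ≤ Subgroup.normalizer (P₁ : Set G) := by
  obtain ⟨P₀⟩ : Nonempty (Sylow p ↥K) := inferInstance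
  have hP₁K : (P₀ : Subgroup ↥K).map K.subtype ≤ K := by rintro _ ⟨x, -, rfl⟩; exact x.2
  have hmax : ∀ A : Subgroup G, A ≤ K → IsPGroup p A → A ≤ (P₀ : Subgroup ↥K).map K.subtype := by
    intro A hAK hA
    have hA' : IsPGroup p (A.subgroupOf K) := hA.comap_subtype
    obtain ⟨Q, hQ⟩ := hA'.exists_le_sylow
    obtain ⟨g, rfl⟩ := MulAction.exists_smul_eq K P₀ Q
    have hn := hK P₀
    rw [Sylow.smul_eq_of_normal] at hQ
    intro y hy
    exact ⟨⟨y, hAK hy⟩, hQ (by rw [Subgroup.mem_subgroupOf]; exact hy), rfl⟩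
  refine ⟨(P₀ : Subgroup ↥K).map K.subtype, hP₁K, P₀.2.map _, hmax, ?_⟩
  intro m hm
  apply mem_normalizer_of_conj_le
  apply hmax _ _ (isPGroup_conj _ (P₀.2.map _) m)
  have h1 := conj_mono hP₁K m
  rwa [(mem_normalizer_iff_conj_eq K m).1 hm] at h1

end Cfsg.Agent.Helper5
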