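import Cfsg.Agent.Helper5.Basic
import Cfsg.Agent.Helper5.CharP
import Cfsg.Agent.Helper5.StrEmb
import Cfsg.Agent.Helper5.PRed
import Cfsg.Agent.Helper5.PRed2
import Cfsg.Agent.Helper5.PRed7
import Cfsg.Agent.Helper5.ElemAb
import Cfsg.Agent.Helper5.ZL
import Cfsg.Agent.Helper5.Large
import Cfsg.Agent.Helper5.ParChar
import Cfsg.Agent.Helper3.Layer2
import Cfsg.Agent.S2821
import Cfsg.Prelude.Def_LocalStructure

set_option autoImplicit false

namespace Cfsg.Agent.Helper5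

variable {H : Type*} [Group H]

/-- `O_p(X) ≤ T` for a Sylow subgroup `T` of the ambient group inside `X`. -/
theorem bp_pCoreOf_le_sylow [Finite H] {p : ℕ} [Fact p.Prime] (T : Sylow p H) (X : Subgroup H)
    (hTX : (T : Subgroup H) ≤ X) : (Cfsg.pCore p ↥X).map X.subtype ≤ (T : Subgroup H) := by
  obtain ⟨h, hh, hle⟩ := exists_conj_le_sylow_in_subgroup T X hTX _ (pCoreMap_le p X)
    (pCoreMap_isPGroup X)
  have h1 : h⁻¹ ∈ Subgroup.normalizer ((((Cfsg.pCore p ↥X).map X.subtype : Subgroup H)) : Set H) :=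
    le_normalizer_pCoreMap p X (X.inv_mem hh)
  have h2 := conj_le_of_mem_normalizer _ _ h1
  have h3 := conj_mono hle h⁻¹
  rw [conj_conj, inv_mul_cancel, conj_one, h2] at h3
  exact h3

/-- in a group of parabolic characteristic `p`, every subgroup containing a Sylow subgroup and
having nontrivial `p`-core lies in the characteristic-`p` family. -/
theorem bp_mem_charP [Finite H] {p : ℕ} [Fact p.Prime]
    (hH : Cfsg.IsOfParabolicCharacteristic p H)
    (T : Sylow p H) (X : Subgroup H) (hTX : (T : Subgroup H) ≤ X) (hne : Cfsg.pCore p ↥X ≠ ⊥) :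
    X ∈ Cfsg.charPSubgroups p H := by
  refine ⟨hne, ?_⟩
  obtain ⟨R, hR⟩ : ∃ R : Subgroup H, R = (Cfsg.pCore p ↥X).map X.subtype := ⟨_, rfl⟩
  rw [← hR]
  have hRp : IsPGroup p R := by rw [hR]; exact pCoreMap_isPGroup X
  have hRne : R ≠ ⊥ := by
    intro h
    apply hne
    rw [hR] at h
    exact (Subgroup.map_eq_bot_iff_of_injective _ X.subtype_injective).1 h
  have hXN : X ≤ Subgroup.normalizer (R : Set H) := by rw [hR]; exact le_normalizer_pCoreMap p X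
  have hpar : Cfsg.IsParabolic p (Subgroup.normalizer (R : Set H)) := ⟨T, hTX.trans hXN⟩
  have h1 := (charP_iff (Subgroup.normalizer (R : Set H))).1 (hH R hRp hRne hpar)
  have h2' : (Cfsg.pCore p ↥(Subgroup.normalizer (R : Set H))).map
      (Subgroup.normalizer (R : Set H)).subtype ≤ (Cfsg.pCore p ↥X).map X.subtype :=
    le_pCoreMap X _ ((bp_pCoreOf_le_sylow T _ (hTX.trans hXN)).trans hTX)
      (hXN.trans (le_normalizer_pCoreMap p _)) (pCoreMap_isPGroup _)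
  have h2 : (Cfsg.pCore p ↥(Subgroup.normalizer (R : Set H))).map
      (Subgroup.normalizer (R : Set H)).subtype ≤ R := h2'.trans hR.ge
  intro c hc
  refine h2 (h1 (Subgroup.mem_inf.2 ⟨Subgroup.centralizer_le_normalizer _ hc, ?_⟩))
  exact Subgroup.centralizer_le (show ((_ : Subgroup H) : Set H) ⊆ (R : Set H) from h2) hc

theorem bp_internal {p : ℕ} (X : Subgroup H) (hX : X ∈ Cfsg.charPSubgroups p H) :
    Subgroup.centralizer (Cfsg.pCore p ↥X : Set ↥X) ≤ Cfsg.pCore p ↥X :=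
  (charP_iff X).2 (inf_le_right.trans hX.2)

theorem bp_pCore_ne_bot {p : ℕ} (X V : Subgroup H) (hVX : V ≤ X)
    (hXV : X ≤ Subgroup.normalizer (V : Set H)) (hVp : IsPGroup p V) (hV : V ≠ ⊥) :
    Cfsg.pCore p ↥X ≠ ⊥ := by
  intro h
  apply hV
  have h1 := le_pCoreMap X V hVX hXV hVp
  rw [h, Subgroup.map_bot] at h1
  exact le_bot_iff.1 h1

theorem bp_sylow_ne_bot [Finite H] {p : ℕ} [Fact p.Prime] (T : Sylow p H) (X : Subgroup H)
    (hTX : (T : Subgroup H) ≤ X) (hne : Cfsg.pCore p ↥X ≠ ⊥) : (T : Subgroup H) ≠ ⊥ := by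
  intro h
  apply hne
  have h1 := bp_pCoreOf_le_sylow T X hTX
  rw [h] at h1
  exact (Subgroup.map_eq_bot_iff_of_injective _ X.subtype_injective).1 (le_bot_iff.1 h1)

theorem bp_Y_ne_bot [Finite H] {p : ℕ} [Fact p.Prime] (T : Sylow p H) (X : Subgroup H)
    (hTX : (T : Subgroup H) ≤ X)
    (hX : Subgroup.centralizer (Cfsg.pCore p ↥X : Set ↥X) ≤ Cfsg.pCore p ↥X)
    (hT : (T : Subgroup H) ≠ ⊥) : Cfsg.largestPReducedOf p X ≠ ⊥ := by
  obtain ⟨-, -, -, h1, h2, -⟩ := Cfsg.Agent.S2821.result T X hTX hX _ rfl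
  have hZ := inf_centralizer_ne_bot (T : Subgroup H) T.2 hT
  obtain ⟨t, ht, hto⟩ := exists_orderOf_eq_prime_of_ne_bot _ (T.2.to_le inf_le_left) hZ
  intro h
  have h3 : t ∈ Cfsg.largestPReducedOf p X :=
    h2 (h1 (Subgroup.subset_closure ⟨ht, by rw [← hto]; exact pow_orderOf_eq_one t⟩))
  rw [h] at h3
  have h4 : t = 1 := Subgroup.mem_bot.1 h3
  rw [h4, orderOf_one] at hto
  exact (Fact.out : p.Prime).one_lt.ne hto

theorem bp_mem_sup (A B : Subgroup H) (h : A ≤ Subgroup.normalizer (B : Set H)) {z : H}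
    (hz : z ∈ A ⊔ B) : ∃ a ∈ A, ∃ b ∈ B, z = a * b := by
  have hz' : z⁻¹ ∈ B ⊔ A := by rw [sup_comm]; exact Subgroup.inv_mem _ hz
  obtain ⟨b, hb, a, ha, hab⟩ := Cfsg.Agent.Helper3.mem_sup_of_le_normalizer_right B A h hz'
  refine ⟨a⁻¹, A.inv_mem ha, b⁻¹, B.inv_mem hb, ?_⟩
  rw [← mul_inv_rev, hab, inv_inv]

/-- monotonicity of `Y_X` over a Sylow subgroup. -/
theorem bp_Y_mono [Finite H] {p : ℕ} [Fact p.Prime] (T : Sylow p H) (X X' : Subgroup H)
    (hTX : (T : Subgroup H) ≤ X) (hXX' : X ≤ X')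
    (hX' : Subgroup.centralizer (Cfsg.pCore p ↥X' : Set ↥X') ≤ Cfsg.pCore p ↥X') :
    Cfsg.largestPReducedOf p X ≤ Cfsg.largestPReducedOf p X' := by
  obtain ⟨Y, hY⟩ : ∃ Y : Subgroup H, Y = Cfsg.largestPReducedOf p X := ⟨_, rfl⟩
  obtain ⟨P, hP⟩ : ∃ P : Subgroup H, P = (Cfsg.pCore p ↥X').map X'.subtype := ⟨_, rfl⟩
  rw [← hY]
  have hYX : Y ≤ X := by rw [hY]; exact largestPReducedOf_le p X
  have hYe : Cfsg.IsElementaryAbelian p Y := by
    rw [hY]; exact largestPReducedOf_isElementaryAbelian p X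
  have hPp : IsPGroup p P := by rw [hP]; exact pCoreMap_isPGroup X'
  have hPX' : P ≤ X' := by rw [hP]; exact pCoreMap_le p X'
  have hX'P : X' ≤ Subgroup.normalizer (P : Set H) := by
    rw [hP]; exact le_normalizer_pCoreMap p X'
  have hPT : P ≤ (T : Subgroup H) := by
    rw [hP]; exact bp_pCoreOf_le_sylow T X' (hTX.trans hXX')
  have hPOX : P ≤ (Cfsg.pCore p ↥X).map X.subtype :=
    le_pCoreMap X P (hPT.trans hTX) (hXX'.trans hX'P) hPp
  have hchX' : X' ⊓ Subgroup.centralizer (P : Set H) ≤ P := by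
    have h2 := (charP_iff X').1 hX'
    rw [← hP] at h2
    exact h2
  have hXchar : Subgroup.centralizer (Cfsg.pCore p ↥X : Set ↥X) ≤ Cfsg.pCore p ↥X := by
    rw [charP_iff]
    intro c hc
    obtain ⟨hc1, hc2⟩ := Subgroup.mem_inf.1 hc
    exact hPOX (hchX' (Subgroup.mem_inf.2 ⟨hXX' hc1,
      Subgroup.centralizer_le (show (P : Set H) ⊆ _ from hPOX) hc2⟩))
  have hYc : ∀ y ∈ Y, ∀ a ∈ P, a * y = y * a := by
    obtain ⟨-, -, -, -, -, h6⟩ := Cfsg.Agent.S2821.result T X hTX hXchar _ rfl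
    intro y hy a ha
    rw [hY] at hy
    exact (omegaOne_center_spec p _ y (h6 hy)).2.1 a (hPOX ha)
  have hYP : Y ≤ P := by
    intro y hy
    exact hchX' (Subgroup.mem_inf.2 ⟨hXX' (hYX hy),
      Subgroup.mem_centralizer_iff.2 (fun a ha => hYc y hy a ha)⟩)
  obtain ⟨W, hW⟩ : ∃ W : Subgroup H,
      W = Subgroup.closure {w : H | ∃ h ∈ X', ∃ y ∈ Y, w = h * y * h⁻¹} := ⟨_, rfl⟩
  have hsP : ∀ w ∈ {w : H | ∃ h ∈ X', ∃ y ∈ Y, w = h * y * h⁻¹},
      w ∈ P ∧ (∀ a ∈ P, a * w = w * a) ∧ w ^ p = 1 := by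
    rintro w ⟨h, hh, y, hy, rfl⟩
    refine ⟨?_, ?_, ?_⟩
    · exact (Subgroup.mem_normalizer_iff.1 (hX'P hh) y).1 (hYP hy)
    · intro a ha
      have h1 : h⁻¹ * a * h ∈ P := by
        have := (Subgroup.mem_normalizer_iff.1 (hX'P (X'.inv_mem hh)) a).1 ha
        simpa using this
      have h2 := hYc y hy _ h1
      calc a * (h * y * h⁻¹) = h * (h⁻¹ * a * h * y) * h⁻¹ := by group
        _ = h * (y * (h⁻¹ * a * h)) * h⁻¹ := by rw [h2]
        _ = h * y * h⁻¹ * a := by group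
    · rw [conj_pow, hYe.2 y hy, mul_one, mul_inv_cancel]
  have hWe : Cfsg.IsElementaryAbelian p W := by
    rw [hW]
    apply isElementaryAbelian_closure
    · intro a ha b hb
      exact ((hsP b hb).2.1 a (hsP a ha).1)
    · intro a ha
      exact (hsP a ha).2.2
  have hYW : Y ≤ W := by
    intro y hy
    rw [hW]
    exact Subgroup.subset_closure ⟨1, X'.one_mem, y, hy, by simp⟩
  have hWX' : W ≤ X' := by
    rw [hW, Subgroup.closure_le]
    intro w hw
    exact hPX' (hsP w hw).1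
  have hX'W : X' ≤ Subgroup.normalizer (W : Set H) := by
    intro g hg
    apply mem_normalizer_of_conj_le
    rw [hW, MonoidHom.map_closure, Subgroup.closure_le]
    rintro _ ⟨w, ⟨h, hh, y, hy, rfl⟩, rfl⟩
    apply Subgroup.subset_closure
    refine ⟨g * h, X'.mul_mem hg hh, y, hy, ?_⟩
    simp [mul_assoc]
  refine hYW.trans (le_largestPReducedOf X' W hWX' ?_)
  apply isPReducedNormal_subgroupOf X' W hWX' hX'W hWe
  intro D hDX' hX'D hDp
  have hX'C : X' ≤ Subgroup.normalizer ((Subgroup.centralizer (W : Set H) : Subgroup H) : Set H) :=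
    hX'W.trans (normalizer_le_normalizer_centralizer W)
  obtain ⟨B, hBD, hBp, hBcov⟩ := exists_pGroup_cover D (Subgroup.centralizer (W : Set H))
    (hDX'.trans hX'C) hDp
  obtain ⟨g, hg, hBg⟩ := exists_conj_le_sylow_in_subgroup T X' (hTX.trans hXX') B
    (hBD.trans hDX') hBp
  have hDXY : D ⊓ X ≤ Subgroup.centralizer (Y : Set H) := by
    have hYred : Cfsg.IsPReducedNormal p (Y.subgroupOf X) := by
      rw [hY, largestPReducedOf_subgroupOf]
      exact isPReducedNormal_sSup p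
    apply isPReducedNormal_subgroupOf_spec X Y hYX hYred (D ⊓ X) inf_le_right
    · exact le_normalizer_inf D X X (hXX'.trans hX'D) Subgroup.le_normalizer
    · intro d hd
      obtain ⟨j, hj⟩ := hDp d (Subgroup.mem_inf.1 hd).1
      exact ⟨j, Subgroup.centralizer_le (show (Y : Set H) ⊆ W from hYW) hj⟩
  have hDY : D ≤ Subgroup.centralizer (Y : Set H) := by
    intro d hd
    have hd' : g * d * g⁻¹ ∈ D := (Subgroup.mem_normalizer_iff.1 (hX'D hg) d).1 hd
    obtain ⟨b, hb, c, hc, hbc⟩ := hBcov _ hd'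
    have hb1 : g⁻¹ * b * g ∈ (T : Subgroup H) := (mem_conj_iff _ g b).1 (hBg hb)
    have hb2 : g⁻¹ * b * g ∈ D := by
      have := (Subgroup.mem_normalizer_iff.1 (hX'D (X'.inv_mem hg)) b).1 (hBD hb)
      simpa using this
    have hc1 : g⁻¹ * c * g ∈ Subgroup.centralizer (W : Set H) := by
      have := (Subgroup.mem_normalizer_iff.1 (hX'C (X'.inv_mem hg)) c).1 hc
      simpa using this
    have hdeq : d = (g⁻¹ * b * g) * (g⁻¹ * c * g) := by
      have : d = g⁻¹ * (g * d * g⁻¹) * g := by group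
      rw [this, hbc]; group
    rw [hdeq]
    exact Subgroup.mul_mem _ (hDXY (Subgroup.mem_inf.2 ⟨hb2, hTX hb1⟩))
      (Subgroup.centralizer_le (show (Y : Set H) ⊆ W from hYW) hc1)
  rw [Subgroup.le_centralizer_iff, hW, Subgroup.closure_le]
  rintro _ ⟨h, hh, y, hy, rfl⟩
  refine Subgroup.mem_centralizer_iff.2 ?_
  intro d hd
  have hd' : h⁻¹ * d * h ∈ D := by
    have := (Subgroup.mem_normalizer_iff.1 (hX'D (X'.inv_mem hh)) d).1 hd
    simpa using this
  have h2 : y * (h⁻¹ * d * h) = (h⁻¹ * d * h) * y :=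
    Subgroup.mem_centralizer_iff.1 (hDY hd') y hy
  calc d * (h * y * h⁻¹) = h * ((h⁻¹ * d * h) * y) * h⁻¹ := by group
    _ = h * (y * (h⁻¹ * d * h)) * h⁻¹ := by rw [h2]
    _ = h * y * h⁻¹ * d := by group

/-- a Sylow subgroup inside a supplement of a `p`-closed normal subgroup. -/
theorem bp_exists_sylow_le {G : Type*} [Group G] [Finite G] {p : ℕ} [Fact p.Prime]
    (X C : Subgroup G) [hCn : C.Normal] (hXC : X ⊔ C = ⊤)
    (hC : ∀ A : Subgroup G, A ≤ C → IsPGroup p A → A ≤ X) :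
    ∃ P : Sylow p G, (P : Subgroup G) ≤ X := by
  obtain ⟨Px⟩ : Nonempty (Sylow p ↥X) := inferInstance
  obtain ⟨P, hP⟩ := (Px.2.map X.subtype).exists_le_sylow
  refine ⟨P, ?_⟩
  have hsurj : Function.Surjective ((QuotientGroup.mk' C).comp X.subtype) := by
    intro q
    obtain ⟨g, rfl⟩ := QuotientGroup.mk'_surjective C q
    have hg : g ∈ X ⊔ C := by rw [hXC]; exact Subgroup.mem_top g
    obtain ⟨x, hx, c, hc, rfl⟩ := Subgroup.mem_sup_of_normal_right.1 hg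
    refine ⟨⟨x, hx⟩, ?_⟩
    show ((x : G) : G ⧸ C) = ((x * c : G) : G ⧸ C)
    rw [QuotientGroup.eq]
    simpa using hc
  obtain ⟨Q, hQ⟩ : ∃ Q : Sylow p (G ⧸ C), (Q : Subgroup (G ⧸ C)) =
      (Px : Subgroup ↥X).map ((QuotientGroup.mk' C).comp X.subtype) :=
    ⟨Px.mapSurjective hsurj, rfl⟩
  have hQle : (Q : Subgroup (G ⧸ C)) ≤ (P : Subgroup G).map (QuotientGroup.mk' C) := by
    rw [hQ]
    rintro _ ⟨x, hx, rfl⟩
    exact ⟨(x : G), hP ⟨x, hx, rfl⟩, rfl⟩
  have hQeq : (P : Subgroup G).map (QuotientGroup.mk' C) = Q := Q.3 (P.2.map _) hQle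
  intro g hg
  have h1 : (QuotientGroup.mk' C) g ∈ (Q : Subgroup (G ⧸ C)) := by
    rw [← hQeq]; exact ⟨g, hg, rfl⟩
  rw [hQ] at h1
  obtain ⟨x, hx, hxg⟩ := h1
  have h2 : (x : G)⁻¹ * g ∈ C := QuotientGroup.eq.1 hxg
  have h3 : (x : G)⁻¹ * g ∈ (P : Subgroup G) :=
    P.1.mul_mem (P.1.inv_mem (hP ⟨x, hx, rfl⟩)) hg
  have h4 : (P : Subgroup G) ⊓ C ≤ X := hC _ inf_le_right (P.2.to_le inf_le_left)
  have h5 : (x : G)⁻¹ * g ∈ X := h4 ⟨h3, h2⟩
  have : g = (x : G) * ((x : G)⁻¹ * g) := by group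
  rw [this]
  exact X.mul_mem x.2 h5

end Cfsg.Agent.Helper5
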