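import Cfsg.Agent.Helper5.BP1
import Cfsg.Agent.Helper5.PIrr
import Cfsg.Agent.Helper5.PIrr3
import Cfsg.Agent.Lead.PGroupFrattini

set_option autoImplicit false

namespace Cfsg.Agent.Helper5

variable {H : Type*} [Group H]

/-- the auxiliary family used to find a maximal member with the basic property. -/
def bpZ (p : ℕ) (T L X : Subgroup H) : Prop :=
  T ≤ X ∧ Cfsg.pCore p ↥X ≠ ⊥ ∧ Cfsg.largestPReducedOf p L ≤ Cfsg.largestPReducedOf p X ∧
    ∀ l ∈ L, ∃ x ∈ X, ∃ c ∈ Subgroup.centralizer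
      ((Cfsg.largestPReducedOf p L : Subgroup H) : Set H), l = x * c

theorem bp_max [Finite H] {p : ℕ} [Fact p.Prime] (hH : Cfsg.IsOfParabolicCharacteristic p H)
    (T : Sylow p H) (L : Subgroup H) (hTL : (T : Subgroup H) ≤ L)
    (hL : L ∈ Cfsg.charPSubgroups p H) :
    ∃ Mt : Subgroup H, bpZ p (T : Subgroup H) L Mt ∧
      (∀ X, bpZ p (T : Subgroup H) L X →
        Cfsg.largestPReducedOf p Mt ≤ Cfsg.largestPReducedOf p X →
        Cfsg.largestPReducedOf p X = Cfsg.largestPReducedOf p Mt) ∧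
      (∀ X, bpZ p (T : Subgroup H) L X → Mt ≤ X → X = Mt) := by
  have hLZ : bpZ p (T : Subgroup H) L L :=
    ⟨hTL, hL.1, le_refl _, fun l hl => ⟨l, hl, 1, Subgroup.one_mem _, (mul_one l).symm⟩⟩
  obtain ⟨X₀, hX₀, hmax⟩ := Set.exists_max_image {X : Subgroup H | bpZ p (T : Subgroup H) L X}
    (fun X => Nat.card (Cfsg.largestPReducedOf p X)) (Set.toFinite _) ⟨L, hLZ⟩
  obtain ⟨Mt, ⟨hMtZ, hMtc⟩, hmax2⟩ := Set.exists_max_image
    {X : Subgroup H | bpZ p (T : Subgroup H) L X ∧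
      Nat.card (Cfsg.largestPReducedOf p X) = Nat.card (Cfsg.largestPReducedOf p X₀)}
    (fun X => Nat.card X) (Set.toFinite _) ⟨X₀, hX₀, rfl⟩
  have hc1 : ∀ X, bpZ p (T : Subgroup H) L X →
      Cfsg.largestPReducedOf p Mt ≤ Cfsg.largestPReducedOf p X →
      Cfsg.largestPReducedOf p X = Cfsg.largestPReducedOf p Mt := by
    intro X hX hle
    refine (Subgroup.eq_of_le_of_card_ge hle ?_).symm
    rw [hMtc]
    exact hmax X hX
  refine ⟨Mt, hMtZ, hc1, ?_⟩
  intro X hX hle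
  have hXchar := bp_internal X (bp_mem_charP hH T X hX.1 hX.2.1)
  have h1 := hc1 X hX (bp_Y_mono T Mt X hMtZ.1 hle hXchar)
  have h2 : Nat.card X ≤ Nat.card Mt := hmax2 X ⟨hX, by rw [h1, hMtc]⟩
  exact (Subgroup.eq_of_le_of_card_ge hle h2).symm

theorem bp_cond5 [Finite H] {p : ℕ} [Fact p.Prime] (T : Sylow p H) (M C : Subgroup H)
    (hTM : (T : Subgroup H) ≤ M) (hCM : C ≤ M) (hMC : M ≤ Subgroup.normalizer (C : Set H))
    (hnorm : M ≤ Subgroup.normalizer (((T : Subgroup H) ⊓ C : Subgroup H) : Set H)) :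
    Cfsg.IsPClosed p ↥(C.subgroupOf M) := by
  haveI hCn : (C.subgroupOf M).Normal :=
    (Subgroup.normal_subgroupOf_iff_le_normalizer hCM).2 hMC
  apply isPClosed_of_inf_normal (T.subtype hTM) (C.subgroupOf M)
  have h1 : ((T.subtype hTM : Sylow p ↥M) : Subgroup ↥M) ⊓ C.subgroupOf M =
      ((T : Subgroup H) ⊓ C).subgroupOf M := by
    rw [Sylow.coe_subtype]
    ext x
    simp [Subgroup.mem_subgroupOf]
  rw [h1]
  exact (Subgroup.normal_subgroupOf_iff_le_normalizer (inf_le_right.trans hCM)).2 hnorm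

theorem bp_cond6 [Finite H] {p : ℕ} [Fact p.Prime] (T : Sylow p H) (M C : Subgroup H)
    (hTM : (T : Subgroup H) ≤ M) (hCM : C ≤ M) (hMC : M ≤ Subgroup.normalizer (C : Set H))
    (hcl : Cfsg.IsPClosed p ↥(C.subgroupOf M))
    (hmin : ∀ X : Subgroup H, (T : Subgroup H) ≤ X → X ≤ M → X ⊔ C = M → X = M) :
    (C.subgroupOf M).map (QuotientGroup.mk' (Cfsg.pCore p ↥M)) ≤
      frattini (↥M ⧸ Cfsg.pCore p ↥M) := by
  haveI hCn : (C.subgroupOf M).Normal :=
    (Subgroup.normal_subgroupOf_iff_le_normalizer hCM).2 hMC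
  intro x hx
  rw [Cfsg.Agent.Lead.mem_frattini_iff]
  intro K hK
  by_contra hxK
  have h1 : K ⊔ (C.subgroupOf M).map (QuotientGroup.mk' (Cfsg.pCore p ↥M)) = ⊤ := by
    apply hK.2
    apply lt_of_le_of_ne le_sup_left
    intro h
    apply hxK
    rw [h]
    exact Subgroup.mem_sup_right hx
  obtain ⟨X', hX'⟩ : ∃ X' : Subgroup ↥M,
      X' = K.comap (QuotientGroup.mk' (Cfsg.pCore p ↥M)) := ⟨_, rfl⟩
  have hNX' : Cfsg.pCore p ↥M ≤ X' := by
    intro n hn
    rw [hX']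
    show QuotientGroup.mk' (Cfsg.pCore p ↥M) n ∈ K
    have : QuotientGroup.mk' (Cfsg.pCore p ↥M) n = 1 := (QuotientGroup.eq_one_iff n).2 hn
    rw [this]
    exact K.one_mem
  have hXC : X' ⊔ C.subgroupOf M = ⊤ := by
    rw [eq_top_iff]
    intro g _
    have hg : QuotientGroup.mk' (Cfsg.pCore p ↥M) g ∈
        K ⊔ (C.subgroupOf M).map (QuotientGroup.mk' (Cfsg.pCore p ↥M)) := by
      rw [h1]; exact Subgroup.mem_top _
    have hK' : K = X'.map (QuotientGroup.mk' (Cfsg.pCore p ↥M)) := by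
      rw [hX', Subgroup.map_comap_eq_self_of_surjective (QuotientGroup.mk'_surjective _)]
    rw [hK', ← Subgroup.map_sup] at hg
    obtain ⟨y, hy, hyg⟩ := hg
    have h2 : y⁻¹ * g ∈ Cfsg.pCore p ↥M := QuotientGroup.eq.1 hyg
    have : g = y * (y⁻¹ * g) := by group
    rw [this]
    exact Subgroup.mul_mem _ hy (Subgroup.mem_sup_left (hNX' h2))
  have hCp : ∀ A : Subgroup ↥M, A ≤ C.subgroupOf M → IsPGroup p A → A ≤ X' := by
    intro A hA hAp
    have h2 := le_inf_of_isPClosed (T.subtype hTM) (C.subgroupOf M) hcl A hAp hA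
    have hn := inf_normal_of_isPClosed (T.subtype hTM) (C.subgroupOf M) hcl
    have h3 : ((T.subtype hTM : Sylow p ↥M) : Subgroup ↥M) ⊓ C.subgroupOf M ≤
        Cfsg.pCore p ↥M :=
      le_pCore _ hn ((T.subtype hTM).2.to_le inf_le_left)
    exact (h2.trans h3).trans hNX'
  obtain ⟨P, hP⟩ := bp_exists_sylow_le X' (C.subgroupOf M) hXC hCp
  obtain ⟨g, hg⟩ := sylow_conj P (T.subtype hTM)
  obtain ⟨Xh, hXh⟩ : ∃ Xh : Subgroup H, Xh = X'.map M.subtype := ⟨_, rfl⟩
  have hXhM : Xh ≤ M := by rw [hXh]; rintro _ ⟨x, -, rfl⟩; exact x.2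
  have hT : (T : Subgroup H) ≤ Xh.map (MulAut.conj (g : H)).toMonoidHom := by
    intro t ht
    have h2 : (⟨t, hTM ht⟩ : ↥M) ∈ ((T.subtype hTM : Sylow p ↥M) : Subgroup ↥M) := by
      rw [Sylow.coe_subtype]; exact ht
    rw [hg] at h2
    obtain ⟨x, hx, hxt⟩ := h2
    refine ⟨(x : H), ?_, ?_⟩
    · rw [hXh]; exact ⟨x, hP hx, rfl⟩
    · have := congrArg Subtype.val hxt
      simpa using this
  have hXhC : Xh ⊔ C = M := by
    apply le_antisymm (sup_le hXhM hCM)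
    intro m hm
    have h2 : (⟨m, hm⟩ : ↥M) ∈ X' ⊔ C.subgroupOf M := by rw [hXC]; exact Subgroup.mem_top _
    obtain ⟨x, hx, c, hc, hxc⟩ := Subgroup.mem_sup_of_normal_right.1 h2
    have hm' : m = (x : H) * (c : H) := by
      have := congrArg Subtype.val hxc
      simpa using this.symm
    rw [hm']
    exact Subgroup.mul_mem _ (Subgroup.mem_sup_left (by rw [hXh]; exact ⟨x, hx, rfl⟩))
      (Subgroup.mem_sup_right hc)
  have hgM : (g : H) ∈ M := g.2
  have hconj : Xh.map (MulAut.conj (g : H)).toMonoidHom ⊔ C = M := by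
    have h2 := congrArg (fun Z : Subgroup H => Z.map (MulAut.conj (g : H)).toMonoidHom) hXhC
    simp only [Subgroup.map_sup] at h2
    rw [conj_le_of_mem_normalizer C _ (hMC hgM),
      conj_le_of_mem_normalizer M _ (Subgroup.le_normalizer hgM)] at h2
    exact h2
  have hle : Xh.map (MulAut.conj (g : H)).toMonoidHom ≤ M := le_sup_left.trans hconj.le
  have h3 := hmin _ hT hle hconj
  have hMXh : M ≤ Xh := by
    intro m hm
    have h4 : (g : H) * m * (g : H)⁻¹ ∈ Xh.map (MulAut.conj (g : H)).toMonoidHom := by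
      rw [h3]; exact M.mul_mem (M.mul_mem hgM hm) (M.inv_mem hgM)
    have h5 := (mem_conj_iff Xh _ _).1 h4
    simpa [mul_assoc] using h5
  apply hK.1
  rw [eq_top_iff]
  intro q _
  obtain ⟨y, rfl⟩ := QuotientGroup.mk'_surjective (Cfsg.pCore p ↥M) q
  have h6 : (y : H) ∈ Xh := hMXh y.2
  rw [hXh] at h6
  obtain ⟨x, hx, hxy⟩ := h6
  have hxy' : x = y := Subtype.ext hxy
  rw [hxy', hX'] at hx
  exact hx

end Cfsg.Agent.Helper5
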