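import Mathlib
import Cfsg.Prelude.Def_LocalStructure
import Cfsg.Agent.Helper5.Basic
import Cfsg.Agent.Helper5.StrEmb
import Cfsg.Agent.Helper5.PIrr
import Cfsg.Agent.Helper5.PIrr3

set_option autoImplicit false

namespace Cfsg.Agent.Helper5

open scoped commutatorElement Pointwise

theorem isPClosed_of_mulEquiv {X Y : Type*} [Group X] [Group Y] [Finite X] {p : ℕ}
    [Fact p.Prime] (e : X ≃* Y) (h : Cfsg.IsPClosed p X) : Cfsg.IsPClosed p Y := by
  haveI : Finite Y := Finite.of_equiv X e.toEquiv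
  intro Q
  have hQ' : IsPGroup p ((Q : Subgroup Y).comap e.toMonoidHom) :=
    Q.2.comap_of_injective e.toMonoidHom e.injective
  obtain ⟨P', hP'⟩ := hQ'.exists_le_sylow
  haveI hn : (P' : Subgroup X).Normal := h P'
  have h1 : (Q : Subgroup Y) ≤ (P' : Subgroup X).map e.toMonoidHom := by
    intro y hy
    refine ⟨e.symm y, hP' ?_, ?_⟩
    · show e.toMonoidHom (e.symm y) ∈ (Q : Subgroup Y)
      have e1 : e.toMonoidHom (e.symm y) = y := e.apply_symm_apply y
      rw [e1]; exact hy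
    · exact e.apply_symm_apply y
  have h2 : IsPGroup p ((P' : Subgroup X).map e.toMonoidHom) := P'.2.map _
  have h3 : (Q : Subgroup Y) = (P' : Subgroup X).map e.toMonoidHom :=
    (Q.3 h2 h1).symm
  rw [h3]
  exact Subgroup.Normal.map hn _ e.surjective

/-- abstract form: `C` a normal subgroup of the `p`-irreducible group `X` not containing
`O^p(X)`. -/
theorem pirr_cent {X : Type*} [Group X] [Finite X] {p : ℕ} [Fact p.Prime]
    (hX : Cfsg.IsPIrreducible p X) (C : Subgroup X) [hC : C.Normal]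
    (hnc : ¬ Cfsg.pResidual p X ≤ C) :
    Cfsg.IsPClosed p ↥C ∧ (∀ T : Subgroup X, IsPGroup p ↥T → T ⊓ C ≤ Cfsg.pCore p X) ∧
      (Cfsg.pCore p X ≤ C → Cfsg.pCore p (X ⧸ C) = ⊥) := by
  have hcl : Cfsg.IsPClosed p ↥C := by
    by_contra h
    exact hnc (hX.2 C hC h)
  obtain ⟨S⟩ : Nonempty (Sylow p X) := inferInstance
  refine ⟨hcl, ?_, ?_⟩
  · intro T hT
    have h1 := le_inf_of_isPClosed S C hcl (T ⊓ C) (hT.to_le inf_le_left) inf_le_right
    have h2 := inf_normal_of_isPClosed S C hcl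
    exact h1.trans (le_pCore _ h2 (S.2.to_le inf_le_left))
  · intro hOC
    have hsurj := QuotientGroup.mk'_surjective C
    haveI hPn := pCore_normal p (X ⧸ C)
    obtain ⟨D, hD⟩ : ∃ D : Subgroup X, D = (Cfsg.pCore p (X ⧸ C)).comap (QuotientGroup.mk' C) :=
      ⟨_, rfl⟩
    haveI hDn : D.Normal := hD ▸ Subgroup.Normal.comap hPn _
    have hCD : C ≤ D := by
      intro c hc
      rw [hD, Subgroup.mem_comap]
      have : QuotientGroup.mk' C c = 1 := (QuotientGroup.eq_one_iff c).2 hc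
      rw [this]; exact Subgroup.one_mem _
    have hDcl : Cfsg.IsPClosed p ↥D := by
      by_contra h
      have hRD := hX.2 D hDn h
      apply hnc
      unfold Cfsg.pResidual
      rw [Subgroup.closure_le]
      intro x hx
      have hxD : x ∈ D := hRD (Subgroup.subset_closure hx)
      rw [hD, Subgroup.mem_comap] at hxD
      have hxp : IsPGroup p ↥(Cfsg.pCore p (X ⧸ C)) := pCore_isPGroup
      obtain ⟨k, hk⟩ := hxp ⟨_, hxD⟩
      have hk' : (QuotientGroup.mk' C x) ^ p ^ k = 1 := by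
        have := congrArg Subtype.val hk
        simpa using this
      have h1 : orderOf (QuotientGroup.mk' C x) ∣ p ^ k := orderOf_dvd_of_pow_eq_one hk'
      have h2 : orderOf (QuotientGroup.mk' C x) ∣ orderOf x := orderOf_map_dvd _ x
      have hx' : (orderOf x).Coprime p := hx
      have h3 : orderOf (QuotientGroup.mk' C x) ∣ Nat.gcd (orderOf x) (p ^ k) :=
        Nat.dvd_gcd h2 h1
      rw [Nat.Coprime.pow_right k hx', Nat.dvd_one, orderOf_eq_one_iff] at h3
      exact (QuotientGroup.eq_one_iff x).1 h3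
    have hSD : (S : Subgroup X) ⊓ D ≤ C :=
      (le_pCore _ (inf_normal_of_isPClosed S D hDcl) (S.2.to_le inf_le_left)).trans hOC
    have hDC : D ≤ C := by
      intro d hd
      have h1 : Cfsg.pCore p (X ⧸ C) ≤ ((S.mapSurjective hsurj : Sylow p (X ⧸ C)) : Subgroup _) :=
        pCore_le_sylow _
      rw [Sylow.coe_mapSurjective] at h1
      have h2 : d ∈ ((S : Subgroup X).map (QuotientGroup.mk' C)).comap (QuotientGroup.mk' C) := by
        rw [Subgroup.mem_comap]
        rw [hD, Subgroup.mem_comap] at hd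
        exact h1 hd
      rw [Subgroup.comap_map_eq, QuotientGroup.ker_mk'] at h2
      obtain ⟨s, hs, c, hc, rfl⟩ := Subgroup.mem_sup_of_normal_right.1 h2
      have hsD : s ∈ D := by
        have := D.mul_mem hd (D.inv_mem (hCD hc))
        rwa [mul_inv_cancel_right] at this
      exact C.mul_mem (hSD ⟨hs, hsD⟩) hc
    rw [eq_bot_iff]
    intro y hy
    obtain ⟨x, rfl⟩ := hsurj y
    have hxD : x ∈ D := by rw [hD, Subgroup.mem_comap]; exact hy
    rw [Subgroup.mem_bot]
    exact (QuotientGroup.eq_one_iff x).2 (hDC hxD)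

theorem pirr_cent_sub {G : Type*} [Group G] [Finite G] {p : ℕ} [Fact p.Prime] (V H : Subgroup G)
    (hH : Cfsg.IsPIrreducible p ↥H)
    (hnc : ¬ (Cfsg.pResidual p ↥H).map H.subtype ≤ Subgroup.centralizer (V : Set G))
    [hn : ((Subgroup.centralizer (V : Set G)).subgroupOf H).Normal] :
    Cfsg.IsPClosed p ↥(H ⊓ Subgroup.centralizer (V : Set G)) ∧
    (∀ T : Subgroup G, T ≤ H → IsPGroup p ↥T →
      T ⊓ Subgroup.centralizer (V : Set G) ≤ Cfsg.pCoreOf p H) ∧
    (Cfsg.pCoreOf p H ≤ Subgroup.centralizer (V : Set G) →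
      (∀ T : Subgroup G, T ≤ H → IsPGroup p ↥T →
        T ⊓ Subgroup.centralizer (V : Set G) = T ⊓ Cfsg.pCoreOf p H) ∧
      Cfsg.pCore p (↥H ⧸ (Subgroup.centralizer (V : Set G)).subgroupOf H) = ⊥) := by
  have hnc' : ¬ Cfsg.pResidual p ↥H ≤ (Subgroup.centralizer (V : Set G)).subgroupOf H := by
    intro h
    apply hnc
    rintro _ ⟨x, hx, rfl⟩
    exact Subgroup.mem_subgroupOf.1 (h hx)
  obtain ⟨h1, h2, h3⟩ := pirr_cent hH ((Subgroup.centralizer (V : Set G)).subgroupOf H) hnc'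
  have hb : ∀ T : Subgroup G, T ≤ H → IsPGroup p ↥T →
      T ⊓ Subgroup.centralizer (V : Set G) ≤ Cfsg.pCoreOf p H := by
    intro T hTH hT x hx
    have h4 : (⟨x, hTH hx.1⟩ : ↥H) ∈ T.subgroupOf H ⊓
        (Subgroup.centralizer (V : Set G)).subgroupOf H :=
      ⟨Subgroup.mem_subgroupOf.2 hx.1, Subgroup.mem_subgroupOf.2 hx.2⟩
    exact ⟨⟨x, hTH hx.1⟩, h2 _ (hT.comap_of_injective H.subtype H.subtype_injective) h4, rfl⟩
  refine ⟨?_, hb, ?_⟩
  · have e1 : (Subgroup.centralizer (V : Set G)).subgroupOf H =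
        (H ⊓ Subgroup.centralizer (V : Set G)).subgroupOf H := by
      rw [Subgroup.inf_subgroupOf_left]
    have e2 : ↥((Subgroup.centralizer (V : Set G)).subgroupOf H) ≃*
        ↥(H ⊓ Subgroup.centralizer (V : Set G)) :=
      (MulEquiv.subgroupCongr e1).trans (Subgroup.subgroupOfEquivOfLe inf_le_left)
    exact isPClosed_of_mulEquiv e2 h1
  · intro hO
    have hO' : Cfsg.pCore p ↥H ≤ (Subgroup.centralizer (V : Set G)).subgroupOf H := by
      intro x hx
      rw [Subgroup.mem_subgroupOf]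
      exact hO ⟨x, hx, rfl⟩
    refine ⟨?_, h3 hO'⟩
    intro T hTH hT
    apply le_antisymm
    · exact le_inf inf_le_left (hb T hTH hT)
    · exact le_inf inf_le_left (inf_le_right.trans hO)

end Cfsg.Agent.Helper5
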