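import Cfsg.Agent.Helper5.BP2
import Cfsg.Agent.Helper5.PIrrCent
import Cfsg.Agent.Helper5.PRed6
import Cfsg.Agent.S2822
import Cfsg.Agent.S2824

set_option autoImplicit false
set_option maxHeartbeats 1000000

namespace Cfsg.Agent.Helper5

variable {H : Type*} [Group H]

/-- existence of a subgroup with the basic property above a given member of the
characteristic-`p` family. -/
theorem bp_main [Finite H] {p : ℕ} [Fact p.Prime] (hH : Cfsg.IsOfParabolicCharacteristic p H)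
    (T : Sylow p H) (L : Subgroup H) (hTL : (T : Subgroup H) ≤ L)
    (hL : L ∈ Cfsg.charPSubgroups p H) :
    ∃ M Ls : Subgroup H, (T : Subgroup H) ≤ M ∧ Cfsg.IsInFrakM p M ∧ (T : Subgroup H) ≤ Ls ∧
      Ls ≤ M ∧ Ls ∈ Cfsg.charPSubgroups p H ∧
      (Cfsg.largestPReducedOf p L) = (Cfsg.largestPReducedOf p Ls) ∧
      (Cfsg.largestPReducedOf p L) ≤ (Cfsg.largestPReducedOf p M) ∧
      L ⊔ Subgroup.centralizer (((Cfsg.largestPReducedOf p L) : Subgroup H) : Set H) =
        Ls ⊔ Subgroup.centralizer (((Cfsg.largestPReducedOf p L) : Subgroup H) : Set H) := by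
  obtain ⟨Mt, hMtZ, hc1, hc2⟩ := bp_max hH T L hTL hL
  obtain ⟨hTMt, hMtne, hYLMt, hLprod⟩ := hMtZ
  have hchar : ∀ X : Subgroup H, (T : Subgroup H) ≤ X → Cfsg.pCore p ↥X ≠ ⊥ →
      X ∈ Cfsg.charPSubgroups p H := fun X h1 h2 => bp_mem_charP hH T X h1 h2
  have hint : ∀ X : Subgroup H, (T : Subgroup H) ≤ X → Cfsg.pCore p ↥X ≠ ⊥ →
      Subgroup.centralizer (Cfsg.pCore p ↥X : Set ↥X) ≤ Cfsg.pCore p ↥X :=
    fun X h1 h2 => bp_internal X (hchar X h1 h2)
  have hTne : (T : Subgroup H) ≠ ⊥ := bp_sylow_ne_bot T L hTL hL.1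
  have hmono : ∀ X X' : Subgroup H, (T : Subgroup H) ≤ X → X ≤ X' → Cfsg.pCore p ↥X' ≠ ⊥ →
      Cfsg.largestPReducedOf p X ≤ Cfsg.largestPReducedOf p X' :=
    fun X X' h1 h2 h3 => bp_Y_mono T X X' h1 h2 (hint X' (h1.trans h2) h3)
  have hdag : ∀ X : Subgroup H, (T : Subgroup H) ≤ X → Cfsg.pCore p ↥X ≠ ⊥ →
      Cfsg.pCore p ↥(X ⊔ Subgroup.centralizer
        ((Cfsg.largestPReducedOf p X : Subgroup H) : Set H) : Subgroup H) ≠ ⊥ := by
    intro X h1 h2
    apply bp_pCore_ne_bot _ (Cfsg.largestPReducedOf p X)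
      ((largestPReducedOf_le p X).trans le_sup_left)
    · exact sup_le (le_normalizer_largestPReducedOf p X) (Subgroup.centralizer_le_normalizer _)
    · exact isPGroup_of_isElementaryAbelian _ (largestPReducedOf_isElementaryAbelian p X)
    · exact bp_Y_ne_bot T X h1 (hint X h1 h2) hTne
  obtain ⟨Y, hY⟩ : ∃ Y : Subgroup H, Y = Cfsg.largestPReducedOf p Mt := ⟨_, rfl⟩
  have hZup : ∀ X : Subgroup H, Mt ≤ X → Cfsg.pCore p ↥X ≠ ⊥ → bpZ p (T : Subgroup H) L X := by
    intro X h1 h2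
    refine ⟨hTMt.trans h1, h2, hYLMt.trans (hmono Mt X hTMt h1 h2), ?_⟩
    intro l hl
    obtain ⟨x, hx, c, hc, rfl⟩ := hLprod l hl
    exact ⟨x, h1 hx, c, hc, rfl⟩
  have hCMt : Subgroup.centralizer (Y : Set H) ≤ Mt := by
    have h1 := hc2 _ (hZup _ le_sup_left (hdag Mt hTMt hMtne)) le_sup_left
    rw [← hY] at h1
    exact le_sup_right.trans h1.le
  have hMtchar : Mt ∈ Cfsg.charPSubgroups p H := hchar Mt hTMt hMtne
  have hMtmax : Mt ∈ Cfsg.maxCharPSubgroups p H := by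
    refine ⟨hMtchar, ?_⟩
    intro X hX hle
    exact hc2 X (hZup X hle hX.1) hle
  obtain ⟨M, ⟨hTM, hMMt, hMC⟩, hMmin'⟩ := Set.Finite.exists_minimalFor
    (fun X : Subgroup H => Nat.card X)
    {X : Subgroup H | (T : Subgroup H) ≤ X ∧ X ≤ Mt ∧
      X ⊔ Subgroup.centralizer (Y : Set H) = Mt} (Set.toFinite _)
    ⟨Mt, hTMt, le_refl _, sup_eq_left.2 hCMt⟩
  have hMmin : ∀ X : Subgroup H, (T : Subgroup H) ≤ X → X ≤ M →
      X ⊔ Subgroup.centralizer (Y : Set H) = Mt → X = M := by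
    intro X h1 h2 h3
    exact Subgroup.eq_of_le_of_card_ge h2
      (hMmin' ⟨h1, h2.trans hMMt, h3⟩ (Subgroup.card_le_of_le h2))
  have hMne : Cfsg.pCore p ↥M ≠ ⊥ := by
    apply bp_pCore_ne_bot M ((Cfsg.pCore p ↥Mt).map Mt.subtype)
      ((bp_pCoreOf_le_sylow T Mt hTMt).trans hTM) (hMMt.trans (le_normalizer_pCoreMap p Mt))
      (pCoreMap_isPGroup Mt)
    intro h
    exact hMtne ((Subgroup.map_eq_bot_iff_of_injective _ Mt.subtype_injective).1 h)
  have hMchar : M ∈ Cfsg.charPSubgroups p H := hchar M hTM hMne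
  have hYM : Cfsg.largestPReducedOf p M = Y := by
    apply le_antisymm
    · rw [hY]; exact hmono M Mt hTM hMMt hMtne
    · rw [hY]
      apply Cfsg.Agent.S2822.result T M Mt hTM hTMt (hint M hTM hMne) (hint Mt hTMt hMtne)
      rw [← hY, hMC]; exact (sup_eq_left.2 hCMt).symm
  have hdagM : M ⊔ Subgroup.centralizer ((Cfsg.largestPReducedOf p M : Subgroup H) : Set H) =
      Mt := by rw [hYM]; exact hMC
  have hMtY : Mt ≤ Subgroup.normalizer (Y : Set H) := by
    rw [hY]; exact le_normalizer_largestPReducedOf p Mt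
  have hMNC : M ≤ Subgroup.normalizer
      ((Subgroup.centralizer (Y : Set H) : Subgroup H) : Set H) :=
    (hMMt.trans hMtY).trans (normalizer_le_normalizer_centralizer Y)
  have hYLY : Cfsg.largestPReducedOf p L ≤ Y := by rw [hY]; exact hYLMt
  have hCC : Subgroup.centralizer (Y : Set H) ≤
      Subgroup.centralizer ((Cfsg.largestPReducedOf p L : Subgroup H) : Set H) :=
    Subgroup.centralizer_le (show ((Cfsg.largestPReducedOf p L : Subgroup H) : Set H) ⊆ Y
      from hYLY)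
  -- `L ⊆ M * C(Y_L)`
  have hLprodM : ∀ l ∈ L, ∃ m ∈ M, ∃ c ∈ Subgroup.centralizer
      ((Cfsg.largestPReducedOf p L : Subgroup H) : Set H), l = m * c := by
    intro l hl
    obtain ⟨x, hx, c, hc, rfl⟩ := hLprod l hl
    have hx' : x ∈ M ⊔ Subgroup.centralizer (Y : Set H) := by rw [hMC]; exact hx
    obtain ⟨m, hm, c', hc', rfl⟩ := bp_mem_sup M _ hMNC hx'
    exact ⟨m, hm, c' * c, Subgroup.mul_mem _ (hCC hc') hc, by rw [mul_assoc]⟩
  -- the subgroup `C_M(Y)`
  obtain ⟨C₀, hC₀⟩ : ∃ C₀ : Subgroup H, C₀ = M ⊓ Subgroup.centralizer (Y : Set H) := ⟨_, rfl⟩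
  have hC₀M : C₀ ≤ M := by rw [hC₀]; exact inf_le_left
  have hC₀C : C₀ ≤ Subgroup.centralizer (Y : Set H) := by rw [hC₀]; exact inf_le_right
  have hMC₀ : M ≤ Subgroup.normalizer (C₀ : Set H) := by
    rw [hC₀]; exact le_normalizer_inf M _ M Subgroup.le_normalizer hMNC
  have hminC : ∀ X : Subgroup H, (T : Subgroup H) ≤ X → X ≤ M → X ⊔ C₀ = M → X = M := by
    intro X h1 h2 h3
    apply hMmin X h1 h2
    apply le_antisymm (sup_le (h2.trans hMMt) hCMt)
    rw [← hMC, ← h3]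
    exact sup_le (sup_le le_sup_left (hC₀C.trans le_sup_right)) le_sup_right
  have hnormT : M ≤ Subgroup.normalizer (((T : Subgroup H) ⊓ C₀ : Subgroup H) : Set H) := by
    have hfr := frattini_ambient M C₀ hC₀M hMC₀ T hTM
    have h1 : M ⊓ Subgroup.normalizer (((T : Subgroup H) ⊓ C₀ : Subgroup H) : Set H) = M := by
      apply hminC _ _ inf_le_left
      · apply le_antisymm (sup_le inf_le_left hC₀M)
        intro m hm
        obtain ⟨a, ha, k, hk, rfl⟩ := hfr m hm
        exact Subgroup.mul_mem _ (Subgroup.mem_sup_left ha) (Subgroup.mem_sup_right hk)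
      · apply le_inf hTM
        exact le_normalizer_inf _ _ _ Subgroup.le_normalizer (hTM.trans hMC₀)
    exact inf_eq_left.1 h1
  have hcl : Cfsg.IsPClosed p ↥(C₀.subgroupOf M) := bp_cond5 T M C₀ hTM hC₀M hMC₀ hnormT
  have hfrak : Cfsg.IsInFrakM p M := by
    refine ⟨hMchar, ?_, ?_, ?_, ?_, ?_⟩
    · rw [hdagM]; exact hMtmax
    · intro X hX hMX
      rw [hdagM]
      have hXZ : bpZ p (T : Subgroup H) L X := by
        refine ⟨hTM.trans hMX, hX.1.1, ?_, ?_⟩
        · calc Cfsg.largestPReducedOf p L ≤ Y := hYLY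
            _ = Cfsg.largestPReducedOf p M := hYM.symm
            _ ≤ Cfsg.largestPReducedOf p X := hmono M X hTM hMX hX.1.1
        · intro l hl
          obtain ⟨m, hm, c, hc, rfl⟩ := hLprodM l hl
          exact ⟨m, hMX hm, c, hc, rfl⟩
      have hYX : Cfsg.largestPReducedOf p X = Y := by
        rw [hY]; apply hc1 X hXZ
        rw [← hY, ← hYM]; exact hmono M X hTM hMX hX.1.1
      have hXd := hX.2 _ (hchar _ ((hTM.trans hMX).trans le_sup_left)
        (hdag X (hTM.trans hMX) hX.1.1)) le_sup_left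
      have hCX : Subgroup.centralizer (Y : Set H) ≤ X := by
        rw [← hYX]; exact le_sup_right.trans hXd.le
      have hMtX : Mt ≤ X := by rw [← hMC]; exact sup_le hMX hCX
      exact hMtmax.2 X hX.1 hMtX
    · rw [hdagM, hYM]; exact hY
    · rw [hYM, ← hC₀]
      exact isPClosed_of_mulEquiv (Subgroup.subgroupOfEquivOfLe hC₀M) hcl
    · rw [hYM, ← hC₀]
      exact bp_cond6 T M C₀ hTM hC₀M hMC₀ hcl hminC
  -- the subgroup `L*`
  obtain ⟨YL, hYL⟩ : ∃ YL : Subgroup H, YL = Cfsg.largestPReducedOf p L := ⟨_, rfl⟩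
  have hLint := bp_internal L hL
  have hYLp : IsPGroup p YL := by
    rw [hYL]
    exact isPGroup_of_isElementaryAbelian _ (largestPReducedOf_isElementaryAbelian p L)
  have hLN : L ≤ Subgroup.normalizer (YL : Set H) := by
    rw [hYL]; exact le_normalizer_largestPReducedOf p L
  have hYLT : YL ≤ (T : Subgroup H) := by
    have h1 : YL ≤ (Cfsg.pCore p ↥L).map L.subtype :=
      le_pCoreMap L YL (by rw [hYL]; exact largestPReducedOf_le p L) hLN hYLp
    exact h1.trans (bp_pCoreOf_le_sylow T L hTL)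
  have hYLne : YL ≠ ⊥ := by rw [hYL]; exact bp_Y_ne_bot T L hTL hLint hTne
  obtain ⟨M', hM'⟩ : ∃ M' : Subgroup H,
      M' = M ⊓ (L ⊔ Subgroup.centralizer (YL : Set H)) := ⟨_, rfl⟩
  have hTM' : (T : Subgroup H) ≤ M' := by
    rw [hM']; exact le_inf hTM (hTL.trans le_sup_left)
  have hM'N : M' ≤ Subgroup.normalizer (YL : Set H) := by
    rw [hM']
    exact inf_le_right.trans (sup_le hLN (Subgroup.centralizer_le_normalizer _))
  have hM'ne : Cfsg.pCore p ↥M' ≠ ⊥ :=
    bp_pCore_ne_bot M' YL (hYLT.trans hTM') hM'N hYLp hYLne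
  have hfac : M' ⊔ Subgroup.centralizer (YL : Set H) =
      L ⊔ Subgroup.centralizer (YL : Set H) := by
    apply le_antisymm
    · rw [hM']; exact sup_le inf_le_right le_sup_right
    · apply sup_le _ le_sup_right
      intro l hl
      obtain ⟨m, hm, c, hc, rfl⟩ := hLprodM l hl
      rw [← hYL] at hc
      have hm' : m ∈ L ⊔ Subgroup.centralizer (YL : Set H) := by
        have : m = (m * c) * c⁻¹ := by group
        rw [this]
        exact Subgroup.mul_mem _ (Subgroup.mem_sup_left hl)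
          (Subgroup.inv_mem _ (Subgroup.mem_sup_right hc))
      refine Subgroup.mul_mem _ (Subgroup.mem_sup_left ?_) (Subgroup.mem_sup_right hc)
      rw [hM']
      exact ⟨hm, hm'⟩
  rw [hYL] at hfac
  obtain ⟨h1, h2⟩ := Cfsg.Agent.S2824.result T L M' hTL hTM' hLint (hint M' hTM' hM'ne) _ rfl
    hfac _ rfl
  have hTLs : (T : Subgroup H) ≤ M' ⊓ Subgroup.normalizer
      ((((T : Subgroup H) ⊓ Subgroup.centralizer
        ((Cfsg.largestPReducedOf p L : Subgroup H) : Set H) : Subgroup H)) : Set H) := by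
    apply le_inf hTM'
    apply le_normalizer_inf _ _ _ Subgroup.le_normalizer
    exact (hTL.trans (le_normalizer_largestPReducedOf p L)).trans
      (normalizer_le_normalizer_centralizer _)
  refine ⟨M, _, hTM, hfrak, hTLs, ?_, ?_, h1.symm, ?_, h2⟩
  · rw [hM']; exact inf_le_left.trans inf_le_left
  · apply hchar _ hTLs
    exact bp_pCore_ne_bot _ YL (hYLT.trans hTLs) (inf_le_left.trans hM'N) hYLp hYLne
  · rw [hYM]; exact hYLY

end Cfsg.Agent.Helper5
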