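import Mathlib
import Cfsg.Prelude
import Cfsg.Agent.Helper5.CD

set_option autoImplicit false

namespace Cfsg.Agent.Helper5

open scoped Pointwise

theorem measure_le_maxCentralizerProduct {S : Type*} [Group S] [Finite S] (X : Subgroup S) :
    Nat.card X * Nat.card (Subgroup.centralizer (X : Set S)) ≤ Cfsg.maxCentralizerProduct S := by
  apply le_csSup
  · refine ⟨Nat.card S * Nat.card S, ?_⟩
    rintro k ⟨R, rfl⟩
    exact Nat.mul_le_mul (Subgroup.card_le_card_group _) (Subgroup.card_le_card_group _)
  · exact ⟨X, rfl⟩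

/-- the centralizer of a subgroup of largest measure has largest measure, and the double
centralizer is the subgroup. -/
theorem centralizerLarge_centralizer {S : Type*} [Group S] [Finite S] (X : Subgroup S)
    (hX : Cfsg.IsCentralizerLarge X) :
    Cfsg.IsCentralizerLarge (Subgroup.centralizer (X : Set S)) ∧
      X = Subgroup.centralizer ((Subgroup.centralizer (X : Set S) : Subgroup S) : Set S) := by
  have h1 : X ≤ Subgroup.centralizer ((Subgroup.centralizer (X : Set S) : Subgroup S) : Set S) :=
    Subgroup.le_centralizer_iff.1 le_rfl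
  have h2 := measure_le_maxCentralizerProduct (Subgroup.centralizer (X : Set S))
  have h3 : Nat.card X ≤
      Nat.card (Subgroup.centralizer ((Subgroup.centralizer (X : Set S) : Subgroup S) : Set S)) :=
    Subgroup.card_le_of_le h1
  have hX' : Nat.card X * Nat.card (Subgroup.centralizer (X : Set S)) =
      Cfsg.maxCentralizerProduct S := hX
  have h4 : Nat.card (Subgroup.centralizer (X : Set S)) *
      Nat.card (Subgroup.centralizer ((Subgroup.centralizer (X : Set S) : Subgroup S) : Set S)) =
      Cfsg.maxCentralizerProduct S := by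
    apply le_antisymm h2
    rw [← hX', mul_comm]
    exact Nat.mul_le_mul_left _ h3
  refine ⟨h4, ?_⟩
  have h5 : Nat.card X =
      Nat.card (Subgroup.centralizer ((Subgroup.centralizer (X : Set S) : Subgroup S) : Set S)) := by
    have h6 : Nat.card (Subgroup.centralizer (X : Set S)) * Nat.card X =
        Nat.card (Subgroup.centralizer (X : Set S)) *
          Nat.card (Subgroup.centralizer
            ((Subgroup.centralizer (X : Set S) : Subgroup S) : Set S)) := by
      rw [mul_comm, hX', h4]
    exact Nat.eq_of_mul_eq_mul_left Nat.card_pos h6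
  exact Subgroup.eq_of_le_of_card_ge h1 h5.ge

theorem cd_lattice {S : Type*} [Group S] [Finite S] (Q R : Subgroup S)
    (hQ : Cfsg.IsCentralizerLarge Q) (hR : Cfsg.IsCentralizerLarge R) :
    ((Q ⊔ R : Subgroup S) : Set S) = (Q : Set S) * (R : Set S) ∧
    Cfsg.IsCentralizerLarge (Q ⊔ R) ∧ Cfsg.IsCentralizerLarge (Q ⊓ R) ∧
    Cfsg.IsCentralizerLarge (Subgroup.centralizer (Q : Set S)) ∧
    Q = Subgroup.centralizer ((Subgroup.centralizer (Q : Set S) : Subgroup S) : Set S) ∧
    ((Subgroup.centralizer (Q : Set S) ⊔ Subgroup.centralizer (R : Set S) : Subgroup S) : Set S) =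
      (Subgroup.centralizer (Q : Set S) : Set S) * (Subgroup.centralizer (R : Set S) : Set S) ∧
    Subgroup.centralizer ((Q ⊓ R : Subgroup S) : Set S) =
      Subgroup.centralizer (Q : Set S) ⊔ Subgroup.centralizer (R : Set S) := by
  have hmax := measure_le_maxCentralizerProduct (S := S)
  obtain ⟨k1, k2, k3, k4⟩ := cd_key Q R _ hmax hQ hR
  obtain ⟨hCQ, hQQ⟩ := centralizerLarge_centralizer Q hQ
  obtain ⟨hCR, -⟩ := centralizerLarge_centralizer R hR
  obtain ⟨-, -, j3, -⟩ := cd_key (Subgroup.centralizer (Q : Set S))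
    (Subgroup.centralizer (R : Set S)) _ hmax hCQ hCR
  refine ⟨k3, k1, k2, hCQ, hQQ, j3, ?_⟩
  apply SetLike.coe_injective
  rw [k4, j3]

end Cfsg.Agent.Helper5
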