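import Mathlib
import Cfsg.Prelude
import Cfsg.Agent.Helper5.CD2

set_option autoImplicit false

namespace Cfsg.Agent.Helper5

open scoped Pointwise

theorem card_center_eq_card_inf_centralizer {S : Type*} [Group S] (Q : Subgroup S) :
    Nat.card (Subgroup.center ↥Q) =
      Nat.card (Q ⊓ Subgroup.centralizer (Q : Set S) : Subgroup S) := by
  apply Nat.card_congr
  refine ⟨fun z => ⟨z.1.1, Subgroup.mem_inf.2 ⟨z.1.2, ?_⟩⟩,
    fun y => ⟨⟨y.1, (Subgroup.mem_inf.1 y.2).1⟩, ?_⟩, ?_, ?_⟩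
  · rw [Subgroup.mem_centralizer_iff]
    intro h hh
    have h1 := Subgroup.mem_center_iff.1 z.2 ⟨h, hh⟩
    exact congrArg Subtype.val h1
  · rw [Subgroup.mem_center_iff]
    intro g
    apply Subtype.ext
    exact Subgroup.mem_centralizer_iff.1 (Subgroup.mem_inf.1 y.2).2 g.1 g.2
  · intro z; rfl
  · intro y; rfl

theorem isCentrallyLarge_iff {S : Type*} [Group S] (Q : Subgroup S) :
    Cfsg.IsCentrallyLarge Q ↔
      Nat.card Q * Nat.card (Q ⊓ Subgroup.centralizer (Q : Set S) : Subgroup S) =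
        Cfsg.maxCentralProduct S := by
  unfold Cfsg.IsCentrallyLarge
  rw [card_center_eq_card_inf_centralizer]

theorem central_le_maxCentralProduct {S : Type*} [Group S] [Finite S] (X : Subgroup S) :
    Nat.card X * Nat.card (X ⊓ Subgroup.centralizer (X : Set S) : Subgroup S) ≤
      Cfsg.maxCentralProduct S := by
  apply le_csSup
  · refine ⟨Nat.card S * Nat.card S, ?_⟩
    rintro k ⟨R, rfl⟩
    exact Nat.mul_le_mul (Subgroup.card_le_card_group _)
      ((Subgroup.card_le_card_group _).trans (Subgroup.card_le_card_group R))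
  · exact ⟨X, by rw [card_center_eq_card_inf_centralizer]⟩

theorem exists_isCentralizerLarge (S : Type*) [Group S] [Finite S] :
    ∃ R : Subgroup S, Cfsg.IsCentralizerLarge R := by
  have h := Nat.sSup_mem (s := {k : ℕ | ∃ R : Subgroup S,
      Nat.card ↥R * Nat.card ↥(Subgroup.centralizer (R : Set S)) = k}) ⟨_, ⟨⊥, rfl⟩⟩
    ⟨Nat.card S * Nat.card S, by
      rintro k ⟨R, rfl⟩
      exact Nat.mul_le_mul (Subgroup.card_le_card_group _) (Subgroup.card_le_card_group _)⟩
  obtain ⟨R, hR⟩ := h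
  exact ⟨R, hR⟩

theorem exists_isCentrallyLarge (S : Type*) [Group S] [Finite S] :
    ∃ R : Subgroup S, Cfsg.IsCentrallyLarge R := by
  have h := Nat.sSup_mem (s := {k : ℕ | ∃ R : Subgroup S,
      Nat.card ↥R * Nat.card ↥(Subgroup.center ↥R) = k}) ⟨_, ⟨⊥, rfl⟩⟩
    ⟨Nat.card S * Nat.card S, by
      rintro k ⟨R, rfl⟩
      exact Nat.mul_le_mul (Subgroup.card_le_card_group _)
        ((Subgroup.card_le_card_group _).trans (Subgroup.card_le_card_group R))⟩
  obtain ⟨R, hR⟩ := h
  exact ⟨R, hR⟩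

theorem maxCentralProduct_eq (S : Type*) [Group S] [Finite S] :
    Cfsg.maxCentralProduct S = Cfsg.maxCentralizerProduct S := by
  apply le_antisymm
  · obtain ⟨R, hR⟩ := exists_isCentrallyLarge S
    rw [isCentrallyLarge_iff] at hR
    rw [← hR]
    exact (Nat.mul_le_mul_left _ (Subgroup.card_le_of_le inf_le_right)).trans
      (measure_le_maxCentralizerProduct R)
  · obtain ⟨R, hR⟩ := exists_isCentralizerLarge S
    obtain ⟨hCR, -⟩ := centralizerLarge_centralizer R hR
    obtain ⟨-, hT, -⟩ := cd_lattice R (Subgroup.centralizer (R : Set S)) hR hCR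
    have hCT : Subgroup.centralizer ((R ⊔ Subgroup.centralizer (R : Set S) : Subgroup S) : Set S) ≤
        R ⊔ Subgroup.centralizer (R : Set S) := by
      rw [centralizer_sup_eq]
      exact inf_le_left.trans le_sup_right
    have h1 := central_le_maxCentralProduct (R ⊔ Subgroup.centralizer (R : Set S))
    rw [inf_eq_right.2 hCT] at h1
    have hT' : Nat.card (R ⊔ Subgroup.centralizer (R : Set S) : Subgroup S) *
        Nat.card (Subgroup.centralizer
          ((R ⊔ Subgroup.centralizer (R : Set S) : Subgroup S) : Set S)) =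
        Cfsg.maxCentralizerProduct S := hT
    rw [hT'] at h1
    exact h1

theorem centrallyLarge_imp {S : Type*} [Group S] [Finite S] (Q : Subgroup S)
    (hQ : Cfsg.IsCentrallyLarge Q) :
    Cfsg.IsCentralizerLarge Q ∧
      Subgroup.centralizer (Q : Set S) = Q ⊓ Subgroup.centralizer (Q : Set S) := by
  rw [isCentrallyLarge_iff, maxCentralProduct_eq] at hQ
  have h1 : Nat.card Q * Nat.card (Q ⊓ Subgroup.centralizer (Q : Set S) : Subgroup S) ≤
      Nat.card Q * Nat.card (Subgroup.centralizer (Q : Set S)) :=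
    Nat.mul_le_mul_left _ (Subgroup.card_le_of_le inf_le_right)
  have h2 := measure_le_maxCentralizerProduct Q
  have h3 : Nat.card Q * Nat.card (Subgroup.centralizer (Q : Set S)) =
      Cfsg.maxCentralizerProduct S := le_antisymm h2 (hQ ▸ h1)
  refine ⟨h3, ?_⟩
  have h4 : Nat.card (Q ⊓ Subgroup.centralizer (Q : Set S) : Subgroup S) =
      Nat.card (Subgroup.centralizer (Q : Set S)) :=
    Nat.eq_of_mul_eq_mul_left Nat.card_pos (hQ.trans h3.symm)
  exact (Subgroup.eq_of_le_of_card_ge inf_le_right h4.ge).symm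

theorem centrallyLarge_iff_of_centralizerLarge {S : Type*} [Group S] [Finite S] (Q : Subgroup S)
    (hQ : Cfsg.IsCentralizerLarge Q) :
    Cfsg.IsCentrallyLarge Q ↔ Subgroup.centralizer (Q : Set S) ≤ Q := by
  constructor
  · intro h
    exact (centrallyLarge_imp Q h).2.le.trans inf_le_left
  · intro h
    rw [isCentrallyLarge_iff, maxCentralProduct_eq, inf_eq_right.2 h]
    exact hQ

theorem centrallyLarge_sup {S : Type*} [Group S] [Finite S] (Q R : Subgroup S)
    (hQ : Cfsg.IsCentrallyLarge Q) (hR : Cfsg.IsCentrallyLarge R) :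
    ((Q ⊔ R : Subgroup S) : Set S) = (Q : Set S) * (R : Set S) ∧
      Cfsg.IsCentrallyLarge (Q ⊔ R) := by
  obtain ⟨hQ1, hQ2⟩ := centrallyLarge_imp Q hQ
  obtain ⟨hR1, -⟩ := centrallyLarge_imp R hR
  obtain ⟨k1, k2, -⟩ := cd_lattice Q R hQ1 hR1
  refine ⟨k1, (centrallyLarge_iff_of_centralizerLarge _ k2).2 ?_⟩
  rw [centralizer_sup_eq]
  exact inf_le_left.trans ((hQ2.le.trans inf_le_left).trans le_sup_left)

theorem centrallyLarge_sSup {S : Type*} [Group S] [Finite S] (T : Set (Subgroup S))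
    (hT : ∀ R ∈ T, Cfsg.IsCentrallyLarge R) (hne : T.Nonempty) :
    Cfsg.IsCentrallyLarge (sSup T) := by
  obtain ⟨R₀, hR₀⟩ := hne
  obtain ⟨M, ⟨hM1, hM2⟩, hMmax⟩ := Set.Finite.exists_maximalFor
    (fun H : Subgroup S => Nat.card H) {H | Cfsg.IsCentrallyLarge H ∧ H ≤ sSup T}
    (Set.toFinite _) ⟨R₀, hT R₀ hR₀, le_sSup hR₀⟩
  have h0 : sSup T ≤ M := by
    apply sSup_le
    intro R hR
    have h1 := (centrallyLarge_sup M R hM1 (hT R hR)).2
    have h2 := hMmax ⟨h1, sup_le hM2 (le_sSup hR)⟩ (Subgroup.card_le_of_le le_sup_left)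
    have h3 : M = M ⊔ R := Subgroup.eq_of_le_of_card_ge le_sup_left h2
    calc R ≤ M ⊔ R := le_sup_right
      _ = M := h3.symm
  rw [le_antisymm h0 hM2]
  exact hM1

theorem exists_isMinimalCentrallyLarge (S : Type*) [Group S] [Finite S] :
    ∃ R : Subgroup S, Cfsg.IsMinimalCentrallyLarge R := by
  obtain ⟨R₀, hR₀⟩ := exists_isCentrallyLarge S
  obtain ⟨M, hM1, hMmin⟩ := Set.Finite.exists_minimalFor (fun H : Subgroup S => Nat.card H)
    {H | Cfsg.IsCentrallyLarge H} (Set.toFinite _) ⟨R₀, hR₀⟩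
  refine ⟨M, hM1, fun R' hle hR' => ?_⟩
  exact Subgroup.eq_of_le_of_card_ge hle (hMmin hR' (Subgroup.card_le_of_le hle))

end Cfsg.Agent.Helper5
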