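import Mathlib
import Cfsg.Prelude
import Cfsg.Agent.Helper5.CD3

set_option autoImplicit false

namespace Cfsg.Agent.Helper5

open scoped Pointwise

theorem maxAbelian_self_centralizing {P : Type*} [Group P] [Finite P] (A : Subgroup P)
    (hA : A ∈ Cfsg.maxAbelianSubgroups P) : Subgroup.centralizer (A : Set P) ≤ A := by
  intro y hy
  have hAc : A ≤ Subgroup.centralizer (A : Set P) :=
    Subgroup.le_centralizer_iff_isMulCommutative.2 hA.1
  have hzy : Subgroup.zpowers y ≤ Subgroup.centralizer (A : Set P) := Subgroup.zpowers_le.2 hy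
  have hK : IsMulCommutative ↥(A ⊔ Subgroup.zpowers y) := by
    rw [← Subgroup.le_centralizer_iff_isMulCommutative, centralizer_sup_eq]
    refine sup_le (le_inf hAc (Subgroup.le_centralizer_iff.1 hzy)) (le_inf hzy ?_)
    rw [Subgroup.zpowers_le, Subgroup.mem_centralizer_iff]
    intro h hh
    obtain ⟨k, rfl⟩ := Subgroup.mem_zpowers_iff.1 hh
    exact (Commute.zpow_left (Commute.refl y) k).eq
  have h1 := hA.2 _ hK
  have h2 : A = A ⊔ Subgroup.zpowers y := Subgroup.eq_of_le_of_card_ge le_sup_left h1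
  rw [h2]
  exact Subgroup.mem_sup_right (Subgroup.mem_zpowers y)

theorem cl_arith (q z a d e s b t T c f : ℕ) (hq : 0 < q) (hd : 0 < d) (he : 0 < e)
    (e1 : z * d = s * e) (e2 : s ≤ b) (hBa : b ≤ a) (e3 : q * a = t * d) (e4 : t ≤ T)
    (e5 : T * c ≤ f) (hQf : q * z = f) (e6 : e ≤ c) : s = b ∧ b = a ∧ t = T ∧ T * c = f := by
  have h1 : t * e ≤ f := (Nat.mul_le_mul e4 e6).trans e5
  have h2 : q * (a * e) ≤ q * (z * d) := by
    calc q * (a * e) = (q * a) * e := by ring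
      _ = t * d * e := by rw [e3]
      _ = (t * e) * d := by ring
      _ ≤ f * d := Nat.mul_le_mul_right d h1
      _ = q * (z * d) := by rw [← hQf]; ring
  have h3 : a * e ≤ z * d := Nat.le_of_mul_le_mul_left h2 hq
  have h4 : s * e ≤ a * e := Nat.mul_le_mul_right e (e2.trans hBa)
  have h5 : s * e = a * e := le_antisymm h4 (e1 ▸ h3)
  have h6 : s = a := Nat.eq_of_mul_eq_mul_right he h5
  have hsb : s = b := le_antisymm e2 (h6 ▸ hBa)
  have hba : b = a := by omega
  have h7 : (t * e) * d = f * d := by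
    calc (t * e) * d = (t * d) * e := by ring
      _ = (q * a) * e := by rw [e3]
      _ = q * (a * e) := by ring
      _ = q * (s * e) := by rw [h5]
      _ = q * (z * d) := by rw [e1]
      _ = f * d := by rw [← hQf]; ring
  have h8 : t * e = f := Nat.eq_of_mul_eq_mul_right hd h7
  have h9 : T * e ≤ f := (Nat.mul_le_mul_left T e6).trans e5
  have h10 : T * e ≤ t * e := h8 ▸ h9
  have h11 : T ≤ t := Nat.le_of_mul_le_mul_right h10 he
  have htT : t = T := le_antisymm e4 h11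
  refine ⟨hsb, hba, htT, le_antisymm e5 ?_⟩
  calc f = t * e := h8.symm
    _ = T * e := by rw [htT]
    _ ≤ T * c := Nat.mul_le_mul_left T e6

theorem centrallyLarge_sup_maxAbelian {P : Type*} [Group P] [Finite P] (Q A : Subgroup P)
    (hQ : Cfsg.IsCentrallyLarge Q) (hA : A ∈ Cfsg.maxAbelianSubgroups P) :
    ((Q ⊔ A : Subgroup P) : Set P) = (Q : Set P) * (A : Set P) ∧
    Cfsg.IsCentrallyLarge (Q ⊔ A) ∧
    (Q ⊔ A) ⊓ Subgroup.centralizer ((Q ⊓ A : Subgroup P) : Set P) =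
      (Q ⊓ Subgroup.centralizer (Q : Set P)) ⊔ A ∧
    (((Q ⊓ Subgroup.centralizer (Q : Set P)) ⊔ A : Subgroup P) : Set P) =
      ((Q ⊓ Subgroup.centralizer (Q : Set P) : Subgroup P) : Set P) * (A : Set P) := by
  have hAc : A ≤ Subgroup.centralizer (A : Set P) :=
    Subgroup.le_centralizer_iff_isMulCommutative.2 hA.1
  have hZQ : Q ⊓ Subgroup.centralizer (Q : Set P) ≤ Q := inf_le_left
  have hZcQ : Q ⊓ Subgroup.centralizer (Q : Set P) ≤ Subgroup.centralizer (Q : Set P) :=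
    inf_le_right
  have hDQ : Q ⊓ A ≤ Q := inf_le_left
  have hDA : Q ⊓ A ≤ A := inf_le_right
  have hZcD : Q ⊓ Subgroup.centralizer (Q : Set P) ≤
      Subgroup.centralizer ((Q ⊓ A : Subgroup P) : Set P) :=
    hZcQ.trans (Subgroup.centralizer_le (SetLike.coe_subset_coe.2 hDQ))
  have hAcD : A ≤ Subgroup.centralizer ((Q ⊓ A : Subgroup P) : Set P) :=
    hAc.trans (Subgroup.centralizer_le (SetLike.coe_subset_coe.2 hDA))
  have hZcZ : Q ⊓ Subgroup.centralizer (Q : Set P) ≤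
      Subgroup.centralizer ((Q ⊓ Subgroup.centralizer (Q : Set P) : Subgroup P) : Set P) :=
    hZcQ.trans (Subgroup.centralizer_le (SetLike.coe_subset_coe.2 hZQ))
  have hB : IsMulCommutative ↥((Q ⊓ Subgroup.centralizer (Q : Set P)) ⊔ (Q ⊓ A)) := by
    rw [← Subgroup.le_centralizer_iff_isMulCommutative, centralizer_sup_eq]
    exact sup_le (le_inf hZcZ hZcD)
      (le_inf (Subgroup.le_centralizer_iff.1 hZcD) (hDA.trans hAcD))
  have hBa : Nat.card ↥((Q ⊓ Subgroup.centralizer (Q : Set P)) ⊔ (Q ⊓ A)) ≤ Nat.card A :=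
    hA.2 _ hB
  have hZD : (Q ⊓ Subgroup.centralizer (Q : Set P)) ⊓ (Q ⊓ A) =
      (Q ⊓ Subgroup.centralizer (Q : Set P)) ⊓ A := by
    rw [← inf_assoc, inf_eq_left.2 hZQ]
  have e1 := card_mul_card_eq_card_setMul_mul_card_inf (Q ⊓ Subgroup.centralizer (Q : Set P))
    (Q ⊓ A)
  rw [hZD] at e1
  have e2 := card_le_card_of_subset_finite _ _
    (setMul_subset_sup (Q ⊓ Subgroup.centralizer (Q : Set P)) (Q ⊓ A))
  have e3 := card_mul_card_eq_card_setMul_mul_card_inf Q A
  have e4 := card_le_card_of_subset_finite _ _ (setMul_subset_sup Q A)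
  have e5 := central_le_maxCentralProduct (Q ⊔ A)
  have hQf : Nat.card Q * Nat.card (Q ⊓ Subgroup.centralizer (Q : Set P) : Subgroup P) =
      Cfsg.maxCentralProduct P := (isCentrallyLarge_iff Q).1 hQ
  have e6 : Nat.card ↥((Q ⊓ Subgroup.centralizer (Q : Set P)) ⊓ A) ≤
      Nat.card ↥((Q ⊔ A) ⊓ Subgroup.centralizer ((Q ⊔ A : Subgroup P) : Set P)) := by
    apply Subgroup.card_le_of_le
    refine le_inf (inf_le_right.trans le_sup_right) ?_
    rw [centralizer_sup_eq]
    exact le_inf (inf_le_left.trans hZcQ) (inf_le_right.trans hAc)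
  obtain ⟨r1, r2, r3, r4⟩ := cl_arith _ _ _ _ _ _ _ _ _ _ _ Nat.card_pos Nat.card_pos
    Nat.card_pos e1 e2 hBa e3 e4 e5 hQf e6
  have hTset : ((Q ⊔ A : Subgroup P) : Set P) = (Q : Set P) * (A : Set P) :=
    (eq_of_subset_of_card_eq_finite _ _ (setMul_subset_sup Q A) r3).symm
  have hBset : (((Q ⊓ Subgroup.centralizer (Q : Set P)) ⊔ (Q ⊓ A) : Subgroup P) : Set P) =
      ((Q ⊓ Subgroup.centralizer (Q : Set P) : Subgroup P) : Set P) *
        ((Q ⊓ A : Subgroup P) : Set P) :=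
    (eq_of_subset_of_card_eq_finite _ _
      (setMul_subset_sup (Q ⊓ Subgroup.centralizer (Q : Set P)) (Q ⊓ A)) r1).symm
  have hTCL : Cfsg.IsCentrallyLarge (Q ⊔ A) := (isCentrallyLarge_iff _).2 r4
  have hBmax : (Q ⊓ Subgroup.centralizer (Q : Set P)) ⊔ (Q ⊓ A) ∈ Cfsg.maxAbelianSubgroups P :=
    ⟨hB, fun B' hB' => (hA.2 B' hB').trans r2.ge⟩
  have hBself := maxAbelian_self_centralizing _ hBmax
  have hsub : ∀ x ∈ (Q ⊔ A) ⊓ Subgroup.centralizer ((Q ⊓ A : Subgroup P) : Set P),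
      x ∈ ((Q ⊓ Subgroup.centralizer (Q : Set P) : Subgroup P) : Set P) * (A : Set P) := by
    intro x hx
    obtain ⟨hxT, hxC⟩ := Subgroup.mem_inf.1 hx
    rw [← SetLike.mem_coe, hTset] at hxT
    obtain ⟨q₁, hq₁, a₁, ha₁, rfl⟩ := Set.mem_mul.1 hxT
    have hq₁C : q₁ ∈ Subgroup.centralizer ((Q ⊓ A : Subgroup P) : Set P) := by
      have h0 : q₁ = (q₁ * a₁) * a₁⁻¹ := by group
      rw [h0]
      exact Subgroup.mul_mem _ hxC (Subgroup.inv_mem _ (hAcD ha₁))
    have hq₁B : q₁ ∈ (Q ⊓ Subgroup.centralizer (Q : Set P)) ⊔ (Q ⊓ A) := by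
      apply hBself
      rw [centralizer_sup_eq]
      exact Subgroup.mem_inf.2 ⟨(Subgroup.le_centralizer_iff.1 hZcQ) hq₁, hq₁C⟩
    rw [← SetLike.mem_coe, hBset] at hq₁B
    obtain ⟨z₁, hz₁, d₁, hd₁, rfl⟩ := Set.mem_mul.1 hq₁B
    rw [mul_assoc]
    exact Set.mul_mem_mul hz₁ (A.mul_mem (hDA hd₁) ha₁)
  have h3 : (Q ⊔ A) ⊓ Subgroup.centralizer ((Q ⊓ A : Subgroup P) : Set P) =
      (Q ⊓ Subgroup.centralizer (Q : Set P)) ⊔ A := by
    apply le_antisymm
    · intro x hx
      exact setMul_subset_sup _ A (hsub x hx)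
    · exact sup_le (le_inf (hZQ.trans le_sup_left) hZcD) (le_inf le_sup_right hAcD)
  refine ⟨hTset, hTCL, h3, ?_⟩
  apply Set.Subset.antisymm
  · intro x hx
    have hx' : x ∈ (Q ⊔ A) ⊓ Subgroup.centralizer ((Q ⊓ A : Subgroup P) : Set P) := by
      rw [h3]; exact hx
    exact hsub x hx'
  · exact setMul_subset_sup _ A

theorem exists_maxAbelian (P : Type*) [Group P] [Finite P] :
    ∃ A : Subgroup P, A ∈ Cfsg.maxAbelianSubgroups P := by
  obtain ⟨A, hA, hmax⟩ := Set.Finite.exists_maximalFor (fun H : Subgroup P => Nat.card H)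
    {H : Subgroup P | IsMulCommutative H} (Set.toFinite _)
    ⟨⊥, Subgroup.le_centralizer_iff_isMulCommutative.1 bot_le⟩
  refine ⟨A, hA, fun B hB => ?_⟩
  rcases le_total (Nat.card B) (Nat.card A) with h | h
  · exact h
  · exact hmax hB h

theorem centralizer_center_thompsonA_le (P : Type*) [Group P] [Finite P] :
    Subgroup.centralizer ((Cfsg.thompsonSubgroupA P ⊓
      Subgroup.centralizer (Cfsg.thompsonSubgroupA P : Set P) : Subgroup P) : Set P) ≤
      Cfsg.centrallyLargeJoin P := by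
  have hR : Cfsg.IsCentrallyLarge (Cfsg.centrallyLargeJoin P) :=
    centrallyLarge_sSup _ (fun _ h => h) (exists_isCentrallyLarge P)
  have hJ : Cfsg.thompsonSubgroupA P ≤ Cfsg.centrallyLargeJoin P := by
    apply sSup_le
    intro A hA
    have h1 := (centrallyLarge_sup_maxAbelian _ A hR hA).2.1
    have h2 : Cfsg.centrallyLargeJoin P ⊔ A ≤ Cfsg.centrallyLargeJoin P := le_sSup h1
    exact le_sup_right.trans h2
  obtain ⟨hR1, -⟩ := centrallyLarge_imp _ hR
  obtain ⟨-, hRR⟩ := centralizerLarge_centralizer _ hR1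
  obtain ⟨A, hA⟩ := exists_maxAbelian P
  have hAJ : A ≤ Cfsg.thompsonSubgroupA P := le_sSup hA
  have h4 : Subgroup.centralizer ((Cfsg.centrallyLargeJoin P : Subgroup P) : Set P) ≤
      Subgroup.centralizer (Cfsg.thompsonSubgroupA P : Set P) :=
    Subgroup.centralizer_le (SetLike.coe_subset_coe.2 hJ)
  have h3 : Subgroup.centralizer ((Cfsg.centrallyLargeJoin P : Subgroup P) : Set P) ≤
      Cfsg.thompsonSubgroupA P ⊓ Subgroup.centralizer (Cfsg.thompsonSubgroupA P : Set P) := by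
    refine le_inf ?_ h4
    exact ((h4.trans (Subgroup.centralizer_le (SetLike.coe_subset_coe.2 hAJ))).trans
      (maxAbelian_self_centralizing A hA)).trans hAJ
  calc Subgroup.centralizer ((Cfsg.thompsonSubgroupA P ⊓
        Subgroup.centralizer (Cfsg.thompsonSubgroupA P : Set P) : Subgroup P) : Set P) ≤
        Subgroup.centralizer ((Subgroup.centralizer
          ((Cfsg.centrallyLargeJoin P : Subgroup P) : Set P) : Subgroup P) : Set P) :=
        Subgroup.centralizer_le (SetLike.coe_subset_coe.2 h3)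
    _ = Cfsg.centrallyLargeJoin P := hRR.symm

end Cfsg.Agent.Helper5
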