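import Mathlib
import Cfsg.Prelude.Def_PLocal
import Cfsg.Prelude.Def_DStar
import Cfsg.Agent.Helper5.DStar
import Cfsg.Agent.Helper5.CD4
import Cfsg.Agent.Helper3.Layer2
import Cfsg.Agent.Lead.UniqSub
import Cfsg.Agent.S0649
import Cfsg.Agent.S0650

set_option autoImplicit false

namespace Cfsg.Agent.Helper5

open scoped commutatorElement

variable {S : Type*} [Group S]

theorem center_mem_dStarFamily : Subgroup.center S ∈ Cfsg.dStarFamily S := by
  refine ⟨inferInstance, fun x _ a ha => ?_⟩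
  exact (Subgroup.mem_center_iff.1 ha x).symm

/-- the family behind `D*` is invariant under automorphisms. -/
theorem dStarFamily_map (φ : S ≃* S) (A : Subgroup S) (hA : A ∈ Cfsg.dStarFamily S) :
    A.map φ.toMonoidHom ∈ Cfsg.dStarFamily S := by
  obtain ⟨hAc, hAx⟩ := hA
  have hcomm : ∀ a ∈ A, ∀ b ∈ A, a * b = b * a := fun a ha b hb =>
    congrArg Subtype.val (mul_comm' (⟨a, ha⟩ : A) ⟨b, hb⟩)
  refine ⟨?_, ?_⟩
  · rw [isMulCommutative_iff]
    rintro ⟨_, a, ha, rfl⟩ ⟨_, b, hb, rfl⟩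
    apply Subtype.ext
    show φ.toMonoidHom a * φ.toMonoidHom b = φ.toMonoidHom b * φ.toMonoidHom a
    rw [← map_mul, ← map_mul, hcomm a ha b hb]
  · intro x hx
    have h1 : A.map φ.toMonoidHom ⊔ Subgroup.zpowers x =
        (A ⊔ Subgroup.zpowers (φ.symm x)).map φ.toMonoidHom := by
      rw [Subgroup.map_sup, MonoidHom.map_zpowers]
      simp
    rw [h1, ← Subgroup.map_commutator, ← Subgroup.map_commutator,
      (Subgroup.map_eq_bot_iff_of_injective _ φ.injective)] at hx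
    rintro _ ⟨a, ha, rfl⟩
    have h2 := hAx (φ.symm x) hx a ha
    have h3 := congrArg φ h2
    rw [map_mul, map_mul, MulEquiv.apply_symm_apply] at h3
    exact h3

theorem dStar_normal : (Cfsg.dStar S).Normal := by
  have key : ∀ g : S, (Cfsg.dStar S).map (MulAut.conj g).toMonoidHom ≤ Cfsg.dStar S := by
    intro g
    rw [Subgroup.map_le_iff_le_comap]
    apply sSup_le
    intro A hA
    rw [← Subgroup.map_le_iff_le_comap]
    exact le_sSup (dStarFamily_map (MulAut.conj g) A hA)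
  constructor
  intro n hn g
  exact key g ⟨n, hn, rfl⟩

/-- an abelian subgroup normalized by a normal member `D` of the family centralizes `D`. -/
theorem centralizes_of_normalizes (D : Subgroup S) [D.Normal] (hD : D ∈ Cfsg.dStarFamily S)
    (A : Subgroup S) (hAc : ∀ a ∈ A, ∀ b ∈ A, a * b = b * a)
    (hDA : D ≤ Subgroup.normalizer (A : Set S)) : A ≤ Subgroup.centralizer (D : Set S) := by
  obtain ⟨hDc, hDx⟩ := hD
  have hDcomm : ∀ a ∈ D, ∀ b ∈ D, a * b = b * a := fun a ha b hb =>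
    congrArg Subtype.val (mul_comm' (⟨a, ha⟩ : D) ⟨b, hb⟩)
  intro a ha
  rw [Subgroup.mem_centralizer_iff]
  refine hDx a ?_
  have hZA : Subgroup.zpowers a ≤ A := Subgroup.zpowers_le.2 ha
  have hZN : Subgroup.zpowers a ≤ Subgroup.normalizer (D : Set S) := by
    rw [Subgroup.normalizer_eq_top]; exact le_top
  have step1 : ⁅D ⊔ Subgroup.zpowers a, D ⊔ Subgroup.zpowers a⁆ ≤ D ⊓ A := by
    rw [Subgroup.commutator_le]
    intro y₁ hy₁ y₂ hy₂
    obtain ⟨d₁, hd₁, a₁, ha₁, rfl⟩ := Helper3.mem_sup_of_le_normalizer_right D _ hZN hy₁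
    obtain ⟨d₂, hd₂, a₂, ha₂, rfl⟩ := Helper3.mem_sup_of_le_normalizer_right D _ hZN hy₂
    have hc : a₁ * a₂ = a₂ * a₁ := hAc a₁ (hZA ha₁) a₂ (hZA ha₂)
    have hn : ∀ d ∈ D, ∀ x ∈ A, d * x * d⁻¹ ∈ A := fun d hd x hx =>
      (Subgroup.mem_normalizer_iff.1 (hDA hd) x).1 hx
    refine ⟨?_, ?_⟩
    · have e : ⁅d₁ * a₁, d₂ * a₂⁆ = d₁ * (a₁ * d₂ * a₁⁻¹) *
          ((a₁ * a₂ * a₁⁻¹) * d₁⁻¹ * (a₁ * a₂ * a₁⁻¹)⁻¹) * (a₁ * a₂ * a₁⁻¹ * a₂⁻¹) * d₂⁻¹ := by
        rw [commutatorElement_def]; group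
      have e1 : a₁ * a₂ * a₁⁻¹ * a₂⁻¹ = 1 := by rw [hc]; group
      rw [e, e1, mul_one]
      exact D.mul_mem (D.mul_mem (D.mul_mem hd₁ (‹D.Normal›.conj_mem _ hd₂ _))
        (‹D.Normal›.conj_mem _ (D.inv_mem hd₁) _)) (D.inv_mem hd₂)
    · have e : ⁅d₁ * a₁, d₂ * a₂⁆ = (d₁ * a₁ * d₁⁻¹) *
          ((d₁ * d₂) * (a₂ * a₁⁻¹) * (d₁ * d₂)⁻¹) * ((d₁ * d₂ * d₁⁻¹ * d₂⁻¹) *
            (d₂ * a₂⁻¹ * d₂⁻¹)) := by
        rw [commutatorElement_def]; group
      have e1 : d₁ * d₂ * d₁⁻¹ * d₂⁻¹ = 1 := by rw [hDcomm d₁ hd₁ d₂ hd₂]; group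
      rw [e, e1, one_mul]
      exact A.mul_mem (A.mul_mem (hn d₁ hd₁ a₁ (hZA ha₁))
        (hn _ (D.mul_mem hd₁ hd₂) _ (A.mul_mem (hZA ha₂) (A.inv_mem (hZA ha₁)))))
        (hn d₂ hd₂ _ (A.inv_mem (hZA ha₂)))
  rw [Subgroup.commutator_eq_bot_iff_le_centralizer]
  refine step1.trans ?_
  rw [Subgroup.le_centralizer_iff]
  refine sup_le ?_ ?_
  · intro d hd
    rw [Subgroup.mem_centralizer_iff]
    intro c hc
    exact hDcomm c hc.1 d hd
  · rw [Subgroup.zpowers_le, Subgroup.mem_centralizer_iff]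
    intro c hc
    exact hAc c hc.2 a ha

/-- `D*(S)` lies in, and is centralized by, every abelian subgroup of largest order. -/
theorem dStar_le_maxAbelian [Finite S] {p : ℕ} [Fact p.Prime] (hS : IsPGroup p S)
    (A : Subgroup S) (hA : A ∈ Cfsg.maxAbelianSubgroups S) :
    A ≤ Subgroup.centralizer (Cfsg.dStar S : Set S) ∧ Cfsg.dStar S ≤ A := by
  haveI : (Cfsg.dStar S).Normal := dStar_normal
  have hD := dStar_mem_family hS
  haveI hDc : IsMulCommutative ↥(Cfsg.dStar S) := hD.1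
  have fin : ∀ A : Subgroup S, A ∈ Cfsg.maxAbelianSubgroups S →
      A ≤ Subgroup.centralizer (Cfsg.dStar S : Set S) → Cfsg.dStar S ≤ A := by
    intro A hA hAC
    exact (Subgroup.le_centralizer_iff.1 hAC).trans (maxAbelian_self_centralizing A hA)
  have key : ∀ n : ℕ, ∀ A : Subgroup S, A ∈ Cfsg.maxAbelianSubgroups S →
      Nat.card ↥(Cfsg.dStar S) - Nat.card ↥(A ⊓ Cfsg.dStar S) = n →
      A ≤ Subgroup.centralizer (Cfsg.dStar S : Set S) := by
    intro n
    induction n using Nat.strong_induction_on with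
    | _ n ih =>
      intro A hA hn
      haveI := hA.1
      have hAc : ∀ a ∈ A, ∀ b ∈ A, a * b = b * a := fun a ha b hb =>
        congrArg Subtype.val (mul_comm' (⟨a, ha⟩ : A) ⟨b, hb⟩)
      by_cases hDA : Cfsg.dStar S ≤ Subgroup.normalizer (A : Set S)
      · exact centralizes_of_normalizes _ hD A hAc hDA
      · exfalso
        have hBA : ⁅Cfsg.dStar S, Cfsg.dStar S⁆ ≤ A := by
          have : ⁅Cfsg.dStar S, Cfsg.dStar S⁆ = ⊥ := by
            rw [Subgroup.commutator_eq_bot_iff_le_centralizer]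
            exact Subgroup.le_centralizer_iff_isMulCommutative.2 hDc
          rw [this]; exact bot_le
        obtain ⟨b, hb, hbN, hbA⟩ := Cfsg.Agent.S0649.result hS (Cfsg.dStar S)
          (fun _ => hDc) A hA.1 hBA hDA
        obtain ⟨hcard, hcomm, -, hlt, -, -, hle, -⟩ := Cfsg.Agent.S0650.result hS (Cfsg.dStar S)
          (fun _ => hDc) A hA.1 hBA hDA b hb hbN hbA
        generalize ((A ⊓ A.map (MulAut.conj (b⁻¹)).toMonoidHom) ⊔
          Subgroup.closure {g : S | ∃ a ∈ A, g = a * b⁻¹ * a⁻¹ * b}) = Astar at hcard hcomm hlt hle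
        have hAs : Astar ∈ Cfsg.maxAbelianSubgroups S :=
          ⟨hcomm, fun B hB => (hA.2 B hB).trans hcard.ge⟩
        have hc1 : Nat.card ↥(A ⊓ Cfsg.dStar S) < Nat.card ↥(Astar ⊓ Cfsg.dStar S) := by
          by_contra hcon
          push Not at hcon
          exact (ne_of_lt hlt) (Subgroup.eq_of_le_of_card_ge hlt.le hcon)
        have hc2 : Nat.card ↥(Astar ⊓ Cfsg.dStar S) ≤ Nat.card ↥(Cfsg.dStar S) :=
          Subgroup.card_le_of_le inf_le_right
        have h3 := ih (Nat.card ↥(Cfsg.dStar S) - Nat.card ↥(Astar ⊓ Cfsg.dStar S)) (by omega)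
          Astar hAs rfl
        exact hDA ((fin Astar hAs h3).trans hle)
  have h1 := key _ A hA rfl
  exact ⟨h1, fin A hA h1⟩

end Cfsg.Agent.Helper5
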