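import Mathlib
import Cfsg.Prelude.Def_Transfer
import Cfsg.Agent.Lead.PGroupFrattini
import Cfsg.Agent.Helper5.Basic
import Cfsg.Agent.Helper5.CD

set_option autoImplicit false

namespace Cfsg.Agent.Helper5

open scoped commutatorElement

/-- double counting of a relation. -/
theorem sum_card_comm {X B : Type*} [Fintype X] [Fintype B] (R : X → B → Prop) :
    ∑ x : X, Nat.card {b : B // R x b} = ∑ b : B, Nat.card {x : X // R x b} := by
  rw [← Nat.card_sigma, ← Nat.card_sigma]
  refine Nat.card_congr ?_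
  exact (Equiv.subtypeProdEquivSigmaSubtype R).symm.trans
    (((Equiv.prodComm X B).subtypeEquiv (fun _ => Iff.rfl)).trans
      (Equiv.subtypeProdEquivSigmaSubtype (fun b x => R x b)))

theorem sum_ite_two_one {X : Type*} [Fintype X] (P : X → Prop) [DecidablePred P] :
    ∑ x : X, (if P x then 2 else 1) = Nat.card X + Nat.card {x : X // P x} := by
  have h1 : ∀ x : X, (if P x then 2 else 1) = 1 + (if P x then 1 else 0) := fun x => by
    split_ifs <;> rfl
  simp_rw [h1, Finset.sum_add_distrib]
  rw [Nat.card_eq_fintype_card, Nat.card_eq_fintype_card, Fintype.card_subtype]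
  simp

theorem card_ker_of_trivial {X Y : Type*} [Group X] [Group Y] (f : X →* Y)
    (h : ∀ x, f x = 1) : Nat.card f.ker = Nat.card X := by
  have h1 : f.ker = ⊤ := by
    ext x
    simp [MonoidHom.mem_ker, h x]
  rw [h1]
  exact Subgroup.card_top

theorem card_ker_mul_two {X Y : Type*} [Group X] [Group Y] [Finite X] (f : X →* Y)
    (Z : Subgroup Y) (hZ : Nat.card Z = 2) (hr : ∀ x, f x ∈ Z) (hnt : ∃ x, f x ≠ 1) :
    Nat.card f.ker * 2 = Nat.card X ∧ f.range = Z := by
  have h1 : Nat.card f.ker * Nat.card f.range = Nat.card X := by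
    rw [← Subgroup.index_ker, Subgroup.card_mul_index]
  have hle : f.range ≤ Z := by
    rintro _ ⟨x, rfl⟩
    exact hr x
  haveI hfin : Finite Z := Nat.finite_of_card_ne_zero (by rw [hZ]; norm_num)
  have hdvd : Nat.card f.range ∣ 2 := hZ ▸ Subgroup.card_dvd_of_le hle
  have hne : Nat.card f.range ≠ 1 := by
    intro h
    rw [Subgroup.card_eq_one] at h
    obtain ⟨x, hx⟩ := hnt
    have h2 : f x ∈ f.range := ⟨x, rfl⟩
    rw [h] at h2
    exact hx (Subgroup.mem_bot.1 h2)
  have h2 : Nat.card f.range = 2 := by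
    rcases (Nat.dvd_prime Nat.prime_two).1 hdvd with h | h
    · exact absurd h hne
    · exact h
  refine ⟨by rw [← h2]; exact h1, ?_⟩
  exact Subgroup.eq_of_le_of_card_ge hle (by rw [hZ, h2])

theorem card_fiber_eq_card_ker {X Y : Type*} [Group X] [Group Y] (f : X →* Y) (x₀ : X) :
    Nat.card {x : X // f x = f x₀} = Nat.card f.ker := by
  refine Nat.card_congr ⟨fun a => ⟨x₀⁻¹ * a.1, by
      rw [MonoidHom.mem_ker, map_mul, map_inv, a.2, inv_mul_cancel]⟩,
    fun k => ⟨x₀ * k.1, by rw [map_mul, MonoidHom.mem_ker.1 k.2, mul_one]⟩,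
    fun a => by simp, fun k => by simp⟩

variable {E : Type*} [Group E]

/-- `x ↦ ⁅x, g⁆` is a homomorphism when all commutators are central. -/
def commHom (hc : ∀ x y : E, ⁅x, y⁆ ∈ Subgroup.center E) (g : E) : E →* E where
  toFun x := ⁅x, g⁆
  map_one' := by simp
  map_mul' x y := by
    have h1 := Subgroup.mem_center_iff.1 (hc y g)
    calc ⁅x * y, g⁆ = x * ⁅y, g⁆ * x⁻¹ * ⁅x, g⁆ := by
          simp only [commutatorElement_def]; group
      _ = ⁅y, g⁆ * x * x⁻¹ * ⁅x, g⁆ := by rw [h1 x]
      _ = ⁅y, g⁆ * ⁅x, g⁆ := by group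
      _ = ⁅x, g⁆ * ⁅y, g⁆ := (h1 _).symm

theorem commHom_apply (hc : ∀ x y : E, ⁅x, y⁆ ∈ Subgroup.center E) (g x : E) :
    commHom hc g x = ⁅x, g⁆ := rfl

theorem two_mul_card_commuting [Finite E] (hc : ∀ x y : E, ⁅x, y⁆ ∈ Subgroup.center E)
    (hZ : Nat.card (Subgroup.center E) = 2) (g : E) [Decidable (g ∈ Subgroup.center E)] :
    2 * Nat.card {x : E // x * g = g * x} =
      Nat.card E * (if g ∈ Subgroup.center E then 2 else 1) := by
  have e : Nat.card {x : E // x * g = g * x} = Nat.card (commHom hc g).ker := by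
    refine Nat.card_congr (Equiv.subtypeEquivRight (fun x => ?_))
    rw [MonoidHom.mem_ker, commHom_apply, commutatorElement_eq_one_iff_mul_comm]
  rw [e]
  split_ifs with hg
  · rw [card_ker_of_trivial _ (fun x => by
      rw [commHom_apply, commutatorElement_eq_one_iff_mul_comm]
      exact Subgroup.mem_center_iff.1 hg x), mul_comm]
  · have hnt : ∃ x, commHom hc g x ≠ 1 := by
      by_contra hcon
      push Not at hcon
      apply hg
      rw [Subgroup.mem_center_iff]
      intro x
      have := hcon x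
      rwa [commHom_apply, commutatorElement_eq_one_iff_mul_comm] at this
    have h1 := (card_ker_mul_two (commHom hc g) (Subgroup.center E) hZ (fun x => hc x g) hnt).1
    rw [mul_one, ← h1, mul_comm]

theorem two_mul_card_commuting_sub [Finite E] (hc : ∀ x y : E, ⁅x, y⁆ ∈ Subgroup.center E)
    (hZ : Nat.card (Subgroup.center E) = 2) (B : Subgroup E) (x : E)
    [Decidable (x ∈ Subgroup.centralizer (B : Set E))] :
    2 * Nat.card {b : B // x * (b : E) = b * x} =
      Nat.card B * (if x ∈ Subgroup.centralizer (B : Set E) then 2 else 1) := by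
  have e : Nat.card {b : B // x * (b : E) = b * x} =
      Nat.card ((commHom hc x).comp B.subtype).ker := by
    refine Nat.card_congr (Equiv.subtypeEquivRight (fun b => ?_))
    rw [MonoidHom.mem_ker, MonoidHom.comp_apply, commHom_apply,
      commutatorElement_eq_one_iff_mul_comm]
    exact eq_comm
  rw [e]
  split_ifs with hx
  · rw [card_ker_of_trivial _ (fun b => by
      rw [MonoidHom.comp_apply, commHom_apply, commutatorElement_eq_one_iff_mul_comm]
      exact Subgroup.mem_centralizer_iff.1 hx b b.2), mul_comm]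
  · have hnt : ∃ b, ((commHom hc x).comp B.subtype) b ≠ 1 := by
      by_contra hcon
      push Not at hcon
      apply hx
      rw [Subgroup.mem_centralizer_iff]
      intro b hb
      have := hcon ⟨b, hb⟩
      rwa [MonoidHom.comp_apply, commHom_apply, commutatorElement_eq_one_iff_mul_comm] at this
    have h1 := (card_ker_mul_two ((commHom hc x).comp B.subtype) (Subgroup.center E) hZ
      (fun b => hc b x) hnt).1
    rw [mul_one, ← h1, mul_comm]

/-- `2 |E| = |B| |C_E(B)|` for a subgroup `B` containing the centre. -/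
theorem two_card_eq_card_mul_centralizer [Finite E]
    (hc : ∀ x y : E, ⁅x, y⁆ ∈ Subgroup.center E)
    (hZ : Nat.card (Subgroup.center E) = 2) (B : Subgroup E) (hZB : Subgroup.center E ≤ B) :
    2 * Nat.card E = Nat.card B * Nat.card (Subgroup.centralizer (B : Set E)) := by
  classical
  haveI : Fintype E := Fintype.ofFinite E
  haveI : Fintype B := Fintype.ofFinite B
  have key := sum_card_comm (fun (x : E) (b : B) => x * (b : E) = b * x)
  have hL : ∑ x : E, 2 * Nat.card {b : B // x * (b : E) = b * x} =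
      Nat.card B * (Nat.card E + Nat.card (Subgroup.centralizer (B : Set E))) := by
    simp_rw [two_mul_card_commuting_sub hc hZ B]
    rw [← Finset.mul_sum, sum_ite_two_one]
  have hR : ∑ b : B, 2 * Nat.card {x : E // x * (b : E) = b * x} =
      Nat.card E * (Nat.card B + 2) := by
    simp_rw [two_mul_card_commuting hc hZ]
    rw [← Finset.mul_sum, sum_ite_two_one]
    congr 2
    rw [← hZ]
    exact Nat.card_congr ⟨fun b => ⟨b.1.1, b.2⟩, fun z => ⟨⟨z.1, hZB z.2⟩, z.2⟩,
      fun b => rfl, fun z => rfl⟩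
  rw [← Finset.mul_sum] at hL hR
  rw [key, hR] at hL
  have h3 : Nat.card E * Nat.card B + Nat.card E * 2 =
      Nat.card B * Nat.card E + Nat.card B * Nat.card (Subgroup.centralizer (B : Set E)) := by
    rw [← mul_add, ← mul_add]; exact hL
  rw [mul_comm (Nat.card B) (Nat.card E)] at h3
  have h4 := Nat.add_left_cancel h3
  rw [← h4, mul_comm]

theorem extraspecial_plus_facts [Finite E] (m : ℕ) (hE : Cfsg.IsExtraspecial 2 E)
    (hcard : Nat.card E = 2 ^ (2 * m + 1)) (A : Subgroup E)
    (hA : Cfsg.IsElementaryAbelian 2 A) (hAcard : Nat.card A = 2 ^ (m + 1)) :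
    Subgroup.center E ≤ A ∧ Subgroup.centralizer (A : Set E) = A := by
  obtain ⟨⟨hP, hfr, hcm⟩, hZ⟩ := hE
  have hc : ∀ x y : E, ⁅x, y⁆ ∈ Subgroup.center E := fun x y => by
    rw [← hcm]
    exact Subgroup.commutator_mem_commutator (Subgroup.mem_top x) (Subgroup.mem_top y)
  haveI := hA.1
  have hAA : A ≤ Subgroup.centralizer (A : Set E) :=
    Subgroup.le_centralizer_iff_isMulCommutative.2 hA.1
  obtain ⟨B, hB⟩ : ∃ B : Subgroup E, B = A ⊔ Subgroup.center E := ⟨_, rfl⟩
  have hBB : B ≤ Subgroup.centralizer (B : Set E) := by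
    rw [hB, centralizer_sup_eq]
    refine sup_le (le_inf hAA ?_)
      (le_inf (Subgroup.center_le_centralizer _) (Subgroup.center_le_centralizer _))
    rw [Subgroup.le_centralizer_iff]
    exact Subgroup.center_le_centralizer _
  have h1 := two_card_eq_card_mul_centralizer hc hZ B (hB ▸ le_sup_right)
  have h2 : Nat.card B * Nat.card B ≤ 2 * Nat.card E := by
    rw [h1]
    exact Nat.mul_le_mul_left _ (Subgroup.card_le_of_le hBB)
  have h3 : Nat.card B ≤ 2 ^ (m + 1) := by
    rw [hcard] at h2
    have h4 : Nat.card B ^ 2 ≤ (2 ^ (m + 1)) ^ 2 := by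
      calc Nat.card B ^ 2 = Nat.card B * Nat.card B := sq _
        _ ≤ 2 * 2 ^ (2 * m + 1) := h2
        _ = (2 ^ (m + 1)) ^ 2 := by ring
    exact (Nat.pow_le_pow_iff_left (by norm_num)).1 h4
  have hAB : A ≤ B := hB ▸ le_sup_left
  have hAeqB : A = B := Subgroup.eq_of_le_of_card_ge hAB (by rw [hAcard]; exact h3)
  have hZA : Subgroup.center E ≤ A := by
    rw [hAeqB, hB]; exact le_sup_right
  refine ⟨hZA, ?_⟩
  have h5 := two_card_eq_card_mul_centralizer hc hZ A hZA
  rw [hcard, hAcard] at h5
  have h6 : Nat.card (Subgroup.centralizer (A : Set E)) = 2 ^ (m + 1) := by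
    have : 2 ^ (m + 1) * 2 ^ (m + 1) =
        2 ^ (m + 1) * Nat.card (Subgroup.centralizer (A : Set E)) := by
      rw [← h5]; ring
    exact (Nat.eq_of_mul_eq_mul_left (by positivity) this).symm
  exact (Subgroup.eq_of_le_of_card_ge hAA (by rw [h6, hAcard])).symm

theorem extraspecial_plus_sq_count [Finite E] (m : ℕ) (hE : Cfsg.IsExtraspecial 2 E)
    (hcard : Nat.card E = 2 ^ (2 * m + 1)) (A : Subgroup E)
    (hA : Cfsg.IsElementaryAbelian 2 A) (hAcard : Nat.card A = 2 ^ (m + 1)) :
    Nat.card {y : E // y ^ 2 = 1} = 2 ^ (2 * m) + 2 ^ m := by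
  classical
  obtain ⟨hZA, hCA⟩ := extraspecial_plus_facts m hE hcard A hA hAcard
  obtain ⟨⟨hP, hfr, hcm⟩, hZ⟩ := hE
  have hc : ∀ x y : E, ⁅x, y⁆ ∈ Subgroup.center E := fun x y => by
    rw [← hcm]
    exact Subgroup.commutator_mem_commutator (Subgroup.mem_top x) (Subgroup.mem_top y)
  haveI : Fact (Nat.Prime 2) := ⟨Nat.prime_two⟩
  have hsq : ∀ x : E, x ^ 2 ∈ Subgroup.center E := fun x => by
    rw [← hfr]; exact Lead.pow_mem_frattini_of_isPGroup 2 hP x
  haveI : Fintype E := Fintype.ofFinite E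
  haveI : Fintype A := Fintype.ofFinite A
  have key := sum_card_comm (fun (x : E) (a : A) => (x * (a : E)) ^ 2 = 1)
  have hR : ∑ a : A, Nat.card {x : E // (x * (a : E)) ^ 2 = 1} =
      Nat.card A * Nat.card {y : E // y ^ 2 = 1} := by
    have : ∀ a : A, Nat.card {x : E // (x * (a : E)) ^ 2 = 1} = Nat.card {y : E // y ^ 2 = 1} :=
      fun a => Nat.card_congr ((Equiv.mulRight (a : E)).subtypeEquiv (fun _ => Iff.rfl))
    simp_rw [this]
    rw [Finset.sum_const, Finset.card_univ, smul_eq_mul, ← Nat.card_eq_fintype_card]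
  have hterm : ∀ x : E, 2 * Nat.card {a : A // (x * (a : E)) ^ 2 = 1} =
      Nat.card A * (if x ∈ A then 2 else 1) := by
    intro x
    split_ifs with hx
    · have : Nat.card {a : A // (x * (a : E)) ^ 2 = 1} = Nat.card A :=
        Nat.card_congr (Equiv.subtypeUnivEquiv (fun a => hA.2 _ (A.mul_mem hx a.2)))
      rw [this, mul_comm]
    · have hxC : x ∉ Subgroup.centralizer (A : Set E) := by rw [hCA]; exact hx
      have hnt : ∃ a : A, ((commHom hc x).comp A.subtype) a ≠ 1 := by
        by_contra hcon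
        push Not at hcon
        apply hxC
        rw [Subgroup.mem_centralizer_iff]
        intro a ha
        have := hcon ⟨a, ha⟩
        rwa [MonoidHom.comp_apply, commHom_apply, commutatorElement_eq_one_iff_mul_comm] at this
      obtain ⟨h1, h2⟩ := card_ker_mul_two ((commHom hc x).comp A.subtype) (Subgroup.center E) hZ
        (fun a => hc a x) hnt
      have h3 : (x ^ 2)⁻¹ ∈ ((commHom hc x).comp A.subtype).range := by
        rw [h2]; exact Subgroup.inv_mem _ (hsq x)
      obtain ⟨a₀, ha₀⟩ := h3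
      have h4 : Nat.card {a : A // (x * (a : E)) ^ 2 = 1} =
          Nat.card ((commHom hc x).comp A.subtype).ker := by
        rw [← card_fiber_eq_card_ker _ a₀]
        refine Nat.card_congr (Equiv.subtypeEquivRight (fun a => ?_))
        rw [ha₀, MonoidHom.comp_apply, commHom_apply]
        have hca := Subgroup.mem_center_iff.1 (hc (a : E) x)
        have e : (x * (a : E)) ^ 2 = ⁅(a : E), x⁆ * x ^ 2 := by
          have ha2 : (a : E) ^ 2 = 1 := hA.2 _ a.2
          calc (x * (a : E)) ^ 2 = x * ((a : E) * x) * a := by rw [sq]; group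
            _ = x * (⁅(a : E), x⁆ * x * a) * a := by
              rw [show (a : E) * x = ⁅(a : E), x⁆ * x * a from by
                rw [commutatorElement_def]; group]
            _ = (x * ⁅(a : E), x⁆) * x * (a * a) := by group
            _ = (⁅(a : E), x⁆ * x) * x * (a * a) := by rw [hca x]
            _ = ⁅(a : E), x⁆ * x ^ 2 * (a : E) ^ 2 := by rw [sq, sq]; group
            _ = _ := by rw [ha2, mul_one]
        show (x * (a : E)) ^ 2 = 1 ↔ ⁅(a : E), x⁆ = (x ^ 2)⁻¹
        rw [e]
        constructor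
        · intro h; exact eq_inv_of_mul_eq_one_left h
        · intro h; rw [h, inv_mul_cancel]
      rw [h4, mul_one, ← h1, mul_comm]
  have hL : ∑ x : E, 2 * Nat.card {a : A // (x * (a : E)) ^ 2 = 1} =
      Nat.card A * (Nat.card E + Nat.card A) := by
    simp_rw [hterm]
    rw [← Finset.mul_sum, sum_ite_two_one]
  rw [← Finset.mul_sum, key, hR] at hL
  have h7 : 2 * Nat.card {y : E // y ^ 2 = 1} = Nat.card E + Nat.card A := by
    have : Nat.card A * (2 * Nat.card {y : E // y ^ 2 = 1}) =
        Nat.card A * (Nat.card E + Nat.card A) := by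
      rw [← hL]; ring
    exact Nat.eq_of_mul_eq_mul_left Nat.card_pos this
  rw [hcard, hAcard] at h7
  have e1 : 2 ^ (2 * m + 1) = 2 * 2 ^ (2 * m) := by ring
  have e2 : 2 ^ (m + 1) = 2 * 2 ^ m := by ring
  omega

theorem extraspecial_order_four_iff [Finite E] (hE : Cfsg.IsExtraspecial 2 E) (x : E) :
    orderOf x = 4 ↔ ¬ x ^ 2 = 1 := by
  obtain ⟨⟨hP, hfr, hcm⟩, hZ⟩ := hE
  haveI : Fact (Nat.Prime 2) := ⟨Nat.prime_two⟩
  have hsq : x ^ 2 ∈ Subgroup.center E := by
    rw [← hfr]; exact Lead.pow_mem_frattini_of_isPGroup 2 hP x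
  have h4 : x ^ 4 = 1 := by
    have h1 : (⟨x ^ 2, hsq⟩ : Subgroup.center E) ^ Nat.card (Subgroup.center E) = 1 :=
      pow_card_eq_one'
    rw [hZ] at h1
    have h2 : (x ^ 2) ^ 2 = 1 := by
      have := congrArg Subtype.val h1
      simpa using this
    calc x ^ 4 = (x ^ 2) ^ 2 := by rw [← pow_mul]
      _ = 1 := h2
  constructor
  · intro h hx
    have h1 := orderOf_dvd_of_pow_eq_one hx
    rw [h] at h1
    exact absurd (Nat.le_of_dvd (by norm_num) h1) (by norm_num)
  · intro hx
    have := orderOf_eq_prime_pow (p := 2) (n := 1) (x := x) (by simpa using hx) (by simpa using h4)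
    simpa using this

theorem extraspecial_plus_order_four [Finite E] (m : ℕ) (hE : Cfsg.IsExtraspecial 2 E)
    (hcard : Nat.card E = 2 ^ (2 * m + 1)) (A : Subgroup E)
    (hA : Cfsg.IsElementaryAbelian 2 A) (hAcard : Nat.card A = 2 ^ (m + 1)) :
    Nat.card {x : E // orderOf x = 4} = 2 ^ (2 * m) - 2 ^ m := by
  classical
  have hI := extraspecial_plus_sq_count m hE hcard A hA hAcard
  rw [Nat.card_congr (Equiv.subtypeEquivRight (extraspecial_order_four_iff hE))]
  haveI : Fintype E := Fintype.ofFinite E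
  rw [Nat.card_eq_fintype_card, Fintype.card_subtype_compl, ← Nat.card_eq_fintype_card,
    ← Nat.card_eq_fintype_card, hcard, hI]
  have e1 : 2 ^ (2 * m + 1) = 2 * 2 ^ (2 * m) := by ring
  omega

end Cfsg.Agent.Helper5
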