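import Mathlib
import Cfsg.Agent.Helper5.Extraspecial

set_option autoImplicit false

namespace Cfsg.Agent.Helper5

theorem five_dvd_card_of_no_fixed {X : Type*} [Finite X] (f : X → X)
    (hf : ∀ x, f (f (f (f (f x)))) = x) (hfix : ∀ x, f x ≠ x) : 5 ∣ Nat.card X := by
  classical
  haveI : Fintype X := Fintype.ofFinite X
  haveI : Fact (Nat.Prime 5) := ⟨by norm_num⟩
  obtain ⟨g, hg⟩ : ∃ g : Function.End X, g = f := ⟨f, rfl⟩
  have h5 : g ^ 5 ^ 1 = 1 := by
    funext x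
    show (g ^ 5 ^ 1) x = x
    simp only [pow_one, pow_succ, pow_zero, one_mul, Function.End.mul_def, Function.comp_apply]
    rw [hg]
    exact hf x
  have h1 := Equiv.Perm.card_fixedPoints_modEq (f := g) (p := 5) (n := 1) h5
  have h3 : Fintype.card X ≡ 0 [MOD 5] := by
    convert h1 using 1
    symm
    rw [Fintype.card_eq_zero_iff]
    exact ⟨fun x => hfix x.1 ((congrFun hg x.1).symm.trans x.2)⟩
  rw [Nat.card_eq_fintype_card]
  exact (Nat.modEq_zero_iff_dvd).1 h3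

theorem four_dvd_of_five_dvd (m : ℕ) (h : 5 ∣ 2 ^ (2 * m) - 2 ^ m) : 4 ∣ m := by
  have h16 : ∀ q : ℕ, 16 ^ q % 5 = 1 := fun q => by
    rw [Nat.pow_mod]; norm_num
  have hm : 2 ^ m = 16 ^ (m / 4) * 2 ^ (m % 4) := by
    conv_lhs => rw [← Nat.div_add_mod m 4, pow_add, pow_mul]
    norm_num
  have hpos : 1 ≤ 2 ^ m := Nat.one_le_two_pow
  have e : 2 ^ (2 * m) - 2 ^ m = 2 ^ m * (2 ^ m - 1) := by
    rw [Nat.mul_sub, mul_one, two_mul, pow_add]
  rw [e] at h
  have h5 : Nat.Prime 5 := by norm_num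
  rcases (Nat.Prime.dvd_mul h5).1 h with h1 | h1
  · exfalso
    have := (Nat.Prime.dvd_of_dvd_pow h5 h1)
    omega
  · have h2 : 2 ^ m % 5 = 1 := by omega
    rw [hm, Nat.mul_mod, h16, one_mul, Nat.mod_mod] at h2
    have h3 : m % 4 < 4 := Nat.mod_lt _ (by norm_num)
    have h4 : m % 4 = 0 := by
      interval_cases (m % 4) <;> simp_all
    exact Nat.dvd_of_mod_eq_zero h4

theorem extraspecial_aut_five {E : Type*} [Group E] [Finite E] (m : ℕ)
    (hE : Cfsg.IsExtraspecial 2 E) (hcard : Nat.card E = 2 ^ (2 * m + 1)) (A : Subgroup E)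
    (hA : Cfsg.IsElementaryAbelian 2 A) (hAcard : Nat.card A = 2 ^ (m + 1))
    (ω : E ≃* E) (hω : orderOf ω = 5) (hfix : ∀ x : E, ω x = x ↔ x ∈ Subgroup.center E) :
    4 ∣ m := by
  have hcount := extraspecial_plus_order_four m hE hcard A hA hAcard
  apply four_dvd_of_five_dvd
  rw [← hcount]
  have hω5 : ω ^ 5 = 1 := hω ▸ pow_orderOf_eq_one ω
  refine five_dvd_card_of_no_fixed
    (fun x : {x : E // orderOf x = 4} => ⟨ω x.1, by rw [MulEquiv.orderOf_eq]; exact x.2⟩) ?_ ?_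
  · intro x
    apply Subtype.ext
    show ω (ω (ω (ω (ω x.1)))) = x.1
    have h1 : (ω ^ 5) x.1 = x.1 := by rw [hω5]; rfl
    simp only [pow_succ, pow_zero, one_mul, MulAut.mul_apply] at h1
    exact h1
  · intro x hx
    have h1 : ω x.1 = x.1 := congrArg Subtype.val hx
    have h2 := (hfix x.1).1 h1
    have hZ := hE.2
    have h3 : (⟨x.1, h2⟩ : Subgroup.center E) ^ Nat.card (Subgroup.center E) = 1 :=
      pow_card_eq_one'
    rw [hZ] at h3
    have h4 : x.1 ^ 2 = 1 := by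
      have := congrArg Subtype.val h3
      simpa using this
    exact ((extraspecial_order_four_iff hE x.1).1 x.2) h4

end Cfsg.Agent.Helper5
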