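import Mathlib
import Cfsg.Prelude.Def_LocalStructure
import Cfsg.Prelude.Def_Transfer
import Cfsg.Prelude.Def_Local
import Cfsg.Agent.Helper5.PMinComp
import Cfsg.Agent.Helper3.FStar

set_option autoImplicit false

namespace Cfsg.Agent.Helper5

universe u

open scoped commutatorElement

variable {H : Type u} [Group H] [Finite H] {p : ℕ} [Fact p.Prime]

/-- with `O_p(H) = 1`, normal nilpotent subgroups have order prime to `p`. -/
theorem not_dvd_card_of_normal_nilpotent (hO : Cfsg.pCore p H = ⊥) (N : Subgroup H)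
    (hNn : N.Normal) (hNnil : Group.IsNilpotent ↥N) : ¬ p ∣ Nat.card N := by
  have hp : p.Prime := Fact.out
  obtain ⟨Q⟩ : Nonempty (Sylow p ↥N) := inferInstance
  have h03 := (Group.isNilpotent_of_finite_tfae (G := ↥N)).out 0 3
  haveI hQn : (Q : Subgroup ↥N).Normal := h03.1 hNnil p ⟨hp⟩ Q
  haveI hQc : (Q : Subgroup ↥N).Characteristic := Sylow.characteristic_of_normal Q hQn
  haveI := hNn
  have hQn' : ((Q : Subgroup ↥N).map N.subtype).Normal := inferInstance
  have hQbot : (Q : Subgroup ↥N).map N.subtype = ⊥ := by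
    rw [← le_bot_iff, ← hO]
    exact le_pCore _ hQn' (Q.2.map _)
  have hQ1 : (Q : Subgroup ↥N) = ⊥ := by
    rw [Subgroup.map_eq_bot_iff_of_injective _ N.subtype_injective] at hQbot
    exact hQbot
  exact fun hdvd => Q.ne_bot_of_dvd_card hdvd hQ1

omit [Finite H] in
theorem le_pResidual_of_not_dvd_card (N : Subgroup H) (hpN : ¬ p ∣ Nat.card N) :
    N ≤ Cfsg.pResidual p H := by
  have hp : p.Prime := Fact.out
  intro g hg
  apply Subgroup.subset_closure
  show Nat.Coprime (orderOf g) p
  apply Nat.Coprime.symm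
  rw [Nat.Prime.coprime_iff_not_dvd hp]
  intro hdvd
  apply hpN
  have h4 : orderOf (⟨g, hg⟩ : ↥N) ∣ Nat.card N := orderOf_dvd_natCard _
  rw [← Subgroup.orderOf_coe] at h4
  exact hdvd.trans h4

/-- `O^p(H)` quasisimple with `O_p(H) = 1`. -/
theorem qsres_main (hp : p ∣ Nat.card H) (hO : Cfsg.pCore p H = ⊥)
    (hq : Cfsg.IsQuasisimple ↥(Cfsg.pResidual p H)) :
    Cfsg.pResidual p H = Cfsg.generalizedFittingSubgroup H ∧
    (∀ Y : Subgroup H, IsPGroup p ↥Y → Y ≠ ⊥ →
      ⁅Cfsg.pResidual p H, Y⁆ = Cfsg.pResidual p H ∧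
      Cfsg.pResidual p H ≤ ⨆ k : ↥(Cfsg.pResidual p H), Y.map (MulAut.conj (k : H)).toMonoidHom) ∧
    (∀ C : Subgroup H, C.Normal → ¬ Cfsg.pResidual p H ≤ C → (Nat.card ↥C).Coprime p) ∧
    Cfsg.IsPIrreducible p H := by
  have hpp : p.Prime := Fact.out
  haveI hKn := pResidual_normal' (H := H) p
  have hKc : Cfsg.IsComponent (Cfsg.pResidual p H) := ⟨hKn.isSubnormal, hq⟩
  have hlay : Cfsg.layer H ≤ Cfsg.pResidual p H := by
    apply le_of_commutator_self_of_solvable_quotient _ _ _
      Cfsg.Agent.Helper3.layer_commutator_self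
    haveI : Group.IsNilpotent (H ⧸ Cfsg.pResidual p H) :=
      (isPGroup_quotient_pResidual (Cfsg.pResidual p H) le_rfl).isNilpotent
    infer_instance
  have hfit : Cfsg.fittingSubgroup H ≤ Cfsg.pResidual p H := by
    apply sSup_le
    rintro N ⟨hNn, hNnil⟩
    exact le_pResidual_of_not_dvd_card N (not_dvd_card_of_normal_nilpotent hO N hNn hNnil)
  have hF : Cfsg.pResidual p H = Cfsg.generalizedFittingSubgroup H :=
    le_antisymm ((Cfsg.Agent.Helper3.component_le_layer _ hKc).trans le_sup_left)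
      (sup_le hlay hfit)
  have hcent : Subgroup.centralizer (Cfsg.pResidual p H : Set H) ≤ Cfsg.pResidual p H := by
    have h0 := Cfsg.Agent.Helper3.centralizer_fstar_le H
    rw [← hF] at h0
    exact h0
  have h3 : ∀ C : Subgroup H, C.Normal → ¬ Cfsg.pResidual p H ≤ C → ¬ p ∣ Nat.card C := by
    intro C hCn hKC
    rcases Cfsg.Agent.Helper3.component_le_or_commute _ C hKc hCn.isSubnormal with h | h
    · exact absurd h hKC
    · rw [Subgroup.commutator_comm, Subgroup.commutator_eq_bot_iff_le_centralizer] at h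
      apply not_dvd_card_of_normal_nilpotent hO C hCn
      haveI : IsMulCommutative ↥C := isMulCommutative_iff.mpr fun a b =>
        Subtype.ext (Subgroup.mem_centralizer_iff.1 (h b.2) (a : H) (hcent (h a.2)))
      exact Cfsg.Agent.Helper3.nilpotent_of_commutative ↥C
  have h2a : ∀ Y : Subgroup H, IsPGroup p ↥Y → Y ≠ ⊥ →
      ¬ Y ≤ Subgroup.centralizer (Cfsg.pResidual p H : Set H) := by
    intro Y hYp hY1 hYC
    have hZn : (Cfsg.pResidual p H ⊓
        Subgroup.centralizer (Cfsg.pResidual p H : Set H)).Normal := inferInstance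
    have hKZ : ¬ Cfsg.pResidual p H ≤ Cfsg.pResidual p H ⊓
        Subgroup.centralizer (Cfsg.pResidual p H : Set H) := by
      intro hle
      apply Cfsg.Agent.Helper3.component_not_commutative _ hKc
      intro a ha b hb
      exact Subgroup.mem_centralizer_iff.1 (hle hb).2 a ha
    have hnd := h3 _ hZn hKZ
    have hYZ : Y ≤ Cfsg.pResidual p H ⊓ Subgroup.centralizer (Cfsg.pResidual p H : Set H) :=
      le_inf (hYC.trans hcent) hYC
    exact hnd ((dvd_card_of_isPGroup_ne_bot Y hYp hY1).trans (Subgroup.card_dvd_of_le hYZ))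
  refine ⟨hF, ?_, ?_, ?_, ?_⟩
  · intro Y hYp hY1
    have hDK : ⁅Cfsg.pResidual p H, Y⁆ ≤ Cfsg.pResidual p H := Subgroup.commutator_le_left _ _
    have hD : ⁅Cfsg.pResidual p H, Y⁆ = Cfsg.pResidual p H := by
      have hKN : Cfsg.pResidual p H ≤
          Subgroup.normalizer ((⁅Cfsg.pResidual p H, Y⁆ : Subgroup H) : Set H) := by
        intro k' hk'
        apply mem_normalizer_of_conj_le
        rw [Subgroup.commutator_def, MonoidHom.map_closure, Subgroup.closure_le]
        rintro _ ⟨_, ⟨k, hk, y, hy, rfl⟩, rfl⟩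
        have e : (MulAut.conj k').toMonoidHom ⁅k, y⁆ = ⁅k' * k, y⁆ * ⁅k', y⁆⁻¹ := by
          simp only [MulEquiv.coe_toMonoidHom, MulAut.conj_apply, commutatorElement_def]
          group
        rw [e, ← Subgroup.commutator_def]
        exact Subgroup.mul_mem _
          (Subgroup.commutator_mem_commutator (Subgroup.mul_mem _ hk' hk) hy)
          (Subgroup.inv_mem _ (Subgroup.commutator_mem_commutator hk' hy))
      haveI hDn : ((⁅Cfsg.pResidual p H, Y⁆ : Subgroup H).subgroupOf (Cfsg.pResidual p H)).Normal :=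
        (Subgroup.normal_subgroupOf_iff_le_normalizer hDK).2 hKN
      rcases Cfsg.Agent.Helper3.quasisimple_normal hq
        ((⁅Cfsg.pResidual p H, Y⁆ : Subgroup H).subgroupOf (Cfsg.pResidual p H)) with h | h
      · exact le_antisymm hDK (Subgroup.subgroupOf_eq_top.1 h)
      · exfalso
        have hDC : ⁅Cfsg.pResidual p H, Y⁆ ≤
            Subgroup.centralizer (Cfsg.pResidual p H : Set H) := by
          intro d hd
          rw [Subgroup.mem_centralizer_iff]
          intro k hk
          have h1 : (⟨d, hDK hd⟩ : ↥(Cfsg.pResidual p H)) ∈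
              Subgroup.center ↥(Cfsg.pResidual p H) := h (Subgroup.mem_subgroupOf.2 hd)
          rw [Subgroup.mem_center_iff] at h1
          exact congrArg Subtype.val (h1 ⟨k, hk⟩)
        have e1 : ⁅⁅Cfsg.pResidual p H, Y⁆, Cfsg.pResidual p H⁆ = ⊥ :=
          Subgroup.commutator_eq_bot_iff_le_centralizer.2 hDC
        have e2 : ⁅⁅Y, Cfsg.pResidual p H⁆, Cfsg.pResidual p H⁆ = ⊥ := by
          rw [Subgroup.commutator_comm Y (Cfsg.pResidual p H)]
          exact e1
        have e3 : ⁅⁅Cfsg.pResidual p H, Cfsg.pResidual p H⁆, Y⁆ = ⊥ :=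
          Subgroup.commutator_commutator_eq_bot_of_rotate e1 e2
        rw [Subgroup.isPerfect_iff.mp hq.1, Subgroup.commutator_comm,
          Subgroup.commutator_eq_bot_iff_le_centralizer] at e3
        exact h2a Y hYp hY1 e3
    refine ⟨hD, ?_⟩
    calc Cfsg.pResidual p H = ⁅Cfsg.pResidual p H, Y⁆ := hD.symm
      _ ≤ _ := by
        rw [Subgroup.commutator_le]
        intro k hk y hy
        rw [commutatorElement_def]
        have h1 : k * y * k⁻¹ ∈ ⨆ k : ↥(Cfsg.pResidual p H),
            Y.map (MulAut.conj (k : H)).toMonoidHom :=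
          (le_iSup (fun k : ↥(Cfsg.pResidual p H) => Y.map (MulAut.conj (k : H)).toMonoidHom)
            ⟨k, hk⟩) (conj_mem_conj Y k y hy)
        have h2 : y ∈ ⨆ k : ↥(Cfsg.pResidual p H),
            Y.map (MulAut.conj (k : H)).toMonoidHom := by
          have h0 := le_iSup (fun k : ↥(Cfsg.pResidual p H) =>
            Y.map (MulAut.conj (k : H)).toMonoidHom) 1
          have h1' : Y.map (MulAut.conj ((1 : ↥(Cfsg.pResidual p H)) : H)).toMonoidHom = Y := by
            rw [OneMemClass.coe_one, conj_one]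
          rw [h1'] at h0
          exact h0 hy
        exact Subgroup.mul_mem _ h1 (Subgroup.inv_mem _ h2)
  · intro C hCn hKC
    exact ((Nat.Prime.coprime_iff_not_dvd hpp).2 (h3 C hCn hKC)).symm
  · intro hcl
    obtain ⟨S⟩ : Nonempty (Sylow p H) := inferInstance
    have hSn := hcl S
    have h1 : (S : Subgroup H) ≤ Cfsg.pCore p H := le_pCore _ hSn S.2
    rw [hO, le_bot_iff] at h1
    exact S.ne_bot_of_dvd_card hp h1
  · intro N hNn hNcl
    by_contra hKN
    apply hNcl
    have hnd := h3 N hNn hKN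
    intro T
    have hT : (T : Subgroup ↥N) = ⊥ := by
      by_contra hne
      exact hnd ((dvd_card_of_isPGroup_ne_bot (T : Subgroup ↥N) T.2 hne).trans
        (Subgroup.card_subgroup_dvd_card _))
    rw [hT]
    infer_instance

end Cfsg.Agent.Helper5
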