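import Mathlib
import Cfsg.Prelude.Def_Local
import Cfsg.Prelude.Def_EvenType
import Cfsg.Agent.Helper5.Basic
import Cfsg.Agent.Helper5.WeakCl
import Cfsg.Agent.Helper5.PRes
import Cfsg.Agent.Helper5.QSRes
import Cfsg.Agent.Helper3.Component
import Cfsg.Agent.Helper3.Quasisimple
import Cfsg.Agent.Helper3.Layer2
import Cfsg.Agent.Helper3.Cores
import Cfsg.Agent.Helper4.PLength
import Cfsg.Agent.Lead.Coprime2
import Cfsg.Agent.Lead.Fitting

set_option autoImplicit false

namespace Cfsg.Agent.Helper5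

open scoped commutatorElement

universe u

variable {G : Type u} [Group G]

/-- conjugation by a normalizing element as an automorphism of the subgroup. -/
def normConj (L : Subgroup G) (y : G) (hy : y ∈ Subgroup.normalizer (L : Set G)) : ↥L ≃* ↥L where
  toFun x := ⟨y * x * y⁻¹, (Subgroup.mem_normalizer_iff.1 hy x).1 x.2⟩
  invFun x := ⟨y⁻¹ * x * y, by
    have := (Subgroup.mem_normalizer_iff.1 (inv_mem hy) x).1 x.2
    simpa using this⟩
  left_inv x := Subtype.ext (by simp [mul_assoc])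
  right_inv x := Subtype.ext (by simp [mul_assoc])
  map_mul' a b := Subtype.ext (by simp [mul_assoc])

theorem normConj_coe (L : Subgroup G) (y : G) (hy : y ∈ Subgroup.normalizer (L : Set G))
    (x : ↥L) : ((normConj L y hy x : ↥L) : G) = y * x * y⁻¹ := rfl

theorem compOf_conj (L K : Subgroup G) (y : G) (hy : y ∈ Subgroup.normalizer (L : Set G))
    (hK : Cfsg.IsComponentOf K L) :
    Cfsg.IsComponentOf (K.map (MulAut.conj y).toMonoidHom) L := by
  have hKL := hK.1
  have hle : K.map (MulAut.conj y).toMonoidHom ≤ L := by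
    rintro _ ⟨k, hk, rfl⟩
    exact (Subgroup.mem_normalizer_iff.1 hy k).1 (hKL hk)
  refine ⟨hle, ?_⟩
  have e : (K.map (MulAut.conj y).toMonoidHom).subgroupOf L =
      (K.subgroupOf L).map (normConj L y hy).toMonoidHom := by
    ext x
    constructor
    · intro hx
      rw [Subgroup.mem_subgroupOf] at hx
      obtain ⟨k, hk, hkx⟩ := hx
      refine ⟨⟨k, hKL hk⟩, Subgroup.mem_subgroupOf.2 hk, ?_⟩
      apply Subtype.ext
      exact hkx
    · rintro ⟨k, hk, rfl⟩
      have hk' : (k : G) ∈ K := hk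
      exact Subgroup.mem_subgroupOf.2 ⟨(k : G), hk', rfl⟩
  rw [e]
  exact Helper3.component_map_equiv _ _ hK.2

theorem compOf_commute [Finite G] (L K₁ K₂ : Subgroup G) (h1 : Cfsg.IsComponentOf K₁ L)
    (h2 : Cfsg.IsComponentOf K₂ L) (hne : K₁ ≠ K₂) : ⁅K₁, K₂⁆ = ⊥ := by
  apply Helper3.commutator_eq_bot_of_subgroupOf K₁ K₂ L h1.1 h2.1
  apply Helper3.components_commute _ _ h1.2 h2.2
  intro h
  apply hne
  have h3 := Subgroup.subgroupOf_inj.1 h
  rwa [inf_of_le_left h1.1, inf_of_le_left h2.1] at h3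

theorem compOf_quasisimple (L K : Subgroup G) (hK : Cfsg.IsComponentOf K L) :
    Cfsg.IsQuasisimple ↥K :=
  Helper3.quasisimple_of_mulEquiv (Subgroup.subgroupOfEquivOfLe hK.1) hK.2.2

theorem compOf_perfect (L K : Subgroup G) (hK : Cfsg.IsComponentOf K L) : ⁅K, K⁆ = K := by
  have h1 := (compOf_quasisimple L K hK).1
  have h2 : commutator ↥K = ⊤ := h1.commutator_eq_top
  have h3 := Subgroup.map_subtype_commutator K
  rw [h2, ← MonoidHom.range_eq_map, Subgroup.range_subtype] at h3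
  exact h3.symm

theorem compOf_le_commutator_sup_centralizer [Finite G] (L Y K : Subgroup G)
    (hYL : Y ≤ Subgroup.normalizer (L : Set G)) (hK : Cfsg.IsComponentOf K L) :
    K ≤ ⁅L, Y⁆ ⊔ (L ⊓ Subgroup.centralizer (Y : Set G)) := by
  have hKL := hK.1
  have hperf := compOf_perfect L K hK
  have hLM : L ≤ Subgroup.normalizer ((⁅L, Y⁆ : Subgroup G) : Set G) :=
    Lead.le_normalizer_commutator_left L Y
  by_cases hY : ∀ y ∈ Y, K.map (MulAut.conj y).toMonoidHom = K
  · have hYK : Y ≤ Subgroup.normalizer (K : Set G) :=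
      fun y hy => (mem_normalizer_iff_conj_eq K y).2 (hY y hy)
    have hKYK : ⁅K, Y⁆ ≤ K := commutator_le_left_of_le_normalizer K Y hYK
    have hKn : K ≤ Subgroup.normalizer ((⁅K, Y⁆ : Subgroup G) : Set G) :=
      Lead.le_normalizer_commutator_left K Y
    have hqs := compOf_quasisimple L K hK
    haveI : ((⁅K, Y⁆ : Subgroup G).subgroupOf K).Normal :=
      (Subgroup.normal_subgroupOf_iff_le_normalizer hKYK).2 hKn
    rcases Helper3.quasisimple_normal hqs ((⁅K, Y⁆ : Subgroup G).subgroupOf K) with h | h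
    · have h1 : K ≤ ⁅K, Y⁆ := Subgroup.subgroupOf_eq_top.1 h
      exact h1.trans ((Subgroup.commutator_mono hKL le_rfl).trans le_sup_left)
    · have h1 : ⁅⁅K, Y⁆, K⁆ = ⊥ := by
        rw [Subgroup.commutator_eq_bot_iff_le_centralizer]
        intro x hx
        rw [Subgroup.mem_centralizer_iff]
        intro k hk
        have hx' : (⟨x, hKYK hx⟩ : ↥K) ∈ Subgroup.center ↥K := h (Subgroup.mem_subgroupOf.2 hx)
        have h0 := Subgroup.mem_center_iff.1 hx' ⟨k, hk⟩
        exact congrArg Subtype.val h0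
      have h2 : ⁅⁅Y, K⁆, K⁆ = ⊥ := by rw [Subgroup.commutator_comm Y K]; exact h1
      have h3 : ⁅⁅K, K⁆, Y⁆ = ⊥ := Subgroup.commutator_commutator_eq_bot_of_rotate h1 h2
      rw [hperf, Subgroup.commutator_eq_bot_iff_le_centralizer] at h3
      exact (le_inf hKL h3).trans le_sup_right
  · obtain ⟨y, hy, hne⟩ : ∃ y ∈ Y, K.map (MulAut.conj y).toMonoidHom ≠ K := by
      by_contra hcon
      apply hY
      intro y hy
      by_contra h
      exact hcon ⟨y, hy, h⟩
    have hKy := compOf_conj L K y (hYL hy) hK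
    have hcomm : ⁅K.map (MulAut.conj y).toMonoidHom, K⁆ = ⊥ := compOf_commute L _ K hKy hK hne
    rw [Subgroup.commutator_eq_bot_iff_le_centralizer] at hcomm
    have h1 : ⁅K, K⁆ ≤ ⁅L, Y⁆ := by
      rw [Subgroup.commutator_le]
      intro k hk k' hk'
      have hc1 : k' * (y * k⁻¹ * y⁻¹) = (y * k⁻¹ * y⁻¹) * k' :=
        Subgroup.mem_centralizer_iff.1 (hcomm (conj_mem_conj K y k⁻¹ (K.inv_mem hk))) k' hk'
      have e : ⁅k, k'⁆ = ⁅⁅k, y⁆, k'⁆ := by
        simp only [commutatorElement_def]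
        calc k * k' * k⁻¹ * k'⁻¹
            = k * (k' * (y * k⁻¹ * y⁻¹)) * (y * k⁻¹ * y⁻¹)⁻¹ * k⁻¹ * k'⁻¹ := by group
          _ = k * ((y * k⁻¹ * y⁻¹) * k') * (y * k⁻¹ * y⁻¹)⁻¹ * k⁻¹ * k'⁻¹ := by rw [hc1]
          _ = k * y * k⁻¹ * y⁻¹ * k' * (k * y * k⁻¹ * y⁻¹)⁻¹ * k'⁻¹ := by group
      rw [e]
      exact commutator_le_left_of_le_normalizer _ L hLM
        (Subgroup.commutator_mem_commutator
          (Subgroup.commutator_mem_commutator (hKL hk) hy) (hKL hk'))
    rw [hperf] at h1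
    exact h1.trans le_sup_left

theorem fitting_le_commutator_sup_centralizer [Finite G] {p : ℕ} [Fact p.Prime] (L Y : Subgroup G)
    (hY : IsPGroup p Y) (hYL : Y ≤ Subgroup.normalizer (L : Set G))
    (hO : Cfsg.pCore p ↥L = ⊥) :
    (Cfsg.fittingSubgroup ↥L).map L.subtype ≤ ⁅L, Y⁆ ⊔ (L ⊓ Subgroup.centralizer (Y : Set G)) := by
  have hp : p.Prime := Fact.out
  obtain ⟨F, hF⟩ : ∃ F : Subgroup G, F = (Cfsg.fittingSubgroup ↥L).map L.subtype := ⟨_, rfl⟩
  rw [← hF]
  have hFL : F ≤ L := by rw [hF]; exact Subgroup.map_subtype_le _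
  have hYF : Y ≤ Subgroup.normalizer (F : Set G) := by
    intro y hy
    apply mem_normalizer_of_conj_le
    rw [hF]
    rintro _ ⟨_, ⟨x, hx, rfl⟩, rfl⟩
    refine ⟨normConj L y (hYL hy) x, ?_, rfl⟩
    have h1 := Subgroup.characteristic_iff_map_eq.1 (Helper3.fitting_characteristic ↥L)
      (normConj L y (hYL hy))
    rw [← h1]
    exact ⟨x, hx, rfl⟩
  have hcard : ¬ p ∣ Nat.card F := by
    have h1 := not_dvd_card_of_normal_nilpotent hO (Cfsg.fittingSubgroup ↥L)
      (Helper3.fitting_normal ↥L) Lead.fitting_isNilpotent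
    rw [hF, ← Nat.card_congr (Subgroup.equivMapOfInjective _ _
      (Subgroup.subtype_injective L)).toEquiv]
    exact h1
  obtain ⟨k, hk⟩ := IsPGroup.iff_card.1 hY
  have hcop : (Nat.card Y).Coprime (Nat.card F) := by
    rw [hk]
    exact Nat.Coprime.pow_left k ((Nat.Prime.coprime_iff_not_dvd hp).2 hcard)
  haveI : Group.IsNilpotent ↥Y := hY.isNilpotent
  have hsolv : Group.IsSolvable ↥Y := inferInstance
  intro x hx
  obtain ⟨n, hn, c, hc, rfl⟩ := Lead.coprime_decomp Y F hYF hcop (Or.inl hsolv) x hx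
  exact Subgroup.mul_mem _
    ((le_sup_left : ⁅L, Y⁆ ≤ _) (Subgroup.commutator_mono hFL le_rfl hn))
    ((le_sup_right : L ⊓ Subgroup.centralizer (Y : Set G) ≤ _) ⟨hFL hc.1, hc.2⟩)

theorem fstarY [Finite G] {p : ℕ} [Fact p.Prime] (L Y : Subgroup G) (hY : IsPGroup p Y)
    (hYL : Y ≤ Subgroup.normalizer (L : Set G)) (hO : Cfsg.pCore p ↥L = ⊥)
    (hF : Cfsg.generalizedFittingSubgroup ↥L = ⊤) :
    ⁅L, Y⁆ ⊔ (L ⊓ Subgroup.centralizer (Y : Set G)) = L ∧ ⁅L, Y⁆ = ⁅⁅L, Y⁆, Y⁆ := by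
  have hLYL : ⁅L, Y⁆ ≤ L := commutator_le_left_of_le_normalizer L Y hYL
  have hLM : L ≤ Subgroup.normalizer ((⁅L, Y⁆ : Subgroup G) : Set G) :=
    Lead.le_normalizer_commutator_left L Y
  have h1 : ⁅L, Y⁆ ⊔ (L ⊓ Subgroup.centralizer (Y : Set G)) = L := by
    apply le_antisymm (sup_le hLYL inf_le_left)
    have h3 : L ≤ (Cfsg.layer ↥L).map L.subtype ⊔ (Cfsg.fittingSubgroup ↥L).map L.subtype := by
      rw [← Subgroup.map_sup]
      show L ≤ (Cfsg.generalizedFittingSubgroup ↥L).map L.subtype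
      rw [hF, ← MonoidHom.range_eq_map, Subgroup.range_subtype]
    refine h3.trans (sup_le ?_ ?_)
    · unfold Cfsg.layer
      rw [Subgroup.map_le_iff_le_comap]
      apply sSup_le
      intro K' hK'
      rw [← Subgroup.map_le_iff_le_comap]
      apply compOf_le_commutator_sup_centralizer L Y _ hYL
      refine ⟨Subgroup.map_subtype_le _, ?_⟩
      rw [Subgroup.subgroupOf, Subgroup.comap_map_eq_self_of_injective (Subgroup.subtype_injective L)]
      exact hK'
    · exact fitting_le_commutator_sup_centralizer L Y hY hYL hO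
  refine ⟨h1, le_antisymm ?_ (Subgroup.commutator_mono hLYL le_rfl)⟩
  rw [Subgroup.commutator_le]
  intro l hl y hy
  have hl' : l ∈ ⁅L, Y⁆ ⊔ (L ⊓ Subgroup.centralizer (Y : Set G)) := by rw [h1]; exact hl
  obtain ⟨a, ha, b, hb, rfl⟩ := Helper3.mem_sup_of_le_normalizer_right ⁅L, Y⁆ _
    (inf_le_left.trans hLM) hl'
  have hby : y * b = b * y := Subgroup.mem_centralizer_iff.1 hb.2 y hy
  have e : ⁅a * b, y⁆ = ⁅a, y⁆ := by
    simp only [commutatorElement_def]
    calc a * b * y * (a * b)⁻¹ * y⁻¹ = a * (b * y) * b⁻¹ * a⁻¹ * y⁻¹ := by group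
      _ = a * (y * b) * b⁻¹ * a⁻¹ * y⁻¹ := by rw [hby]
      _ = a * y * a⁻¹ * y⁻¹ := by group
  rw [e]
  exact Subgroup.commutator_mem_commutator ha hy

theorem fstar_map_equiv_le {A B : Type*} [Group A] [Group B] (e : A ≃* B) :
    (Cfsg.generalizedFittingSubgroup A).map e.toMonoidHom ≤ Cfsg.generalizedFittingSubgroup B := by
  unfold Cfsg.generalizedFittingSubgroup
  rw [Subgroup.map_sup]
  apply sup_le_sup
  · unfold Cfsg.layer
    rw [Subgroup.map_le_iff_le_comap]
    apply sSup_le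
    intro K hK
    rw [← Subgroup.map_le_iff_le_comap]
    exact le_sSup (Helper3.component_map_equiv e K hK)
  · unfold Cfsg.fittingSubgroup
    rw [Subgroup.map_le_iff_le_comap]
    apply sSup_le
    rintro N ⟨hNn, hNnil⟩
    rw [← Subgroup.map_le_iff_le_comap]
    exact le_sSup ⟨hNn.map _ e.surjective,
      Group.nilpotent_of_mulEquiv (N.equivMapOfInjective e.toMonoidHom e.injective)⟩

theorem fstarY_main {G : Type u} [Group G] [Finite G] {p : ℕ} [Fact p.Prime] (H : Subgroup G)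
    (hO : Cfsg.pCore p ↥H = ⊥) (Y : Subgroup G) (hY : IsPGroup p ↥Y)
    (L : Subgroup G) (hLF : L ≤ (Cfsg.generalizedFittingSubgroup ↥H).map H.subtype)
    (hLsn : (L.subgroupOf H).IsSubnormal) (hYL : Y ≤ Subgroup.normalizer (L : Set G)) :
    ⁅L, Y⁆ ⊔ (L ⊓ Subgroup.centralizer (Y : Set G)) = L ∧ ⁅L, Y⁆ = ⁅⁅L, Y⁆, Y⁆ := by
  have hLH : L ≤ H := hLF.trans (Subgroup.map_subtype_le _)
  obtain ⟨e⟩ : Nonempty (↥(L.subgroupOf H) ≃* ↥L) := ⟨Subgroup.subgroupOfEquivOfLe hLH⟩
  have hOS : Cfsg.pCore p ↥(L.subgroupOf H) = ⊥ := by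
    have h1 := pCoreMap_le_pCore_of_isSubnormal (p := p) (L.subgroupOf H) hLsn
    rw [hO, le_bot_iff] at h1
    exact (Subgroup.map_eq_bot_iff_of_injective _ (Subgroup.subtype_injective _)).1 h1
  have hOL : Cfsg.pCore p ↥L = ⊥ := by
    rw [← Helper4.pl_pCore_map p e, hOS, Subgroup.map_bot]
  have hS : L.subgroupOf H ≤ Cfsg.generalizedFittingSubgroup ↥H := by
    intro x hx
    obtain ⟨z, hz, hzx⟩ := hLF (Subgroup.mem_subgroupOf.1 hx)
    have : z = x := Subtype.ext hzx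
    rwa [← this]
  have hdec := Helper3.subnormal_fstar_decomp (L.subgroupOf H) hS hLsn
  have hFS : Cfsg.generalizedFittingSubgroup ↥(L.subgroupOf H) = ⊤ := by
    rw [eq_top_iff]
    intro s _
    have h1 := hdec s.2
    rw [← Subgroup.map_sup] at h1
    obtain ⟨t, ht, hts⟩ := h1
    have : t = s := Subtype.ext hts
    rwa [← this]
  have hFL : Cfsg.generalizedFittingSubgroup ↥L = ⊤ := by
    rw [eq_top_iff]
    refine le_trans ?_ (fstar_map_equiv_le e)
    rw [hFS]
    intro x _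
    exact ⟨e.symm x, Subgroup.mem_top _, e.apply_symm_apply x⟩
  exact fstarY L Y hY hYL hOL hFL

end Cfsg.Agent.Helper5
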