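import Mathlib
import Cfsg.Agent.Helper5.FStarY
import Cfsg.Agent.Helper5.CharP
import Cfsg.Agent.Helper3.FStar
import Cfsg.Agent.Helper3.Layer
import Cfsg.Agent.Helper4.HH123

set_option autoImplicit false

namespace Cfsg.Agent.Helper5

open scoped commutatorElement

universe u

theorem fstarY_sub {X : Type u} [Group X] [Finite X] {p : ℕ} [Fact p.Prime]
    (hO : Cfsg.pCore p X = ⊥) (L Y : Subgroup X) (hY : IsPGroup p Y)
    (hLF : L ≤ Cfsg.generalizedFittingSubgroup X) (hLsn : L.IsSubnormal)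
    (hYL : Y ≤ Subgroup.normalizer (L : Set X)) :
    ⁅L, Y⁆ ⊔ (L ⊓ Subgroup.centralizer (Y : Set X)) = L ∧ ⁅L, Y⁆ = ⁅⁅L, Y⁆, Y⁆ := by
  have hOL : Cfsg.pCore p ↥L = ⊥ := by
    have h1 := pCoreMap_le_pCore_of_isSubnormal (p := p) L hLsn
    rw [hO, le_bot_iff] at h1
    exact (Subgroup.map_eq_bot_iff_of_injective _ (Subgroup.subtype_injective _)).1 h1
  have hdec := Helper3.subnormal_fstar_decomp L hLF hLsn
  have hFL : Cfsg.generalizedFittingSubgroup ↥L = ⊤ := by
    rw [eq_top_iff]
    intro s _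
    have h1 := hdec s.2
    rw [← Subgroup.map_sup] at h1
    obtain ⟨t, ht, hts⟩ := h1
    have : t = s := Subtype.ext hts
    rwa [← this]
  exact fstarY L Y hY hYL hOL hFL

theorem fstarY_16 {H : Type u} [Group H] [Finite H] {p : ℕ} [Fact p.Prime]
    (hO : Cfsg.pCore p H = ⊥) (Y : Subgroup H) (hY : IsPGroup p ↥Y) :
    (∀ K : Subgroup H, K.IsSubnormal → Y ≤ K →
      ⁅Cfsg.generalizedFittingSubgroup H, Y⁆ =
        ⁅(Cfsg.generalizedFittingSubgroup ↥K).map K.subtype, Y⁆ ∧
      ⁅(Cfsg.generalizedFittingSubgroup ↥K).map K.subtype, Y⁆ =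
        ⁅⁅(Cfsg.generalizedFittingSubgroup ↥K).map K.subtype, Y⁆, Y⁆) ∧
    (∀ Y₀ : Subgroup H, Y₀ ≤ Y → ⁅⁅Cfsg.generalizedFittingSubgroup H, Y⁆, Y₀⁆ = ⊥ → Y₀ = ⊥) := by
  have hp : p.Prime := Fact.out
  obtain ⟨FH, hFH⟩ : ∃ FH : Subgroup H, FH = Cfsg.generalizedFittingSubgroup H := ⟨_, rfl⟩
  rw [← hFH]
  haveI hFHc : FH.Characteristic := by rw [hFH]; exact Helper3.fstar_characteristic H
  have hFHn : FH.Normal := inferInstance
  have hYFH : ∀ A : Subgroup H, A ≤ Subgroup.normalizer (FH : Set H) := by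
    intro A y _
    rw [Subgroup.normalizer_eq_top_iff.2 hFHn]; exact Subgroup.mem_top y
  have hmain := fstarY_sub hO FH Y hY hFH.le hFHn.isSubnormal (hYFH Y)
  obtain ⟨M, hM⟩ : ∃ M : Subgroup H, M = ⁅FH, Y⁆ := ⟨_, rfl⟩
  rw [← hM] at hmain ⊢
  have hMFH : M ≤ FH := by rw [hM]; exact commutator_le_left_of_le_normalizer FH Y (hYFH Y)
  constructor
  · intro K hK hYK
    obtain ⟨FK, hFK⟩ : ∃ FK : Subgroup H,
        FK = (Cfsg.generalizedFittingSubgroup ↥K).map K.subtype := ⟨_, rfl⟩
    rw [← hFK]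
    have hfitK := Helper3.fitting_map_subtype_eq K hK
    have hFKle : FK ≤ FH := by
      rw [hFK, hFH]
      unfold Cfsg.generalizedFittingSubgroup
      rw [Subgroup.map_sup]
      exact sup_le_sup (Helper3.layer_map_subtype_le K hK) (hfitK.le.trans inf_le_left)
    have hFKsn : FK.IsSubnormal := by
      rw [hFK]
      haveI := Helper3.fstar_characteristic ↥K
      have hn : (Cfsg.generalizedFittingSubgroup ↥K).Normal := inferInstance
      exact hn.isSubnormal.trans' hK
    have hKFK : K ≤ Subgroup.normalizer (FK : Set H) := by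
      rw [hFK]
      haveI := Helper3.fstar_characteristic ↥K
      have hn : (Cfsg.generalizedFittingSubgroup ↥K).Normal := inferInstance
      have h1 := Subgroup.le_normalizer_map (H := Cfsg.generalizedFittingSubgroup ↥K) K.subtype
      rw [Subgroup.normalizer_eq_top_iff.2 hn] at h1
      intro k hk
      exact h1 ⟨⟨k, hk⟩, Subgroup.mem_top _, rfl⟩
    have h2 := fstarY_sub hO FK Y hY (hFKle.trans hFH.le) hFKsn (hYK.trans hKFK)
    refine ⟨le_antisymm ?_ (hM ▸ Subgroup.commutator_mono hFKle le_rfl), h2.2⟩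
    have hMK : ∀ K' : Subgroup H, K'.IsSubnormal → Y ≤ K' → M ≤ K' := by
      intro K' hK'
      induction hK' with
      | top => intro _; exact le_top
      | step A B hAB hB hN ih =>
        intro hYA
        have hBA : B ≤ Subgroup.normalizer (A : Set H) :=
          (Subgroup.normal_subgroupOf_iff_le_normalizer hAB).1 hN
        have h3 := ih (hYA.trans hAB)
        rw [hmain.2]
        exact (Subgroup.commutator_mono h3 hYA).trans
          (commutator_le_right_of_le_normalizer B A hBA)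
    obtain ⟨S, hS⟩ : ∃ S : Subgroup H, S = FH ⊓ K := ⟨_, rfl⟩
    have hMS : M ≤ S := by rw [hS]; exact le_inf hMFH (hMK K hK hYK)
    have hSK : S ≤ K := by rw [hS]; exact inf_le_right
    have hSsn : S.IsSubnormal := by
      apply Subgroup.IsSubnormal.step S K hSK hK
      rw [Subgroup.normal_subgroupOf_iff_le_normalizer hSK, hS]
      exact le_normalizer_inf FH K K (hYFH K) Subgroup.le_normalizer
    have hdecS := Helper3.subnormal_fstar_decomp S (by rw [hS, ← hFH]; exact inf_le_left) hSsn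
    have hSFK : S ≤ FK := by
      refine hdecS.trans ?_
      rw [hFK]
      unfold Cfsg.generalizedFittingSubgroup
      rw [Subgroup.map_sup]
      apply sup_le_sup (Helper3.layer_map_subtype_mono S K hSsn hSK)
      rw [Helper3.fitting_map_subtype_eq S hSsn, hfitK]
      exact inf_le_inf_left _ hSK
    rw [hmain.2]
    exact Subgroup.commutator_mono (hMS.trans hSFK) le_rfl
  · intro Y₀ hY₀ hc
    have h1 : FH ≤ Subgroup.centralizer (Y₀ : Set H) := by
      have h0 : M ⊔ (FH ⊓ Subgroup.centralizer (Y : Set H)) ≤ Subgroup.centralizer (Y₀ : Set H) := by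
        apply sup_le
        · exact Subgroup.commutator_eq_bot_iff_le_centralizer.1 hc
        · intro x hx
          rw [Subgroup.mem_centralizer_iff]
          intro y hy
          exact Subgroup.mem_centralizer_iff.1 hx.2 y (hY₀ hy)
      rwa [hmain.1] at h0
    have h2 : Y₀ ≤ Subgroup.centralizer (FH : Set H) := by
      intro y hy
      rw [Subgroup.mem_centralizer_iff]
      intro x hx
      exact (Subgroup.mem_centralizer_iff.1 (h1 hx) y hy).symm
    have h3 : Y₀ ≤ FH ⊓ Subgroup.centralizer (FH : Set H) := by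
      refine le_inf (h2.trans ?_) h2
      rw [hFH]; exact Helper3.centralizer_fstar_le H
    haveI hCn : (Subgroup.centralizer (FH : Set H)).Normal :=
      Helper4.centralizer_normal_of_normal FH hFHn
    haveI := hFHn
    have hNn : (FH ⊓ Subgroup.centralizer (FH : Set H)).Normal := inferInstance
    haveI hNc : IsMulCommutative ↥(FH ⊓ Subgroup.centralizer (FH : Set H)) :=
      ⟨⟨fun a b => Subtype.ext (Subgroup.mem_centralizer_iff.1 b.2.2 a a.2.1)⟩⟩
    have hNnil : Group.IsNilpotent ↥(FH ⊓ Subgroup.centralizer (FH : Set H)) :=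
      Helper3.nilpotent_of_commutative _
    have hnd := not_dvd_card_of_normal_nilpotent hO _ hNn hNnil
    obtain ⟨k, hk⟩ := IsPGroup.iff_card.1 (hY.to_le hY₀)
    have hdvd := Subgroup.card_dvd_of_le h3
    rw [hk] at hdvd
    rcases Nat.eq_zero_or_pos k with h0 | hpos
    · rw [h0, pow_zero] at hk
      exact Subgroup.card_eq_one.1 hk
    · exfalso
      exact hnd ((dvd_pow_self p hpos.ne').trans hdvd)

end Cfsg.Agent.Helper5
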