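import Mathlib
import Cfsg.Agent.Helper5.FStarY2
import Cfsg.Agent.Lead.PGroupFrattini
import Cfsg.Agent.S2813

set_option autoImplicit false

namespace Cfsg.Agent.Helper5

open scoped commutatorElement

universe u

theorem center_inf_commutator_le_frattini (X : Type*) [Group X] [Finite X] :
    Subgroup.center X ⊓ commutator X ≤ frattini X := by
  rintro z ⟨hzc, hzd⟩
  rw [Lead.mem_frattini_iff]
  intro M hM
  by_contra hzM
  have hsup : M ⊔ Subgroup.center X = ⊤ := by
    apply hM.2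
    refine lt_of_le_of_ne le_sup_left (fun h => hzM ?_)
    rw [h]
    exact (le_sup_right : Subgroup.center X ≤ M ⊔ Subgroup.center X) hzc
  haveI hMn : M.Normal := by
    rw [← Subgroup.normalizer_eq_top_iff, eq_top_iff, ← hsup]
    exact sup_le Subgroup.le_normalizer (Subgroup.center_le_normalizer _)
  have h1 := Subgroup.Normal.commutator_le_of_self_sup_commutative_eq_top hsup
    (inferInstance : IsMulCommutative (Subgroup.center X))
  exact hzM (h1 hzd)

theorem mem_centralizer_sup {H : Type*} [Group H] (A B : Subgroup H) (x : H)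
    (hA : x ∈ Subgroup.centralizer (A : Set H)) (hB : x ∈ Subgroup.centralizer (B : Set H)) :
    x ∈ Subgroup.centralizer ((A ⊔ B : Subgroup H) : Set H) := by
  have h1 : Subgroup.zpowers x ≤ Subgroup.centralizer (A : Set H) := by
    rw [Subgroup.zpowers_le]; exact hA
  have h2 : Subgroup.zpowers x ≤ Subgroup.centralizer (B : Set H) := by
    rw [Subgroup.zpowers_le]; exact hB
  have h3 : A ⊔ B ≤ Subgroup.centralizer (Subgroup.zpowers x : Set H) :=
    sup_le (Subgroup.le_centralizer_iff.1 h1) (Subgroup.le_centralizer_iff.1 h2)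
  exact (Subgroup.le_centralizer_iff.1 h3) (Subgroup.mem_zpowers x)

/-- averaging over `Q`: a `Q`-fixed element of `L = [L, Q]` lies in `L'` when `|L : L'|` is
prime to `|Q|`. -/
theorem fixed_mem_commutator_of_coprime {H : Type u} [Group H] [Finite H] (L Q : Subgroup H)
    (hQL : Q ≤ Subgroup.normalizer (L : Set H)) (hLQ : ⁅L, Q⁆ = L)
    (hcop : (Nat.card Q).Coprime (commutator ↥L).index) (z : H) (hz : z ∈ L)
    (hzQ : z ∈ Subgroup.centralizer (Q : Set H)) : z ∈ ⁅L, L⁆ := by
  classical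
  haveI : Fintype ↥Q := Fintype.ofFinite _
  haveI : Finite (Abelianization ↥L) := (inferInstance : Finite (↥L ⧸ commutator ↥L))
  let ν : ↥L →* Abelianization ↥L :=
    ∏ q : ↥Q, (Abelianization.of).comp (normConj L (q : H) (hQL q.2)).toMonoidHom
  have hν : ∀ x : ↥L, ν x = ∏ q : ↥Q, Abelianization.of (normConj L (q : H) (hQL q.2) x) := by
    intro x
    simp only [ν, MonoidHom.finset_prod_apply]
    rfl
  have hinv : ∀ (q₀ : ↥Q) (x : ↥L), ν (normConj L (q₀ : H) (hQL q₀.2) x) = ν x := by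
    intro q₀ x
    rw [hν, hν]
    apply Fintype.prod_equiv (Equiv.mulRight q₀)
    intro q
    congr 1
    apply Subtype.ext
    simp only [normConj_coe, Equiv.coe_mulRight, Subgroup.coe_mul]
    group
  have hker : ∀ x : ↥L, ν x = 1 := by
    have h1 : ⁅L, Q⁆ ≤ (ν.ker).map L.subtype := by
      rw [Subgroup.commutator_le]
      intro x hx q hq
      have hmem : ⁅x, q⁆ ∈ L := by
        rw [← hLQ]; exact Subgroup.commutator_mem_commutator hx hq
      refine ⟨⟨⁅x, q⁆, hmem⟩, ?_, rfl⟩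
      rw [SetLike.mem_coe, MonoidHom.mem_ker]
      have e : (⟨⁅x, q⁆, hmem⟩ : ↥L) = ⟨x, hx⟩ * (normConj L q (hQL hq) ⟨x, hx⟩)⁻¹ := by
        apply Subtype.ext
        simp only [Subgroup.coe_mul, Subgroup.coe_inv, normConj_coe, commutatorElement_def]
        group
      rw [e, map_mul, map_inv, hinv ⟨q, hq⟩ ⟨x, hx⟩, mul_inv_cancel]
    intro x
    have h2 : (x : H) ∈ (ν.ker).map L.subtype := h1 (by rw [hLQ]; exact x.2)
    obtain ⟨y, hy, hyx⟩ := h2
    have : y = x := Subtype.ext hyx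
    rw [← this]; exact hy
  have hzν : ν ⟨z, hz⟩ = (Abelianization.of (⟨z, hz⟩ : ↥L)) ^ Nat.card Q := by
    rw [hν]
    have h0 : ∀ q : ↥Q, Abelianization.of (normConj L (q : H) (hQL q.2) ⟨z, hz⟩) =
        Abelianization.of (⟨z, hz⟩ : ↥L) := by
      intro q
      congr 1
      apply Subtype.ext
      rw [normConj_coe]
      have h00 := Subgroup.mem_centralizer_iff.1 hzQ q q.2
      show (q : H) * z * (q : H)⁻¹ = z
      rw [h00]; group
    rw [Finset.prod_congr rfl (fun q _ => h0 q), Finset.prod_const, Finset.card_univ,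
      Nat.card_eq_fintype_card]
  have h3 : (Abelianization.of (⟨z, hz⟩ : ↥L)) ^ Nat.card Q = 1 := by
    rw [← hzν]; exact hker _
  have h4 : (Abelianization.of (⟨z, hz⟩ : ↥L)) ^ (commutator ↥L).index = 1 := by
    have e : Nat.card (Abelianization ↥L) = (commutator ↥L).index :=
      (Subgroup.index_eq_card _).symm
    rw [← e]; exact pow_card_eq_one'
  have h5 : Abelianization.of (⟨z, hz⟩ : ↥L) = 1 := by
    have d1 := orderOf_dvd_of_pow_eq_one h3
    have d2 := orderOf_dvd_of_pow_eq_one h4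
    have d3 := Nat.dvd_gcd d1 d2
    rw [Nat.Coprime.gcd_eq_one hcop] at d3
    exact orderOf_eq_one_iff.1 (Nat.dvd_one.1 d3)
  have h6 : (⟨z, hz⟩ : ↥L) ∈ commutator ↥L := by
    rw [← Abelianization.ker_of]; exact h5
  rw [← Subgroup.map_subtype_commutator]
  exact ⟨⟨z, hz⟩, h6, rfl⟩

theorem index_commutator_coprime {X : Type u} [Group X] [Finite X] {p : ℕ} [Fact p.Prime]
    (hO : Cfsg.pCore p X = ⊥) (hF : Cfsg.generalizedFittingSubgroup X = ⊤) :
    ¬ p ∣ (commutator X).index := by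
  have hp : p.Prime := Fact.out
  have h1 : Cfsg.layer X ≤ commutator X := by
    have h0 := Helper3.layer_commutator_self (G := X)
    rw [← h0, commutator_def]
    exact Subgroup.commutator_mono le_top le_top
  have h2 : (commutator X).index ∣ (Cfsg.layer X).index := Subgroup.index_dvd_of_le h1
  have h3 : (Cfsg.layer X).index ∣ Nat.card (Cfsg.fittingSubgroup X) := by
    have e : (Cfsg.layer X).relIndex (Cfsg.fittingSubgroup X ⊔ Cfsg.layer X) =
        (Cfsg.layer X).relIndex (Cfsg.fittingSubgroup X) :=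
      Subgroup.relIndex_sup_right (Cfsg.fittingSubgroup X) (Cfsg.layer X)
    have e2 : Cfsg.fittingSubgroup X ⊔ Cfsg.layer X = ⊤ := by rw [sup_comm]; exact hF
    rw [e2, Subgroup.relIndex_top_right] at e
    rw [e]; exact Subgroup.relIndex_dvd_card _ _
  have h4 := not_dvd_card_of_normal_nilpotent hO (Cfsg.fittingSubgroup X)
    (Helper3.fitting_normal X) Lead.fitting_isNilpotent
  intro h
  exact h4 (h.trans (h2.trans h3))

theorem fstar_sub_facts {X : Type u} [Group X] [Finite X] {p : ℕ} [Fact p.Prime]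
    (hO : Cfsg.pCore p X = ⊥) (L : Subgroup X)
    (hLF : L ≤ Cfsg.generalizedFittingSubgroup X) (hLsn : L.IsSubnormal) :
    Cfsg.pCore p ↥L = ⊥ ∧ Cfsg.generalizedFittingSubgroup ↥L = ⊤ := by
  constructor
  · have h1 := pCoreMap_le_pCore_of_isSubnormal (p := p) L hLsn
    rw [hO, le_bot_iff] at h1
    exact (Subgroup.map_eq_bot_iff_of_injective _ (Subgroup.subtype_injective _)).1 h1
  · have hdec := Helper3.subnormal_fstar_decomp L hLF hLsn
    rw [eq_top_iff]
    intro s _
    have h1 := hdec s.2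
    rw [← Subgroup.map_sup] at h1
    obtain ⟨t, ht, hts⟩ := h1
    have : t = s := Subtype.ext hts
    rwa [← this]

theorem fstar_17 {H : Type u} [Group H] [Finite H] {p : ℕ} [Fact p.Prime]
    (hO : Cfsg.pCore p H = ⊥) (Q : Subgroup H) (hQ : IsPGroup p ↥Q) (L : Subgroup H)
    (hL : L = ⁅Cfsg.generalizedFittingSubgroup H, Q⁆) (F : Subgroup H)
    (hF : F ≤ Cfsg.generalizedFittingSubgroup H ∧
      Cfsg.generalizedFittingSubgroup H ≤ Subgroup.normalizer (F : Set H) ∧
      Q ≤ Subgroup.centralizer (F : Set H) ∧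
      ∀ N : Subgroup H, N ≤ Cfsg.generalizedFittingSubgroup H →
        Cfsg.generalizedFittingSubgroup H ≤ Subgroup.normalizer (N : Set H) →
        Q ≤ Subgroup.centralizer (N : Set H) → N ≤ F) :
    F = Cfsg.generalizedFittingSubgroup H ⊓ Subgroup.centralizer ((L ⊔ Q : Subgroup H) : Set H) ∧
    ⁅L, Q⁆ = L ∧ L ⊓ F ≤ (frattini ↥L).map L.subtype ∧
    (∀ B : Subgroup H, IsPGroup p ↥B → B ≤ Subgroup.normalizer (Q : Set H) → ⁅L, B⁆ ≤ F →
      ⁅L, B⁆ = ⊥) ∧
    (Nat.card ↥(Subgroup.centralizer ((F ⊔ L : Subgroup H) : Set H))).Coprime p := by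
  have hp : p.Prime := Fact.out
  obtain ⟨FS, hFS⟩ : ∃ FS : Subgroup H, FS = Cfsg.generalizedFittingSubgroup H := ⟨_, rfl⟩
  rw [← hFS] at hL hF ⊢
  obtain ⟨hFle, hFn, hQF, hFmax⟩ := hF
  haveI hFSc : FS.Characteristic := by rw [hFS]; exact Helper3.fstar_characteristic H
  have hFSn : FS.Normal := inferInstance
  have hAFS : ∀ A : Subgroup H, A ≤ Subgroup.normalizer (FS : Set H) := by
    intro A y _
    rw [Subgroup.normalizer_eq_top_iff.2 hFSn]; exact Subgroup.mem_top y
  have hmain := fstarY_sub hO FS Q hQ hFS.le hFSn.isSubnormal (hAFS Q)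
  rw [← hL] at hmain
  have hLFS : L ≤ FS := by rw [hL]; exact commutator_le_left_of_le_normalizer FS Q (hAFS Q)
  have hFSL : FS ≤ Subgroup.normalizer (L : Set H) := by
    rw [hL]; exact Lead.le_normalizer_commutator_left FS Q
  have hQL : Q ≤ Subgroup.normalizer (L : Set H) := by
    rw [hL]; exact Lead.le_normalizer_commutator_right FS Q (hAFS Q)
  have hLsn : L.IsSubnormal := Subgroup.IsSubnormal.step L FS hLFS hFSn.isSubnormal
    ((Subgroup.normal_subgroupOf_iff_le_normalizer hLFS).2 hFSL)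
  obtain ⟨hOL, hFLtop⟩ := fstar_sub_facts hO L (hLFS.trans hFS.le) hLsn
  have hQF' : ⁅Q, F⁆ = ⊥ := Subgroup.commutator_eq_bot_iff_le_centralizer.2 hQF
  have hLF : ⁅L, F⁆ = ⊥ := by
    rw [hL]
    apply Subgroup.commutator_commutator_eq_bot_of_rotate
    · rw [hQF']; exact Subgroup.commutator_bot_left FS
    · rw [eq_bot_iff]
      have h1 : ⁅F, FS⁆ ≤ F := commutator_le_left_of_le_normalizer F FS hFn
      have h2 : ⁅F, Q⁆ = ⊥ := by rw [Subgroup.commutator_comm]; exact hQF'
      rw [← h2]; exact Subgroup.commutator_mono h1 le_rfl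
  have hLcF : L ≤ Subgroup.centralizer (F : Set H) :=
    Subgroup.commutator_eq_bot_iff_le_centralizer.1 hLF
  have hFcL : F ≤ Subgroup.centralizer (L : Set H) := Subgroup.le_centralizer_iff.1 hLcF
  have part1 : F = FS ⊓ Subgroup.centralizer ((L ⊔ Q : Subgroup H) : Set H) := by
    apply le_antisymm
    · refine le_inf hFle ?_
      rw [Subgroup.le_centralizer_iff]
      exact sup_le hLcF hQF
    · apply hFmax _ inf_le_left
      · apply le_normalizer_inf FS _ FS (hAFS FS)
        have h1 : FS ≤ Subgroup.normalizer ((L ⊔ Q : Subgroup H) : Set H) := by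
          intro x hx
          apply mem_normalizer_of_conj_le
          rw [Subgroup.map_sup]
          apply sup_le
          · rw [conj_le_of_mem_normalizer L x (hFSL hx)]; exact le_sup_left
          · rintro _ ⟨q, hq, rfl⟩
            show x * q * x⁻¹ ∈ L ⊔ Q
            have e : x * q * x⁻¹ = ⁅x, q⁆ * q := by rw [commutatorElement_def]; group
            rw [e]
            exact Subgroup.mul_mem _ (Subgroup.mem_sup_left
              (by rw [hL]; exact Subgroup.commutator_mem_commutator hx hq))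
              (Subgroup.mem_sup_right hq)
        exact h1.trans (normalizer_le_normalizer_centralizer _)
      · rw [Subgroup.le_centralizer_iff]
        exact inf_le_right.trans (Subgroup.centralizer_le
          (show (Q : Set H) ⊆ ((L ⊔ Q : Subgroup H) : Set H) from (le_sup_right : Q ≤ L ⊔ Q)))
  have hidx : ¬ p ∣ (commutator ↥L).index := index_commutator_coprime hOL hFLtop
  obtain ⟨k, hk⟩ := IsPGroup.iff_card.1 hQ
  have hcop : (Nat.card Q).Coprime (commutator ↥L).index := by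
    rw [hk]; exact Nat.Coprime.pow_left k ((Nat.Prime.coprime_iff_not_dvd hp).2 hidx)
  have hZ₀ : L ⊓ F ≤ ⁅L, L⁆ := by
    intro z hz
    apply fixed_mem_commutator_of_coprime L Q hQL hmain.2.symm hcop z (Subgroup.mem_inf.1 hz).1
    exact (Subgroup.le_centralizer_iff.1 hQF) (Subgroup.mem_inf.1 hz).2
  have part3 : L ⊓ F ≤ (frattini ↥L).map L.subtype := by
    intro z hz
    have hzL : z ∈ L := (Subgroup.mem_inf.1 hz).1
    have hzF : z ∈ F := (Subgroup.mem_inf.1 hz).2
    have hc : (⟨z, hzL⟩ : ↥L) ∈ Subgroup.center ↥L := by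
      rw [Subgroup.mem_center_iff]
      intro g
      apply Subtype.ext
      exact Subgroup.mem_centralizer_iff.1 (hFcL hzF) g g.2
    have hd : (⟨z, hzL⟩ : ↥L) ∈ commutator ↥L := by
      have h1 := hZ₀ hz
      rw [← Subgroup.map_subtype_commutator] at h1
      obtain ⟨y, hy, hyz⟩ := h1
      have : y = ⟨z, hzL⟩ := Subtype.ext hyz
      rwa [← this]
    exact ⟨⟨z, hzL⟩, center_inf_commutator_le_frattini ↥L (Subgroup.mem_inf.2 ⟨hc, hd⟩), rfl⟩
  have part4 : ∀ B : Subgroup H, IsPGroup p ↥B → B ≤ Subgroup.normalizer (Q : Set H) →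
      ⁅L, B⁆ ≤ F → ⁅L, B⁆ = ⊥ := by
    intro B hB hBQ hLBF
    have hBL : B ≤ Subgroup.normalizer (L : Set H) := by
      rw [hL]; exact Helper3.le_normalizer_commutator B FS Q (hAFS B) hBQ
    have hLBL : ⁅L, B⁆ ≤ L := commutator_le_left_of_le_normalizer L B hBL
    have h1 : ⁅⁅L, B⁆, L⁆ = ⊥ := by
      rw [Subgroup.commutator_eq_bot_iff_le_centralizer]
      exact hLBF.trans hFcL
    have h2 : ⁅⁅B, L⁆, L⁆ = ⊥ := by rw [Subgroup.commutator_comm B L]; exact h1
    have h3 : ⁅⁅L, L⁆, B⁆ = ⊥ := Subgroup.commutator_commutator_eq_bot_of_rotate h1 h2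
    have h4 : ⁅⁅L, B⁆, B⁆ = ⊥ := by
      rw [eq_bot_iff, ← h3]
      exact Subgroup.commutator_mono ((le_inf hLBL hLBF).trans hZ₀) le_rfl
    exact S2813.result L hOL B hB hBL h4
  refine ⟨part1, hmain.2.symm, part3, part4, ?_⟩
  rw [Nat.coprime_comm, Nat.Prime.coprime_iff_not_dvd hp]
  intro hdvd
  obtain ⟨x, hx⟩ := exists_prime_orderOf_dvd_card' p hdvd
  obtain ⟨B, hBdef⟩ : ∃ B : Subgroup H, B = Subgroup.zpowers (x : H) := ⟨_, rfl⟩
  have hBD : B ≤ Subgroup.centralizer ((F ⊔ L : Subgroup H) : Set H) := by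
    rw [hBdef, Subgroup.zpowers_le]; exact x.2
  have hxo : orderOf (x : H) = p := by rw [Subgroup.orderOf_coe]; exact hx
  have hB : IsPGroup p ↥B := by
    rw [hBdef]
    apply IsPGroup.of_card (n := 1)
    rw [Nat.card_zpowers, hxo, pow_one]
  have hBne : B ≠ ⊥ := by
    intro h
    have h0 : (x : H) ∈ (⊥ : Subgroup H) := by rw [← h, hBdef]; exact Subgroup.mem_zpowers _
    rw [Subgroup.mem_bot] at h0
    rw [h0, orderOf_one] at hxo
    exact hp.one_lt.ne hxo
  apply hBne
  have h16 := (fstarY_16 hO B hB).2 B le_rfl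
  rw [← hFS] at h16
  apply h16
  have hFLB : F ⊔ L ≤ Subgroup.centralizer (B : Set H) := Subgroup.le_centralizer_iff.1 hBD
  have hBL' : ⁅B, L⁆ = ⊥ := by
    rw [Subgroup.commutator_eq_bot_iff_le_centralizer]
    exact hBD.trans (Subgroup.centralizer_le
      (show (L : Set H) ⊆ ((F ⊔ L : Subgroup H) : Set H) from (le_sup_right : L ≤ F ⊔ L)))
  have h1 : ⁅⁅FS, B⁆, L⁆ = ⊥ := by
    apply Subgroup.commutator_commutator_eq_bot_of_rotate
    · rw [hBL']; exact Subgroup.commutator_bot_left FS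
    · rw [eq_bot_iff]
      have h2 : ⁅L, FS⁆ ≤ L := commutator_le_left_of_le_normalizer L FS hFSL
      have h3 : ⁅L, B⁆ = ⊥ := by rw [Subgroup.commutator_comm]; exact hBL'
      rw [← h3]; exact Subgroup.commutator_mono h2 le_rfl
  obtain ⟨C₁, hC₁⟩ : ∃ C₁ : Subgroup H, C₁ = FS ⊓ Subgroup.centralizer (L : Set H) := ⟨_, rfl⟩
  have hFSB : ⁅FS, B⁆ ≤ C₁ := by
    rw [hC₁]
    exact le_inf (commutator_le_left_of_le_normalizer FS B (hAFS B))
      (Subgroup.commutator_eq_bot_iff_le_centralizer.1 h1)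
  have hNC : Subgroup.normalizer (L : Set H) ≤
      Subgroup.normalizer ((Subgroup.centralizer (L : Set H) : Subgroup H) : Set H) :=
    normalizer_le_normalizer_centralizer L
  have hFSC₁ : FS ≤ Subgroup.normalizer (C₁ : Set H) := by
    rw [hC₁]; exact le_normalizer_inf FS _ FS (hAFS FS) (hFSL.trans hNC)
  have hQC₁ : Q ≤ Subgroup.normalizer (C₁ : Set H) := by
    rw [hC₁]; exact le_normalizer_inf FS _ Q (hAFS Q) (hQL.trans hNC)
  have hC₁FS : C₁ ≤ FS := by rw [hC₁]; exact inf_le_left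
  have hC₁sn : C₁.IsSubnormal := Subgroup.IsSubnormal.step C₁ FS hC₁FS hFSn.isSubnormal
    ((Subgroup.normal_subgroupOf_iff_le_normalizer hC₁FS).2 hFSC₁)
  have hC₁dec := (fstarY_sub hO C₁ Q hQ (hC₁FS.trans hFS.le) hC₁sn hQC₁).1
  have hC₁le : C₁ ≤ L ⊔ F := by
    rw [← hC₁dec]
    apply sup_le
    · exact ((Subgroup.commutator_mono hC₁FS le_rfl).trans hL.ge).trans le_sup_left
    · refine le_trans ?_ le_sup_right
      intro y hy
      rw [part1]
      have hy1 : y ∈ FS ⊓ Subgroup.centralizer (L : Set H) := by rw [← hC₁]; exact hy.1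
      exact ⟨hy1.1, mem_centralizer_sup L Q y hy1.2 hy.2⟩
  rw [Subgroup.commutator_eq_bot_iff_le_centralizer]
  exact hFSB.trans (hC₁le.trans (sup_le (le_sup_right.trans hFLB) (le_sup_left.trans hFLB)))

end Cfsg.Agent.Helper5
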