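import Mathlib
import Cfsg.Prelude.Def_PLocal
import Cfsg.Agent.Helper5.Frattini
import Cfsg.Agent.Helper5.Stability
import Cfsg.Agent.Helper5.WeakCl
import Cfsg.Agent.Helper3.Layer2
import Cfsg.Agent.Helper3.Signalizer

set_option autoImplicit false

namespace Cfsg.Agent.Helper5

open scoped commutatorElement Pointwise

theorem mul_pow_mem_commutator_self {G : Type*} [Group G] (P : Subgroup G) {c a : G}
    (hc : c ∈ P) (ha : a ∈ P) (n : ℕ) :
    (c * a) ^ n * (c ^ n * a ^ n)⁻¹ ∈ ⁅P, P⁆ := by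
  have h : (((⟨c, hc⟩ : P) * ⟨a, ha⟩) ^ n * ((⟨c, hc⟩ : P) ^ n * (⟨a, ha⟩ : P) ^ n)⁻¹)
      ∈ commutator P := by
    rw [← Abelianization.ker_of, MonoidHom.mem_ker]
    rw [map_mul, map_inv, map_pow, map_mul, map_mul, map_pow, map_pow, mul_pow, mul_inv_cancel]
  have h2 := Subgroup.mem_map_of_mem P.subtype h
  rw [commutator_def, Subgroup.map_commutator, ← MonoidHom.range_eq_map, Subgroup.range_subtype]
    at h2
  simpa using h2

theorem frattini_centralized {G : Type*} [Group G] [Finite G] {p : ℕ} [Fact p.Prime]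
    (P : Subgroup G) (hP : IsPGroup p ↥P) (H : Subgroup G)
    (hH : H ≤ Subgroup.normalizer (P : Set G)) (Y : Subgroup G) (hYH : Y ≤ H)
    (hYc : Y ≤ Subgroup.centralizer ((⁅P, P⁆ : Subgroup G) : Set G))
    (hel : Cfsg.IsElementaryAbelian p ⁅P, Y⁆) (NY : Subgroup G)
    (hNY : NY = (Subgroup.normalClosure ((Y.subgroupOf H : Subgroup ↥H) : Set ↥H)).map H.subtype) :
    (Cfsg.pResidual p ↥NY).map NY.subtype
      ≤ Subgroup.centralizer (((frattini ↥P).map P.subtype : Subgroup G) : Set G) := by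
  classical
  have hpp : p.Prime := Fact.out
  set D : Subgroup G := ⁅P, P⁆ with hD
  have hDP : D ≤ P := commutator_le_left_of_le_normalizer P P Subgroup.le_normalizer
  have hHD : H ≤ Subgroup.normalizer (D : Set G) := Helper3.le_normalizer_commutator H P P hH hH
  have hPD : P ≤ Subgroup.normalizer (D : Set G) :=
    Helper3.le_normalizer_commutator P P P Subgroup.le_normalizer Subgroup.le_normalizer
  have hconjD : ∀ h ∈ Subgroup.normalizer (D : Set G), ∀ d ∈ D, h * d * h⁻¹ ∈ D :=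
    fun h hh d hd => (Subgroup.mem_normalizer_iff.1 hh d).1 hd
  have hconjD' : ∀ h ∈ Subgroup.normalizer (D : Set G), ∀ d ∈ D, h⁻¹ * d * h ∈ D := by
    intro h hh d hd
    have := hconjD h⁻¹ (inv_mem hh) d hd
    simpa using this
  let K : Subgroup G :=
    { carrier := {h | h ∈ Subgroup.centralizer (D : Set G) ∧
        ∀ a ∈ P, h * a ^ p * h⁻¹ * (a ^ p)⁻¹ ∈ D}
      mul_mem' := by
        rintro h₁ h₂ ⟨h1c, h1⟩ ⟨h2c, h2⟩
        refine ⟨mul_mem h1c h2c, fun a ha => ?_⟩
        have e : h₁ * h₂ * a ^ p * (h₁ * h₂)⁻¹ * (a ^ p)⁻¹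
            = h₁ * (h₂ * a ^ p * h₂⁻¹ * (a ^ p)⁻¹) * h₁⁻¹ * (h₁ * a ^ p * h₁⁻¹ * (a ^ p)⁻¹) := by
          group
        rw [e]
        exact D.mul_mem (hconjD h₁ (Subgroup.centralizer_le_normalizer _ h1c) _ (h2 a ha))
          (h1 a ha)
      one_mem' := ⟨one_mem _, fun a ha => by simp⟩
      inv_mem' := by
        rintro h ⟨hc, h1⟩
        refine ⟨inv_mem hc, fun a ha => ?_⟩
        have e : h⁻¹ * a ^ p * h⁻¹⁻¹ * (a ^ p)⁻¹
            = h⁻¹ * (h * a ^ p * h⁻¹ * (a ^ p)⁻¹)⁻¹ * h := by group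
        rw [e]
        exact hconjD' h (Subgroup.centralizer_le_normalizer _ hc) _ (D.inv_mem (h1 a ha)) }
  have hKmem : ∀ h, h ∈ K ↔ (h ∈ Subgroup.centralizer (D : Set G) ∧
      ∀ a ∈ P, h * a ^ p * h⁻¹ * (a ^ p)⁻¹ ∈ D) := fun h => Iff.rfl
  have hYK : Y ≤ K := by
    intro y hy
    rw [hKmem]
    refine ⟨hYc hy, fun a ha => ?_⟩
    have hc : y * a * y⁻¹ * a⁻¹ ∈ ⁅P, Y⁆ := by
      have h1 := Subgroup.commutator_mem_commutator ha hy
      have e : y * a * y⁻¹ * a⁻¹ = ⁅a, y⁆⁻¹ := by rw [commutatorElement_def]; group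
      rw [e]; exact inv_mem h1
    have hcP : y * a * y⁻¹ * a⁻¹ ∈ P := by
      have hyN := hH (hYH hy)
      exact P.mul_mem ((Subgroup.mem_normalizer_iff.1 hyN a).1 ha) (P.inv_mem ha)
    have hcp : (y * a * y⁻¹ * a⁻¹) ^ p = 1 := hel.2 _ hc
    have key := mul_pow_mem_commutator_self P hcP ha p
    rw [hcp, one_mul] at key
    have e : y * a ^ p * y⁻¹ * (a ^ p)⁻¹ = (y * a * y⁻¹ * a⁻¹ * a) ^ p * (a ^ p)⁻¹ := by
      have : y * a * y⁻¹ * a⁻¹ * a = y * a * y⁻¹ := by group
      rw [this, conj_pow]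
    rw [e]; exact key
  have hHK : H ≤ Subgroup.normalizer (K : Set G) := by
    apply Helper3.le_normalizer_of_conj_mem
    intro h hh k hk
    rw [hKmem] at hk ⊢
    constructor
    · rw [Subgroup.mem_centralizer_iff]
      intro d hd
      have h1 := hconjD' h (hHD hh) d hd
      have h2 := (Subgroup.mem_centralizer_iff.1 hk.1) _ h1
      calc d * (h * k * h⁻¹) = h * ((h⁻¹ * d * h) * k) * h⁻¹ := by group
        _ = h * (k * (h⁻¹ * d * h)) * h⁻¹ := by rw [h2]
        _ = h * k * h⁻¹ * d := by group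
    · intro a ha
      have haP : h⁻¹ * a * h ∈ P := by
        have := (Subgroup.mem_normalizer_iff.1 (inv_mem (hH hh)) a).1 ha
        simpa using this
      have h1 := hk.2 _ haP
      have h2 := hconjD h (hHD hh) _ h1
      have e : h * k * h⁻¹ * a ^ p * (h * k * h⁻¹)⁻¹ * (a ^ p)⁻¹
          = h * (k * (h⁻¹ * a * h) ^ p * k⁻¹ * ((h⁻¹ * a * h) ^ p)⁻¹) * h⁻¹ := by
        have e1 : (h⁻¹ * a * h) ^ p = h⁻¹ * a ^ p * h := by
          have := conj_pow (a := h⁻¹) (b := a) (i := p)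
          simpa using this
        rw [e1]; group
      rw [e]; exact h2
  have hNYK : NY ≤ K := by
    rw [hNY, Subgroup.map_le_iff_le_comap]
    haveI : (Subgroup.comap H.subtype K).Normal := by
      constructor
      intro x hx h
      rw [Subgroup.mem_comap] at hx ⊢
      have := (Subgroup.mem_normalizer_iff.1 (hHK h.2) _).1 hx
      simpa using this
    apply Subgroup.normalClosure_le_normal
    intro x hx
    exact hYK hx
  rw [Subgroup.map_le_iff_le_comap, Cfsg.pResidual, Subgroup.closure_le]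
  intro g hg
  have hg' : Nat.Coprime (orderOf g) p := hg
  have hgK : (g : G) ∈ K := hNYK g.2
  rw [hKmem] at hgK
  have hgord : (orderOf (g : G)).Coprime p := by rw [Subgroup.orderOf_coe]; exact hg'
  -- the subgroup of P acted on trivially modulo D
  let T : Subgroup G :=
    { carrier := {x | x ∈ P ∧ (g : G) * x * (g : G)⁻¹ * x⁻¹ ∈ D}
      mul_mem' := by
        rintro x y ⟨hx, hx'⟩ ⟨hy, hy'⟩
        refine ⟨P.mul_mem hx hy, ?_⟩
        have e : (g : G) * (x * y) * (g : G)⁻¹ * (x * y)⁻¹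
            = ((g : G) * x * (g : G)⁻¹ * x⁻¹) * (x * ((g : G) * y * (g : G)⁻¹ * y⁻¹) * x⁻¹) := by
          group
        rw [e]
        exact D.mul_mem hx' (hconjD x (hPD hx) _ hy')
      one_mem' := ⟨P.one_mem, by simp⟩
      inv_mem' := by
        rintro x ⟨hx, hx'⟩
        refine ⟨P.inv_mem hx, ?_⟩
        have e : (g : G) * x⁻¹ * (g : G)⁻¹ * x⁻¹⁻¹
            = x⁻¹ * ((g : G) * x * (g : G)⁻¹ * x⁻¹)⁻¹ * x := by group
        rw [e]
        exact hconjD' x (hPD hx) _ (D.inv_mem hx') }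
  have hTmem : ∀ x, x ∈ T ↔ (x ∈ P ∧ (g : G) * x * (g : G)⁻¹ * x⁻¹ ∈ D) := fun x => Iff.rfl
  have hDT : D ≤ T := by
    intro d hd
    rw [hTmem]
    refine ⟨hDP hd, ?_⟩
    have h1 := (Subgroup.mem_centralizer_iff.1 hgK.1) d hd
    have e : (g : G) * d * (g : G)⁻¹ * d⁻¹ = 1 := by
      rw [← h1]; group
    rw [e]; exact D.one_mem
  have hcent : ∀ x ∈ T, (g : G) * x = x * (g : G) := by
    have h := stab_chain_centralizes (g : G) (orderOf (g : G)) (pow_orderOf_eq_one _) 2
      (![⊥, D, T]) rfl ?_ ?_ 2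
    · exact h
    · intro i a ha
      fin_cases i
      · simp only [Fin.zero_eta, Fin.succ_zero_eq_one, Matrix.cons_val_one, Matrix.cons_val_zero,
          Fin.castSucc_zero] at ha ⊢
        rw [Subgroup.mem_bot]
        have h1 := (Subgroup.mem_centralizer_iff.1 hgK.1) a ha
        rw [← h1]; group
      · exact ((hTmem a).1 ha).2
    · intro i a ha ham
      have haP : a ∈ P := by
        fin_cases i
        · have : a = 1 := Subgroup.mem_bot.1 ha
          rw [this]; exact P.one_mem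
        · exact hDP ha
        · exact ((hTmem a).1 ha).1
      exact eq_one_of_pow_coprime P hP _ hgord a haP ham
  have hΦT : (frattini ↥P).map P.subtype ≤ T := by
    rw [Subgroup.map_le_iff_le_comap]
    apply frattini_le_of_elementary_quotient hpp
    · intro a b
      rw [Subgroup.mem_comap]
      apply hDT
      have := Subgroup.commutator_mem_commutator a.2 b.2
      rw [commutatorElement_def] at this
      simpa using this
    · intro a
      rw [Subgroup.mem_comap, hTmem]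
      refine ⟨(a ^ p).2, ?_⟩
      have := hgK.2 a a.2
      simpa using this
  rw [SetLike.mem_coe, Subgroup.mem_comap, Subgroup.mem_centralizer_iff]
  intro x hx
  exact (hcent x (hΦT hx)).symm

end Cfsg.Agent.Helper5
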