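import Mathlib
import Cfsg.Prelude.Def_PLocal
import Cfsg.Agent.Helper3.GlaubRepl
import Cfsg.Agent.S0649

set_option autoImplicit false

namespace Cfsg.Agent.Helper5

open scoped commutatorElement
open Cfsg.Agent.Helper3.GR

theorem card_le_of_coset_map {X Y : Type*} [Group X] [Group Y] [Finite X] [Finite Y]
    (K : Subgroup X) (L : Subgroup Y) (f : X → Y) (hcard : Nat.card K = Nat.card L)
    (hf : ∀ a b : X, (f a)⁻¹ * f b ∈ L → a⁻¹ * b ∈ K) : Nat.card X ≤ Nat.card Y := by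
  have h1 := Subgroup.card_eq_card_quotient_mul_card_subgroup K
  have h2 := Subgroup.card_eq_card_quotient_mul_card_subgroup L
  have hinj : Function.Injective
      (fun q : X ⧸ K => (QuotientGroup.mk (f q.out) : Y ⧸ L)) := by
    intro q q' hq
    have h3 := hf _ _ (QuotientGroup.eq.1 hq)
    have h4 : (QuotientGroup.mk q.out : X ⧸ K) = QuotientGroup.mk q'.out :=
      QuotientGroup.eq.2 h3
    rwa [QuotientGroup.out_eq', QuotientGroup.out_eq'] at h4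
  have h3 := Nat.card_le_card_of_injective _ hinj
  rw [h1, h2, hcard]
  exact Nat.mul_le_mul_right _ h3

theorem mem_omegaOne_of_comm {G : Type*} [Group G] {p : ℕ} {P : Subgroup G}
    (hcomm : ∀ x ∈ P, ∀ y ∈ P, x * y = y * x) (v : G) :
    v ∈ Cfsg.omegaOne p P ↔ v ∈ P ∧ v ^ p = 1 := by
  constructor
  · intro hv
    unfold Cfsg.omegaOne at hv
    induction hv using Subgroup.closure_induction with
    | mem x hx => exact hx
    | one => exact ⟨P.one_mem, one_pow _⟩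
    | mul x y _ _ hx hy =>
      refine ⟨P.mul_mem hx.1 hy.1, ?_⟩
      rw [(show Commute x y from hcomm x hx.1 y hy.1).mul_pow, hx.2, hy.2, one_mul]
    | inv x _ hx => exact ⟨P.inv_mem hx.1, by rw [inv_pow, hx.2, inv_one]⟩
  · intro hv
    exact Subgroup.subset_closure hv

theorem omegaOne_map_of_injective {G H : Type*} [Group G] [Group H] (p : ℕ) (f : G →* H)
    (hf : Function.Injective f) (K : Subgroup G) :
    Cfsg.omegaOne p (K.map f) = (Cfsg.omegaOne p K).map f := by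
  unfold Cfsg.omegaOne
  rw [MonoidHom.map_closure]
  congr 1
  ext x
  constructor
  · rintro ⟨⟨y, hy, rfl⟩, hx⟩
    exact ⟨y, ⟨hy, hf (by rw [map_pow, hx, map_one])⟩, rfl⟩
  · rintro ⟨y, ⟨hy, hyp⟩, rfl⟩
    exact ⟨⟨y, hy, rfl⟩, by rw [← map_pow, hyp, map_one]⟩

variable {S : Type*} [Group S] {A B : Subgroup S} {b : S}

theorem psi_pow_prime (h : Hyp A B b) {p : ℕ} (hodd : Odd p) {a : S} (ha : a ∈ A)
    (hap : a ^ p = 1) : psi b a ^ p = 1 := by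
  rw [psi_eq]
  have hy : b⁻¹ * a⁻¹ * b ∈ cjA A b := cjA_mem (A.inv_mem ha)
  have hw : ⁅(b⁻¹ * a⁻¹ * b)⁻¹, a⁻¹⁆ ∈ A ⊓ cjA A b :=
    h.comm_CA (A.inv_mem ha) (Subgroup.inv_mem _ hy)
  have hyx : (b⁻¹ * a⁻¹ * b) * a = a * (b⁻¹ * a⁻¹ * b) * ⁅(b⁻¹ * a⁻¹ * b)⁻¹, a⁻¹⁆ := by
    rw [commutatorElement_def]; group
  have hwx : Commute ⁅(b⁻¹ * a⁻¹ * b)⁻¹, a⁻¹⁆ a :=
    h.D_central hw ((le_sup_left : A ≤ A ⊔ cjA A b) ha)
  have hwy : Commute ⁅(b⁻¹ * a⁻¹ * b)⁻¹, a⁻¹⁆ (b⁻¹ * a⁻¹ * b) :=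
    h.D_central hw ((le_sup_right : cjA A b ≤ A ⊔ cjA A b) hy)
  rw [Cfsg.Agent.S0130.pow_mul_class_two hwx hwy hyx p, hap, one_mul]
  have h5 : (b⁻¹ * a⁻¹ * b) ^ p = 1 := by
    have := conj_pow (a := b⁻¹) (b := a⁻¹) (i := p)
    rw [inv_inv] at this
    rw [this, inv_pow, hap]; group
  rw [h5, one_mul]
  have hwp : ⁅(b⁻¹ * a⁻¹ * b)⁻¹, a⁻¹⁆ ^ p = 1 := by
    generalize b⁻¹ * a⁻¹ * b = y at hwx
    have e1 : y⁻¹ * a⁻¹ * y⁻¹⁻¹ = ⁅y⁻¹, a⁻¹⁆ * a⁻¹ := by rw [commutatorElement_def]; group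
    have e2 : (y⁻¹ * a⁻¹ * y⁻¹⁻¹) ^ p = 1 := by rw [conj_pow, inv_pow, hap]; group
    rw [e1, (hwx.inv_right).mul_pow, inv_pow, hap, inv_one, mul_one] at e2
    exact e2
  obtain ⟨k, hk⟩ := hodd
  have hch : p.choose 2 = p * k := by
    rw [Nat.choose_two_right, hk, Nat.add_sub_cancel]
    have : (2 * k + 1) * (2 * k) = ((2 * k + 1) * k) * 2 := by ring
    rw [this, Nat.mul_div_cancel _ (by norm_num : 0 < 2)]
  rw [hch, pow_mul, hwp, one_pow]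

theorem mem_D_of_psi_mem_D [Finite S] (h : Hyp A B b) {a : S} (ha : a ∈ A)
    (hψ : psi b a ∈ A ⊓ cjA A b) : a ∈ A ⊓ cjA A b := by
  have h1 : b⁻¹ * a * b ∈ A := by
    have e : b⁻¹ * a * b = (a⁻¹ * psi b a)⁻¹ := by unfold psi; group
    rw [e]; exact A.inv_mem (A.mul_mem (A.inv_mem ha) hψ.1)
  have h2 : b⁻¹ * a * b ∈ A ⊓ cjA A b := ⟨h1, cjA_mem ha⟩
  have h3 := h.D_cj' h2
  have e : b * (b⁻¹ * a * b) * b⁻¹ = a := by group
  rwa [e] at h3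

theorem card_omegaOne_le_star [Finite S] {p : ℕ} [Fact p.Prime] (hS : IsPGroup p S)
    (h : Hyp A B b) (hp : p ≠ 2) :
    Nat.card (Cfsg.omegaOne p A) ≤ Nat.card (Cfsg.omegaOne p (star A b)) := by
  have hodd : Odd p := Nat.Prime.odd_of_ne_two Fact.out hp
  have hsc := h.star_comm hS (fun h2 => absurd h2 hp)
  have hDc : ∀ x ∈ A ⊓ cjA A b, ∀ y ∈ A ⊓ cjA A b, x * y = y * x :=
    fun x hx y hy => h.comm x hx.1 y hy.1
  have hEA : Cfsg.omegaOne p (A ⊓ cjA A b) ≤ Cfsg.omegaOne p A :=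
    Subgroup.closure_mono (fun x hx => ⟨hx.1.1, hx.2⟩)
  have hEs : Cfsg.omegaOne p (A ⊓ cjA A b) ≤ Cfsg.omegaOne p (star A b) :=
    Subgroup.closure_mono (fun x hx => ⟨D_le_star hx.1, hx.2⟩)
  have hfm : ∀ a : ↥(Cfsg.omegaOne p A), psi b (a : S) ∈ Cfsg.omegaOne p (star A b) := by
    intro a
    have ha := (mem_omegaOne_of_comm h.comm _).1 a.2
    exact Subgroup.subset_closure ⟨psi_mem_star ha.1, psi_pow_prime h hodd ha.1 ha.2⟩
  refine card_le_of_coset_map ((Cfsg.omegaOne p (A ⊓ cjA A b)).subgroupOf (Cfsg.omegaOne p A))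
    ((Cfsg.omegaOne p (A ⊓ cjA A b)).subgroupOf (Cfsg.omegaOne p (star A b)))
    (fun a => ⟨psi b (a : S), hfm a⟩) ?_ ?_
  · rw [Nat.card_congr (Subgroup.subgroupOfEquivOfLe hEA).toEquiv,
      Nat.card_congr (Subgroup.subgroupOfEquivOfLe hEs).toEquiv]
  · rintro ⟨a, ha⟩ ⟨a', ha'⟩ hL
    rw [Subgroup.mem_subgroupOf] at hL ⊢
    have hL' : (psi b a)⁻¹ * psi b a' ∈ A ⊓ cjA A b :=
      ((mem_omegaOne_of_comm hDc _).1 hL).1
    show a⁻¹ * a' ∈ Cfsg.omegaOne p (A ⊓ cjA A b)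
    have haA := (mem_omegaOne_of_comm h.comm _).1 ha
    have haA' := (mem_omegaOne_of_comm h.comm _).1 ha'
    have hmA : a⁻¹ * a' ∈ A := A.mul_mem (A.inv_mem haA.1) haA'.1
    obtain ⟨c, hc, hcc⟩ := h.psi_mul haA.1 hmA
    rw [mul_inv_cancel_left] at hcc
    have hcomm : c * (psi b a)⁻¹ = (psi b a)⁻¹ * c :=
      h.D_central hc (Subgroup.inv_mem _ (h.psi_mem_H haA.1))
    have e1 : psi b (a⁻¹ * a') = (psi b a)⁻¹ * (c * psi b a') := by rw [← hcc]; group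
    have e : psi b (a⁻¹ * a') = c * ((psi b a)⁻¹ * psi b a') := by
      rw [e1, ← mul_assoc, ← hcomm, mul_assoc]
    have hψD : psi b (a⁻¹ * a') ∈ A ⊓ cjA A b := by
      rw [e]; exact Subgroup.mul_mem _ hc hL'
    have hD := mem_D_of_psi_mem_D h hmA hψD
    have hpow : (a⁻¹ * a') ^ p = 1 := by
      rw [(show Commute a⁻¹ a' from h.comm _ (A.inv_mem haA.1) _ haA'.1).mul_pow, inv_pow,
        haA.2, haA'.2, inv_one, one_mul]
    exact Subgroup.subset_closure ⟨hD, hpow⟩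

end Cfsg.Agent.Helper5
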