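import Mathlib
import Cfsg.Prelude.Def_LocalStructure
import Cfsg.Agent.Helper5.Basic
import Cfsg.Agent.Helper5.Stability
import Cfsg.Agent.Helper5.CharP
import Cfsg.Agent.Helper5.CharP3
import Cfsg.Agent.Helper5.Large
import Cfsg.Agent.Helper5.WeakCl

set_option autoImplicit false

namespace Cfsg.Agent.Helper5

open scoped commutatorElement

variable {H : Type*} [Group H]

theorem isLarge_conj (Q : Subgroup H) (hL : Cfsg.IsLarge Q) (g : H) :
    Cfsg.IsLarge (Q.map (MulAut.conj g).toMonoidHom) := by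
  refine ⟨?_, fun U hU hne => large_conj Q hL g U hU hne⟩
  intro c hc
  have h0 := conj_mem_centralizer_conj (Q.map (MulAut.conj g).toMonoidHom) g⁻¹ c hc
  rw [conj_conj, inv_mul_cancel, conj_one] at h0
  have h1 := hL.1 h0
  refine ⟨g⁻¹ * c * g⁻¹⁻¹, h1, ?_⟩
  show g * (g⁻¹ * c * g⁻¹⁻¹) * g⁻¹ = c
  group

theorem large_normalizer_of_common_pgroup [Finite H] {p : ℕ} [Fact p.Prime] (Q : Subgroup H)
    (hQp : IsPGroup p Q) (hQ1 : Q ≠ ⊥) (hL : Cfsg.IsLarge Q) (S : Subgroup H) (hS : IsPGroup p S)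
    (hQS : Q ≤ S) (g : H) (hg : Q.map (MulAut.conj g).toMonoidHom ≤ S) :
    g ∈ Subgroup.normalizer (Q : Set H) := by
  obtain ⟨T, hT⟩ := hS.exists_le_sylow
  have hTne : (T : Subgroup H) ≠ ⊥ := fun h => hQ1 (le_bot_iff.1 (h ▸ hQS.trans hT))
  have hZne := inf_centralizer_ne_bot (T : Subgroup H) T.2 hTne
  apply large_key Q hQp hQ1 hL g
  intro hbot
  apply hZne
  rw [eq_bot_iff, ← hbot]
  exact le_inf (inf_le_right.trans (Subgroup.centralizer_le (hQS.trans hT)))
    (inf_le_right.trans (Subgroup.centralizer_le (hg.trans hT)))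

theorem large_le_normalizer_of_pgroup [Finite H] {p : ℕ} [Fact p.Prime] (Q : Subgroup H)
    (hQp : IsPGroup p Q) (hQ1 : Q ≠ ⊥) (hL : Cfsg.IsLarge Q) (S : Subgroup H) (hS : IsPGroup p S)
    (hQS : Q ≤ S) : S ≤ Subgroup.normalizer (Q : Set H) := by
  intro s hs
  apply large_normalizer_of_common_pgroup Q hQp hQ1 hL S hS hQS s
  rintro _ ⟨q, hq, rfl⟩
  exact S.mul_mem (S.mul_mem hs (hQS hq)) (S.inv_mem hs)

/-- for a large `p`-subgroup `Q ≤ L` with `O_p(L) ≠ 1`: `C_H(O_p(L))` is a `p`-group. -/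
theorem large_centralizer_pCore_isPGroup [Finite H] {p : ℕ} [Fact p.Prime] (Q : Subgroup H)
    (hQp : IsPGroup p Q) (hQ1 : Q ≠ ⊥) (hL : Cfsg.IsLarge Q) (L : Subgroup H) (hQL : Q ≤ L)
    (hP1 : (Cfsg.pCore p ↥L).map L.subtype ≠ ⊥) :
    IsPGroup p (Subgroup.centralizer (((Cfsg.pCore p ↥L).map L.subtype : Subgroup H) : Set H)) := by
  set P := (Cfsg.pCore p ↥L).map L.subtype with hP
  have hPp : IsPGroup p P := pCoreMap_isPGroup L
  have hLP : L ≤ Subgroup.normalizer (P : Set H) := le_normalizer_pCoreMap p L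
  have hPL : P ≤ L := pCoreMap_le p L
  set C := Subgroup.centralizer (P : Set H) with hC
  have hLC : L ≤ Subgroup.normalizer (C : Set H) :=
    hLP.trans (normalizer_le_normalizer_centralizer P)
  -- a nontrivial element of Z(P) centralized by Q
  set ZP := P ⊓ Subgroup.centralizer (P : Set H) with hZP
  have hZPne : ZP ≠ ⊥ := inf_centralizer_ne_bot P hPp hP1
  have hQZP : Q ≤ Subgroup.normalizer (ZP : Set H) :=
    le_normalizer_inf P _ Q (hQL.trans hLP) (hQL.trans hLC)
  have hsup : IsPGroup p (Q ⊔ ZP : Subgroup H) :=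
    IsPGroup.to_sup_of_normal_right' hQp (hPp.to_le inf_le_left) hQZP
  have hsupN : Q ⊔ ZP ≤ Subgroup.normalizer (ZP : Set H) := sup_le hQZP Subgroup.le_normalizer
  obtain ⟨z, hzZ, hzo, hzc⟩ := exists_central_order_p (Q ⊔ ZP) ZP hsup le_sup_right hsupN hZPne
  have hz1 : z ≠ 1 := by
    rintro rfl
    rw [orderOf_one] at hzo
    exact (Fact.out : p.Prime).one_lt.ne hzo
  have hUQ : Subgroup.zpowers z ≤ Subgroup.centralizer (Q : Set H) := by
    rw [Subgroup.zpowers_le, Subgroup.mem_centralizer_iff]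
    intro q hq
    exact hzc q (le_sup_left (b := ZP) hq)
  have hUne : Subgroup.zpowers z ≠ ⊥ := by
    rw [Ne, Subgroup.zpowers_eq_bot]; exact hz1
  have hCQ : C ≤ Subgroup.normalizer (Q : Set H) := by
    refine le_trans ?_ (hL.2 _ hUQ hUne)
    refine le_trans ?_ (Subgroup.centralizer_le_normalizer _)
    rw [Subgroup.zpowers_eq_closure, Subgroup.centralizer_closure]
    exact Subgroup.centralizer_le (Set.singleton_subset_iff.2 (hzZ.1))
  have hQC : Q ≤ Subgroup.normalizer (C : Set H) := hQL.trans hLC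
  have hcomm : ⁅Q, C⁆ ≤ Q ⊓ C :=
    le_inf (commutator_le_left_of_le_normalizer Q C hCQ)
      (commutator_le_right_of_le_normalizer Q C hQC)
  -- Q ∩ C ≤ P
  have hQ₁P : Q ⊓ C ≤ P := by
    set D := L ⊓ C with hD
    have hLD : L ≤ Subgroup.normalizer (D : Set H) :=
      le_normalizer_inf L C L Subgroup.le_normalizer hLC
    have hDQ₁ : D ≤ Subgroup.normalizer ((Q ⊓ C : Subgroup H) : Set H) :=
      le_normalizer_inf Q C D (inf_le_right.trans hCQ)
        (inf_le_right.trans Subgroup.le_normalizer)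
    have h1 : Q ⊓ C ≤ (Cfsg.pCore p ↥D).map D.subtype :=
      le_pCoreMap D _ (inf_le_inf hQL le_rfl) hDQ₁ (hQp.to_le inf_le_left)
    have h2 : (Cfsg.pCore p ↥D).map D.subtype ≤ P :=
      le_pCoreMap L _ ((pCoreMap_le p D).trans inf_le_left)
        (hLD.trans (normalizer_le_normalizer_pCoreMap D)) (pCoreMap_isPGroup D)
    exact h1.trans h2
  apply isPGroup_of_coprime_elements_trivial
  intro x hx hxc
  have hcent : ∀ a ∈ Q, x * a = a * x := by
    apply stab_two x (orderOf x) (pow_orderOf_eq_one x) (Q ⊓ C) Q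
    · intro a ha
      exact (Subgroup.mem_centralizer_iff.1 hx a (hQ₁P ha)).symm
    · intro a ha
      have h1 : ⁅a, x⁆ ∈ ⁅Q, C⁆ := Subgroup.commutator_mem_commutator ha hx
      have e : x * a * x⁻¹ * a⁻¹ = (⁅a, x⁆)⁻¹ := by rw [commutatorElement_def]; group
      rw [e]; exact Subgroup.inv_mem _ (hcomm h1)
    · intro a ha ham
      exact eq_one_of_pow_coprime Q hQp _ hxc a ha.1 ham
  have hxQ : x ∈ Q := hL.1 (Subgroup.mem_centralizer_iff.2 (fun a ha => (hcent a ha).symm))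
  exact Helper3.eq_one_of_mem_pGroup_of_coprime p Q hQp hxQ hxc

theorem large_main [Finite H] {p : ℕ} [Fact p.Prime] (Q : Subgroup H) (hQp : IsPGroup p ↥Q)
    (hQ1 : Q ≠ ⊥) (hL : Cfsg.IsLarge Q) :
    (∀ L : Subgroup H, Q ≤ L → Cfsg.pCore p ↥L ≠ ⊥ →
      IsPGroup p ↥(Subgroup.centralizer (((Cfsg.pCoreOf p L) : Subgroup H) : Set H)) ∧
      Subgroup.centralizer (Cfsg.pCore p ↥L : Set ↥L) ≤ Cfsg.pCore p ↥L ∧
      (Cfsg.weakClosure Q L = Q ∨
        Subgroup.centralizer (((Cfsg.weakClosure Q L) : Subgroup H) : Set H) = ⊥)) ∧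
    (∀ R : Subgroup H, Cfsg.IsParabolic p R → Cfsg.pCore p ↥R ≠ ⊥ →
      Subgroup.centralizer (((Cfsg.pCoreOf p R) : Subgroup H) : Set H) ≤ (Cfsg.pCoreOf p R)) ∧
    Cfsg.IsOfParabolicCharacteristic p H := by
  have hmapne : ∀ L : Subgroup H, Cfsg.pCore p ↥L ≠ ⊥ →
      (Cfsg.pCore p ↥L).map L.subtype ≠ ⊥ := by
    intro L h h2
    exact h ((Subgroup.map_eq_bot_iff_of_injective _ (Subgroup.subtype_injective L)).1 h2)
  have part1 : ∀ L : Subgroup H, Q ≤ L → Cfsg.pCore p ↥L ≠ ⊥ →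
      IsPGroup p ↥(Subgroup.centralizer (((Cfsg.pCoreOf p L) : Subgroup H) : Set H)) ∧
      Subgroup.centralizer (Cfsg.pCore p ↥L : Set ↥L) ≤ Cfsg.pCore p ↥L ∧
      (Cfsg.weakClosure Q L = Q ∨
        Subgroup.centralizer (((Cfsg.weakClosure Q L) : Subgroup H) : Set H) = ⊥) := by
    intro L hQL hne
    have hCp := large_centralizer_pCore_isPGroup Q hQp hQ1 hL L hQL (hmapne L hne)
    refine ⟨hCp, ?_, ?_⟩
    · rw [charP_iff]
      apply le_pCoreMap L _ inf_le_left _ (hCp.to_le inf_le_right)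
      exact le_normalizer_inf L _ L Subgroup.le_normalizer
        ((le_normalizer_pCoreMap p L).trans (normalizer_le_normalizer_centralizer _))
    · by_cases hbot : Subgroup.centralizer (((Cfsg.weakClosure Q L) : Subgroup H) : Set H) = ⊥
      · exact Or.inr hbot
      · left
        have hQ1' : Q.map (MulAut.conj (1 : H)).toMonoidHom ≤ L := by rw [conj_one]; exact hQL
        have hQW : Q ≤ Cfsg.weakClosure Q L := by
          have h0 : Q.map (MulAut.conj (1 : H)).toMonoidHom ≤ Cfsg.weakClosure Q L :=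
            le_iSup (fun g : {g : H // Q.map (MulAut.conj g).toMonoidHom ≤ L} =>
              Q.map (MulAut.conj (g : H)).toMonoidHom) ⟨1, hQ1'⟩
          rwa [conj_one] at h0
        apply le_antisymm _ hQW
        apply iSup_le
        rintro ⟨g, hg⟩
        have hgW : Q.map (MulAut.conj g).toMonoidHom ≤ Cfsg.weakClosure Q L :=
          le_iSup (fun g : {g : H // Q.map (MulAut.conj g).toMonoidHom ≤ L} =>
            Q.map (MulAut.conj (g : H)).toMonoidHom) ⟨g, hg⟩
        have hgN : g ∈ Subgroup.normalizer (Q : Set H) := by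
          apply large_key Q hQp hQ1 hL g
          intro h0
          apply hbot
          rw [eq_bot_iff, ← h0]
          exact le_inf (Subgroup.centralizer_le hQW) (Subgroup.centralizer_le hgW)
        exact ((mem_normalizer_iff_conj_eq Q g).1 hgN).le
  have part2 : ∀ R : Subgroup H, Cfsg.IsParabolic p R → Cfsg.pCore p ↥R ≠ ⊥ →
      Subgroup.centralizer (((Cfsg.pCoreOf p R) : Subgroup H) : Set H) ≤ (Cfsg.pCoreOf p R) := by
    rintro R ⟨T, hT⟩ hne
    obtain ⟨g, hg⟩ := exists_conj_le_sylow T Q hQp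
    have hg' : Q.map (MulAut.conj g⁻¹).toMonoidHom ≤ (T : Subgroup H) := by
      rw [conj_le_iff, inv_inv]; exact hg
    have hQ'p : IsPGroup p (Q.map (MulAut.conj g⁻¹).toMonoidHom) := isPGroup_conj Q hQp g⁻¹
    have hQ'1 : Q.map (MulAut.conj g⁻¹).toMonoidHom ≠ ⊥ := by
      intro h
      exact hQ1 ((Subgroup.map_eq_bot_iff_of_injective _ (MulAut.conj g⁻¹).injective).1 h)
    have hCp := large_centralizer_pCore_isPGroup _ hQ'p hQ'1 (isLarge_conj Q hL g⁻¹) R
      (hg'.trans hT) (hmapne R hne)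
    have hRC : R ≤ Subgroup.normalizer ((Subgroup.centralizer
        (((Cfsg.pCore p ↥R).map R.subtype : Subgroup H) : Set H) : Subgroup H) : Set H) :=
      (le_normalizer_pCoreMap p R).trans (normalizer_le_normalizer_centralizer _)
    have hsup : IsPGroup p ((T : Subgroup H) ⊔ Subgroup.centralizer
        (((Cfsg.pCore p ↥R).map R.subtype : Subgroup H) : Set H) : Subgroup H) :=
      IsPGroup.to_sup_of_normal_right' T.2 hCp (hT.trans hRC)
    have h1 := T.is_maximal' hsup le_sup_left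
    have hCT : Subgroup.centralizer (((Cfsg.pCore p ↥R).map R.subtype : Subgroup H) : Set H)
        ≤ (T : Subgroup H) := by
      rw [← h1]; exact le_sup_right
    exact le_pCoreMap R _ (hCT.trans hT) hRC hCp
  refine ⟨part1, part2, ?_⟩
  intro R₀ hR₀p hR₀ne hpar
  rw [charP_iff]
  refine inf_le_right.trans (part2 _ hpar ?_)
  intro hbot
  have h1 : R₀ ≤ (Cfsg.pCore p ↥(Subgroup.normalizer (R₀ : Set H))).map
      (Subgroup.normalizer (R₀ : Set H)).subtype :=
    le_pCoreMap _ R₀ Subgroup.le_normalizer le_rfl hR₀p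
  rw [hbot, Subgroup.map_bot] at h1
  exact hR₀ne (le_bot_iff.1 h1)

end Cfsg.Agent.Helper5
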