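import Mathlib
import Cfsg.Prelude.Def_LocalStructure
import Cfsg.Agent.Helper5.Basic
import Cfsg.Agent.Helper5.CharP
import Cfsg.Agent.Helper5.CharP3
import Cfsg.Agent.Helper5.Large
import Cfsg.Agent.Helper5.Large3
import Cfsg.Agent.Helper5.WeakCl
import Cfsg.Agent.Helper5.WeakCl2

set_option autoImplicit false

namespace Cfsg.Agent.Helper5

open scoped commutatorElement Pointwise

variable {H : Type*} [Group H]

theorem commutator_iSup_le {ι : Sort*} (A : ι → Subgroup H) (C E : Subgroup H)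
    (hE : ∀ i, A i ≤ Subgroup.normalizer (E : Set H)) (h : ∀ i, ⁅A i, C⁆ ≤ E) :
    ⁅⨆ i, A i, C⁆ ≤ E := by
  let K : Subgroup H :=
    { carrier := {x | x ∈ Subgroup.normalizer (E : Set H) ∧ ∀ c ∈ C, ⁅x, c⁆ ∈ E}
      mul_mem' := by
        rintro x y ⟨hx, hx'⟩ ⟨hy, hy'⟩
        refine ⟨mul_mem hx hy, fun c hc => ?_⟩
        have e : ⁅x * y, c⁆ = x * ⁅y, c⁆ * x⁻¹ * ⁅x, c⁆ := by
          simp only [commutatorElement_def]; group
        rw [e]
        exact E.mul_mem ((Subgroup.mem_normalizer_iff.1 hx _).1 (hy' c hc)) (hx' c hc)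
      one_mem' := ⟨one_mem _, fun c _ => by simp⟩
      inv_mem' := by
        rintro x ⟨hx, hx'⟩
        refine ⟨inv_mem hx, fun c hc => ?_⟩
        have e : ⁅x⁻¹, c⁆ = x⁻¹ * (⁅x, c⁆)⁻¹ * x⁻¹⁻¹ := by
          simp only [commutatorElement_def]; group
        rw [e]
        exact (Subgroup.mem_normalizer_iff.1 (inv_mem hx) _).1 (E.inv_mem (hx' c hc)) }
  have hK : ⨆ i, A i ≤ K :=
    iSup_le (fun i x hx => ⟨hE i hx, fun c hc => h i (Subgroup.commutator_mem_commutator hx hc)⟩)
  rw [Subgroup.commutator_le]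
  intro x hx c hc
  exact (hK hx).2 c hc

/-- a large `p`-subgroup normalizing a nontrivial `p`-subgroup `Y` is normalized by `C(Y)`. -/
theorem large_centralizer_le_normalizer [Finite H] {p : ℕ} [Fact p.Prime] (Q : Subgroup H)
    (hQp : IsPGroup p Q) (hL : Cfsg.IsLarge Q) (Y : Subgroup H) (hYp : IsPGroup p Y)
    (hY1 : Y ≠ ⊥) (hQY : Q ≤ Subgroup.normalizer (Y : Set H)) :
    Subgroup.centralizer (Y : Set H) ≤ Subgroup.normalizer (Q : Set H) := by
  have hsup : IsPGroup p (Q ⊔ Y : Subgroup H) := IsPGroup.to_sup_of_normal_right' hQp hYp hQY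
  have hsupN : Q ⊔ Y ≤ Subgroup.normalizer (Y : Set H) := sup_le hQY Subgroup.le_normalizer
  obtain ⟨z, hzY, hzo, hzc⟩ := exists_central_order_p (Q ⊔ Y) Y hsup le_sup_right hsupN hY1
  have hz1 : z ≠ 1 := by
    rintro rfl
    rw [orderOf_one] at hzo
    exact (Fact.out : p.Prime).one_lt.ne hzo
  have hUQ : Subgroup.zpowers z ≤ Subgroup.centralizer (Q : Set H) := by
    rw [Subgroup.zpowers_le, Subgroup.mem_centralizer_iff]
    intro q hq
    exact hzc q (le_sup_left (b := Y) hq)
  have hUne : Subgroup.zpowers z ≠ ⊥ := by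
    rw [Ne, Subgroup.zpowers_eq_bot]; exact hz1
  refine le_trans ?_ (hL.2 _ hUQ hUne)
  refine le_trans ?_ (Subgroup.centralizer_le_normalizer _)
  rw [Subgroup.zpowers_eq_closure, Subgroup.centralizer_closure]
  exact Subgroup.centralizer_le (Set.singleton_subset_iff.2 hzY)

theorem large_weakClosure_centralizer [Finite H] {p : ℕ} [Fact p.Prime] (Q : Subgroup H)
    (hQp : IsPGroup p ↥Q) (hQ1 : Q ≠ ⊥) (hL : Cfsg.IsLarge Q) (L : Subgroup H) (hQL : Q ≤ L)
    (Y : Subgroup H) (hYp : IsPGroup p ↥Y) (hY1 : Y ≠ ⊥)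
    (hLY : L ≤ Subgroup.normalizer ((Y : Subgroup H) : Set H)) :
    Cfsg.weakClosure Q L = Cfsg.weakClosure Q (L ⊔ Subgroup.centralizer ((Y : Subgroup H) : Set H)) ∧
    ⁅Cfsg.weakClosure Q L, Subgroup.centralizer ((Y : Subgroup H) : Set H)⁆
      ≤ (Cfsg.pCoreOf p (Cfsg.weakClosure Q L)) ∧
    Subgroup.centralizer ((Y : Subgroup H) : Set H)
      ≤ Subgroup.normalizer (((Cfsg.weakClosure Q L) : Subgroup H) : Set H) := by
  set C := Subgroup.centralizer (Y : Set H) with hC
  have hLC : L ≤ Subgroup.normalizer (C : Set H) :=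
    hLY.trans (normalizer_le_normalizer_centralizer Y)
  have hG : ∀ g, Q.map (MulAut.conj g).toMonoidHom ≤ L →
      C ≤ Subgroup.normalizer ((Q.map (MulAut.conj g).toMonoidHom : Subgroup H) : Set H) :=
    fun g hg => large_centralizer_le_normalizer _ (isPGroup_conj Q hQp g) (isLarge_conj Q hL g)
      Y hYp hY1 (hg.trans hLY)
  have hCQ : C ≤ Subgroup.normalizer (Q : Set H) :=
    large_centralizer_le_normalizer Q hQp hL Y hYp hY1 (hQL.trans hLY)
  have hWL : Cfsg.weakClosure Q L ≤ L := iSup_le (fun g => g.2)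
  have hgen : ∀ g (hg : Q.map (MulAut.conj g).toMonoidHom ≤ L),
      Q.map (MulAut.conj g).toMonoidHom ≤ Cfsg.weakClosure Q L := fun g hg =>
    le_iSup (fun g : {g : H // Q.map (MulAut.conj g).toMonoidHom ≤ L} =>
      Q.map (MulAut.conj (g : H)).toMonoidHom) ⟨g, hg⟩
  refine ⟨?_, ?_, ?_⟩
  · apply le_antisymm
    · apply iSup_le
      rintro ⟨g, hg⟩
      exact le_iSup (fun g : {g : H // Q.map (MulAut.conj g).toMonoidHom ≤ L ⊔ C} =>
        Q.map (MulAut.conj (g : H)).toMonoidHom) ⟨g, hg.trans le_sup_left⟩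
    · apply iSup_le
      rintro ⟨g, hg⟩
      obtain ⟨k, hk, R, hR, hQR, hkR⟩ := exists_conj_into_pgroup (L ⊔ C) Q
        (Q.map (MulAut.conj g).toMonoidHom) (hQL.trans le_sup_left) hg hQp (isPGroup_conj Q hQp g)
      rw [conj_conj] at hkR
      have hkg := large_normalizer_of_common_pgroup Q hQp hQ1 hL R hR hQR (k * g) hkR
      have hkg' := (mem_normalizer_iff_conj_eq Q (k * g)).1 hkg
      have hkinv : k⁻¹ ∈ ((L ⊔ C : Subgroup H) : Set H) := inv_mem hk
      rw [Subgroup.coe_mul_of_left_le_normalizer_right L C hLC] at hkinv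
      obtain ⟨l, hl, c, hc, hlc⟩ := Set.mem_mul.1 hkinv
      have e1 : Q.map (MulAut.conj g).toMonoidHom = Q.map (MulAut.conj l).toMonoidHom := by
        have h1 : g = k⁻¹ * (k * g) := by group
        calc Q.map (MulAut.conj g).toMonoidHom
            = Q.map (MulAut.conj (k⁻¹ * (k * g))).toMonoidHom := by rw [← h1]
          _ = (Q.map (MulAut.conj (k * g)).toMonoidHom).map (MulAut.conj k⁻¹).toMonoidHom := by
              rw [conj_conj]
          _ = Q.map (MulAut.conj (l * c)).toMonoidHom := by rw [hkg', hlc]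
          _ = (Q.map (MulAut.conj c).toMonoidHom).map (MulAut.conj l).toMonoidHom := by
              rw [conj_conj]
          _ = Q.map (MulAut.conj l).toMonoidHom := by
              rw [(mem_normalizer_iff_conj_eq Q c).1 (hCQ hc)]
      have hlL : Q.map (MulAut.conj l).toMonoidHom ≤ L := by
        rintro _ ⟨q, hq, rfl⟩
        exact L.mul_mem (L.mul_mem hl (hQL hq)) (L.inv_mem hl)
      show Q.map (MulAut.conj g).toMonoidHom ≤ Cfsg.weakClosure Q L
      rw [e1]
      exact hgen l hlL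
  · set W := Cfsg.weakClosure Q L with hW
    set D := W ⊓ C with hD
    have hWD : W ≤ Subgroup.normalizer (D : Set H) :=
      le_normalizer_inf W C W Subgroup.le_normalizer (hWL.trans hLC)
    have hDE : (Cfsg.pCore p ↥D).map D.subtype ≤ Cfsg.pCoreOf p W :=
      le_pCoreMap W _ ((pCoreMap_le p D).trans inf_le_left)
        (hWD.trans (normalizer_le_normalizer_pCoreMap D)) (pCoreMap_isPGroup D)
    have hWE : W ≤ Subgroup.normalizer ((Cfsg.pCoreOf p W : Subgroup H) : Set H) :=
      le_normalizer_pCoreMap p W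
    apply commutator_iSup_le
    · rintro ⟨g, hg⟩
      exact (hgen g hg).trans hWE
    · rintro ⟨g, hg⟩
      have h1 : ⁅Q.map (MulAut.conj g).toMonoidHom, C⁆ ≤ Q.map (MulAut.conj g).toMonoidHom ⊓ C :=
        le_inf (commutator_le_left_of_le_normalizer _ C (hG g hg))
          (commutator_le_right_of_le_normalizer _ C (hg.trans hLC))
      have h2 : Q.map (MulAut.conj g).toMonoidHom ⊓ C ≤ (Cfsg.pCore p ↥D).map D.subtype := by
        apply le_pCoreMap D _ (inf_le_inf (hgen g hg) le_rfl)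
        · exact le_normalizer_inf _ C D (inf_le_right.trans (hG g hg))
            (inf_le_right.trans Subgroup.le_normalizer)
        · exact (isPGroup_conj Q hQp g).to_le inf_le_left
      exact h1.trans (h2.trans hDE)
  · intro c hc
    apply mem_normalizer_of_conj_le
    show (⨆ g : {g : H // Q.map (MulAut.conj g).toMonoidHom ≤ L},
      Q.map (MulAut.conj (g : H)).toMonoidHom).map (MulAut.conj c).toMonoidHom ≤ _
    rw [Subgroup.map_iSup]
    apply iSup_le
    rintro ⟨g, hg⟩
    rw [(mem_normalizer_iff_conj_eq _ c).1 (hG g hg hc)]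
    exact hgen g hg

end Cfsg.Agent.Helper5
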