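import Mathlib
import Cfsg.Prelude.Def_LocalStructure
import Cfsg.Agent.Helper5.Basic
import Cfsg.Agent.Helper5.CharP
import Cfsg.Agent.Helper5.Large3
import Cfsg.Agent.Helper5.Large4
import Cfsg.Agent.Helper5.FixAvg
import Cfsg.Agent.Helper5.PIrr3
import Cfsg.Agent.Helper5.PRes
import Cfsg.Agent.Helper5.WeakCl
import Cfsg.Agent.S0029
import Cfsg.Agent.Lead.PGroupFrattini

set_option autoImplicit false

namespace Cfsg.Agent.Helper5

open scoped commutatorElement

variable {G : Type*} [Group G]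

/-- the `p'`-elements of a group `D` normalizing the `p`-group `A` with `[D, A] ≤ [A, A]`
centralize `A`. -/
theorem pResidualMap_le_centralizer [Finite G] {p : ℕ} [Fact p.Prime] (D A : Subgroup G)
    (hAp : IsPGroup p A) (hDA : D ≤ Subgroup.normalizer (A : Set G)) (hc : ⁅D, A⁆ ≤ ⁅A, A⁆) :
    (Cfsg.pResidual p ↥D).map D.subtype ≤ Subgroup.centralizer (A : Set G) := by
  have hp : p.Prime := Fact.out
  rw [pResidualMap_eq_closure, Subgroup.closure_le]
  rintro d ⟨hdD, hd⟩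
  have hz : Subgroup.zpowers d ≤ D := by
    rw [Subgroup.zpowers_le]; exact hdD
  have hfr : ⁅A, A⁆ ≤ (frattini ↥A).map A.subtype := by
    rw [← Subgroup.map_subtype_commutator]
    exact Subgroup.map_mono (Lead.commutator_le_frattini_of_isPGroup p hAp)
  have key := S0029.result (Subgroup.zpowers d) A (hz.trans hDA) ?_ ?_
  · exact key (Subgroup.mem_zpowers _)
  · rw [Nat.card_zpowers]
    obtain ⟨n, hn⟩ := IsPGroup.iff_card.1 (hAp.to_subgroup (frattini ↥A))
    rw [hn]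
    exact Nat.Coprime.pow_right n hd
  · intro a ha k hk
    apply hfr
    apply hc
    have := Subgroup.commutator_mem_commutator (hz ha) hk
    rwa [commutatorElement_def] at this

/-- if `[O^p(H), H]` lies in a Sylow `p`-subgroup `T`, then `T` is normal. -/
theorem sylow_normal_of_commutator_pResidual {H : Type*} [Group H] [Finite H] {p : ℕ}
    [Fact p.Prime] (T : Sylow p H)
    (h : ∀ g ∈ Cfsg.pResidual p H, ∀ x : H, ⁅g, x⁆ ∈ (T : Subgroup H)) :
    (T : Subgroup H).Normal := by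
  constructor
  intro x hx d
  obtain ⟨g, hg, t, ht, rfl⟩ := exists_mul_pResidual_sylow T d
  have e : g * t * x * (g * t)⁻¹ = ⁅g, t * x * t⁻¹⁆ * (t * x * t⁻¹) := by
    rw [commutatorElement_def]; group
  rw [e]
  exact mul_mem (h g hg _) (mul_mem (mul_mem ht hx) (inv_mem ht))

/-- the group-theoretic core: `Y ≤ O_p(Md)`, `A` a normal `p`-subgroup of `L ≥ Y` with
`C(A) ≤ Md` and `[Y, A] ≤ [A, A]`; then `Y ≤ O_p(L)`. -/
theorem le_pCoreOf_of_commutator_le [Finite G] {p : ℕ} [Fact p.Prime] (Md Y L A : Subgroup G)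
    (hY : Y ≤ Cfsg.pCoreOf p Md) (hYL : Y ≤ L) (hAp : IsPGroup p A)
    (hLA : L ≤ Subgroup.normalizer (A : Set G)) (hCA : Subgroup.centralizer (A : Set G) ≤ Md)
    (hc : ⁅Y, A⁆ ≤ ⁅A, A⁆) : Y ≤ Cfsg.pCoreOf p L := by
  have hp : p.Prime := Fact.out
  have hYp : IsPGroup p Y := (pCoreMap_isPGroup Md).to_le hY
  obtain ⟨D, hD⟩ : ∃ D : Subgroup G, D = ⨆ l : ↥L, Y.map (MulAut.conj (l : G)).toMonoidHom :=
    ⟨_, rfl⟩
  have hYlD : ∀ l ∈ L, Y.map (MulAut.conj l).toMonoidHom ≤ D := by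
    intro l hl
    rw [hD]
    exact le_iSup (fun l : ↥L => Y.map (MulAut.conj (l : G)).toMonoidHom) ⟨l, hl⟩
  have hYD : Y ≤ D := by
    have := hYlD 1 L.one_mem
    rwa [conj_one] at this
  have hDL : D ≤ L := by
    rw [hD]; apply iSup_le; rintro ⟨l, hl⟩ _ ⟨y, hy, rfl⟩
    exact L.mul_mem (L.mul_mem hl (hYL hy)) (L.inv_mem hl)
  have hLD : L ≤ Subgroup.normalizer (D : Set G) := by
    intro l hl
    apply mem_normalizer_of_conj_le
    rw [hD, Subgroup.map_iSup]
    apply iSup_le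
    intro l'
    rw [conj_conj]
    exact le_iSup (fun l : ↥L => Y.map (MulAut.conj (l : G)).toMonoidHom) (⟨l, hl⟩ * l')
  have hAA : L ≤ Subgroup.normalizer ((⁅A, A⁆ : Subgroup G) : Set G) := by
    intro l hl
    apply mem_normalizer_of_conj_le
    rw [Subgroup.map_commutator, conj_le_of_mem_normalizer A l (hLA hl)]
  have hDA : ⁅D, A⁆ ≤ ⁅A, A⁆ := by
    rw [hD]
    apply commutator_iSup_le
    · intro l
      exact (hYlD l l.2).trans (hDL.trans hAA)
    · intro l
      have h1 : ⁅Y.map (MulAut.conj (l : G)).toMonoidHom, A⁆ =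
          (⁅Y, A⁆).map (MulAut.conj (l : G)).toMonoidHom := by
        rw [Subgroup.map_commutator, conj_le_of_mem_normalizer A l (hLA l.2)]
      rw [h1]
      exact (conj_mono hc (l : G)).trans (conj_le_of_mem_normalizer _ _ (hAA l.2)).le
  obtain ⟨E, hE⟩ : ∃ E : Subgroup G, E = (Cfsg.pResidual p ↥D).map D.subtype := ⟨_, rfl⟩
  have hED : E ≤ D := by rw [hE]; exact Subgroup.map_subtype_le _
  have hEC : E ≤ Subgroup.centralizer (A : Set G) := by
    rw [hE]; exact pResidualMap_le_centralizer D A hAp (hDL.trans hLA) hDA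
  have hEMd : E ≤ Md := hEC.trans hCA
  have hNE : Subgroup.normalizer (D : Set G) ≤ Subgroup.normalizer (E : Set G) := by
    rw [hE]; exact normalizer_le_normalizer_pResidualMap p D
  have hDE : D ≤ Subgroup.normalizer (E : Set G) := Subgroup.le_normalizer.trans hNE
  have hLE : L ≤ Subgroup.normalizer (E : Set G) := hLD.trans hNE
  obtain ⟨R, hR⟩ : ∃ R : Subgroup G, R = Cfsg.pCoreOf p E := ⟨_, rfl⟩
  have hNR : Subgroup.normalizer (E : Set G) ≤ Subgroup.normalizer (R : Set G) := by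
    rw [hR]; exact normalizer_le_normalizer_pCoreMap E
  have hRp : IsPGroup p R := by rw [hR]; exact pCoreMap_isPGroup E
  have hRE : R ≤ E := by rw [hR]; exact pCoreMap_le p E
  have hEY : ⁅E, Y⁆ ≤ R := by
    have h1 : ⁅E, Y⁆ ≤ E := commutator_le_left_of_le_normalizer E Y (hYD.trans hDE)
    have h2 : ⁅E, Y⁆ ≤ Cfsg.pCoreOf p Md :=
      (Subgroup.commutator_mono le_rfl hY).trans
        (commutator_le_right_of_le_normalizer E _ (hEMd.trans (le_normalizer_pCoreMap p Md)))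
    have h3 : E ⊓ Cfsg.pCoreOf p Md ≤ R := by
      rw [hR]
      apply le_pCoreMap E _ inf_le_left _ ((pCoreMap_isPGroup Md).to_le inf_le_right)
      exact le_normalizer_inf E _ E Subgroup.le_normalizer
        (hEMd.trans (le_normalizer_pCoreMap p Md))
    exact (le_inf h1 h2).trans h3
  have hEYl : ∀ l ∈ L, ⁅E, Y.map (MulAut.conj l).toMonoidHom⁆ ≤ R := by
    intro l hl
    have h1 : ⁅E, Y.map (MulAut.conj l).toMonoidHom⁆ =
        (⁅E, Y⁆).map (MulAut.conj l).toMonoidHom := by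
      rw [Subgroup.map_commutator, conj_le_of_mem_normalizer E l (hLE hl)]
    rw [h1]
    exact (conj_mono hEY l).trans (conj_le_of_mem_normalizer R l (hNR (hLE hl))).le
  have hDEc : ⁅D, E⁆ ≤ R := by
    rw [hD]
    apply commutator_iSup_le
    · intro l; exact (hYlD l l.2).trans (hDE.trans hNR)
    · intro l
      rw [Subgroup.commutator_comm]
      exact hEYl l l.2
  obtain ⟨T⟩ : Nonempty (Sylow p ↥D) := inferInstance
  have hRT : R.subgroupOf D ≤ (T : Subgroup ↥D) := by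
    have hn : (R.subgroupOf D).Normal :=
      (Subgroup.normal_subgroupOf_iff_le_normalizer (hRE.trans hED)).2 (hDE.trans hNR)
    exact (le_pCore _ hn hRp.comap_subtype).trans (pCore_le_sylow T)
  have hTn : (T : Subgroup ↥D).Normal := by
    apply sylow_normal_of_commutator_pResidual T
    intro g hg x
    apply hRT
    rw [Subgroup.mem_subgroupOf]
    have h2 : ⁅(g : G), (x : G)⁆ ∈ ⁅E, D⁆ :=
      Subgroup.commutator_mem_commutator (by rw [hE]; exact ⟨g, hg, rfl⟩) x.2
    rw [Subgroup.commutator_comm] at h2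
    exact hDEc h2
  have hDT : ∀ l ∈ L, Y.map (MulAut.conj l).toMonoidHom ≤ (T : Subgroup ↥D).map D.subtype := by
    intro l hl y hy
    have hZ : IsPGroup p ((Y.map (MulAut.conj l).toMonoidHom).subgroupOf D) :=
      (isPGroup_conj Y hYp l).comap_subtype
    obtain ⟨g, hg⟩ := exists_conj_le_sylow T _ hZ
    have hgn : g ∈ Subgroup.normalizer ((T : Subgroup ↥D) : Set ↥D) := by
      rw [Subgroup.normalizer_eq_top_iff.2 hTn]; exact Subgroup.mem_top g
    rw [conj_le_of_mem_normalizer _ g hgn] at hg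
    have hyD : y ∈ D := hYlD l hl hy
    have h1 : (⟨y, hyD⟩ : ↥D) ∈ (Y.map (MulAut.conj l).toMonoidHom).subgroupOf D := by
      rw [Subgroup.mem_subgroupOf]; exact hy
    exact ⟨⟨y, hyD⟩, hg h1, rfl⟩
  have hDp : IsPGroup p D := by
    have h1 : D ≤ (T : Subgroup ↥D).map D.subtype :=
      hD.le.trans (iSup_le fun l => hDT l l.2)
    exact (T.2.map D.subtype).to_le h1
  exact hYD.trans (le_pCoreMap L D hDL hLD hDp)

/-- for `M ∈ 𝔐` containing a Sylow `p`-subgroup, in a group with a large `p`-subgroup: the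
normalizer of a nontrivial normal `p`-subgroup of `M` lies in `M†`. -/
theorem normalizer_le_frakM [Finite G] {p : ℕ} [Fact p.Prime] (S : Sylow p G) (Q : Subgroup G)
    (hQp : IsPGroup p ↥Q) (hQ1 : Q ≠ ⊥) (hQ : Cfsg.IsLarge Q) (M : Subgroup G)
    (hSM : (S : Subgroup G) ≤ M) (hM : Cfsg.IsInFrakM p M) (I : Subgroup G) (hI1 : I ≠ ⊥)
    (hIp : IsPGroup p ↥I) (hMI : M ≤ Subgroup.normalizer (I : Set G)) :
    Subgroup.normalizer (I : Set G) ≤
      M ⊔ Subgroup.centralizer ((Cfsg.largestPReducedOf p M : Subgroup G) : Set G) := by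
  obtain ⟨N, hN⟩ : ∃ N : Subgroup G, N = Subgroup.normalizer (I : Set G) := ⟨_, rfl⟩
  rw [← hN]
  have hIN : I ≤ Cfsg.pCoreOf p N :=
    le_pCoreMap N I (by rw [hN]; exact Subgroup.le_normalizer) (by rw [hN]) hIp
  have hne : Cfsg.pCore p ↥N ≠ ⊥ := by
    intro h
    apply hI1
    rw [eq_bot_iff]
    refine hIN.trans ?_
    unfold Cfsg.pCoreOf
    rw [h, Subgroup.map_bot]
  have hpar : Cfsg.IsParabolic p N := ⟨S, hSM.trans (hMI.trans hN.ge)⟩
  have hch : N ∈ Cfsg.charPSubgroups p G :=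
    ⟨hne, (large_main Q hQp hQ1 hQ).2.1 N hpar hne⟩
  obtain ⟨X, hNX, hX⟩ :=
    (Set.toFinite {X | X ∈ Cfsg.charPSubgroups p G}).exists_le_maximal hch
  have hXmax : X ∈ Cfsg.maxCharPSubgroups p G :=
    ⟨hX.1, fun Z hZ hXZ => le_antisymm (hX.2 hZ hXZ) hXZ⟩
  have h1 := hM.2.2.1 X hXmax ((hMI.trans hN.ge).trans hNX)
  rw [← h1]; exact hNX

end Cfsg.Agent.Helper5
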