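import Mathlib
import Cfsg.Prelude.Def_LocalStructure
import Cfsg.Agent.Helper5.WeakCl
import Cfsg.Agent.Helper5.PRes
import Cfsg.Agent.Helper5.PIrr3
import Cfsg.Agent.Helper5.CharP
import Cfsg.Agent.Helper5.PClosed
import Cfsg.Agent.Helper5.Large4
import Cfsg.Agent.Lead.Coprime2
import Cfsg.Agent.Helper3.Layer2

set_option autoImplicit false

namespace Cfsg.Agent.Helper5

open scoped commutatorElement

section abstract

variable {X : Type*} [Group X]

theorem wcf_comm_mul_central (a b z w : X) (hz : ∀ g, z * g = g * z)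
    (hw : ∀ g, w * g = g * w) : ⁅a * z, b * w⁆ = ⁅a, b⁆ := by
  have e1 : a * z * (b * w) * (a * z)⁻¹ * (b * w)⁻¹ =
      a * (z * (b * w * z⁻¹)) * a⁻¹ * (b * w)⁻¹ := by group
  have e2 : z * (b * w * z⁻¹) = b * w := by rw [hz]; group
  have e3 : a * (b * w) * a⁻¹ * (b * w)⁻¹ = a * b * (w * (a⁻¹ * w⁻¹)) * b⁻¹ := by group
  have e4 : w * (a⁻¹ * w⁻¹) = a⁻¹ := by rw [hw]; group
  rw [commutatorElement_def, e1, e2, e3, e4, commutatorElement_def]

theorem wcf_key_comm (x h₁ h₂ y : X)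
    (hc₁ : ∀ g, ⁅x, h₂⁆ * g = g * ⁅x, h₂⁆) (hc₂ : ∀ g, ⁅x⁻¹, y⁆ * g = g * ⁅x⁻¹, y⁆)
    (hc₃ : ∀ g, ⁅h₁⁻¹, y⁆ * g = g * ⁅h₁⁻¹, y⁆) : y * ⁅x, h₁ * h₂⁆ = ⁅x, h₁ * h₂⁆ * y := by
  have e1 : ⁅x, h₁ * h₂⁆ = ⁅x, h₁⁆ * ⁅x, h₂⁆ := by
    have h0 : ⁅x, h₁ * h₂⁆ = ⁅x, h₁⁆ * (h₁ * ⁅x, h₂⁆) * h₁⁻¹ := by
      simp only [commutatorElement_def]; group
    rw [h0, ← hc₁ h₁]; group
  have e2 : y * ⁅x, h₁⁆ * y⁻¹ = ⁅x, h₁⁆ := by
    have a1 : y * ⁅x, h₁⁆ * y⁻¹ = ⁅x * ⁅x⁻¹, y⁆, h₁ * ⁅h₁⁻¹, y⁆⁆ := by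
      simp only [commutatorElement_def]; group
    rw [a1, wcf_comm_mul_central _ _ _ _ hc₂ hc₃]
  have e3 : y * ⁅x, h₁⁆ = ⁅x, h₁⁆ * y := by
    calc y * ⁅x, h₁⁆ = (y * ⁅x, h₁⁆ * y⁻¹) * y := by group
      _ = ⁅x, h₁⁆ * y := by rw [e2]
  calc y * ⁅x, h₁ * h₂⁆ = y * ⁅x, h₁⁆ * ⁅x, h₂⁆ := by rw [e1, mul_assoc]
    _ = ⁅x, h₁⁆ * (y * ⁅x, h₂⁆) := by rw [e3, mul_assoc]
    _ = ⁅x, h₁⁆ * (⁅x, h₂⁆ * y) := by rw [hc₁ y]
    _ = ⁅x, h₁ * h₂⁆ * y := by rw [e1, mul_assoc]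

theorem wcf_key_comm_mod (A B R Q : Subgroup X) [A.Normal] [B.Normal] [R.Normal]
    (hAB : A ⊔ B = ⊤) (hD : ⁅⁅A, B⁆, (⊤ : Subgroup X)⁆ ≤ R) : ⁅⁅A, Q⁆, B⁆ ≤ R := by
  have hcen : ∀ d ∈ ⁅A, B⁆, ∀ g : X ⧸ R, (QuotientGroup.mk' R d) * g = g * (QuotientGroup.mk' R d) := by
    intro d hd g
    obtain ⟨g, rfl⟩ := QuotientGroup.mk'_surjective R g
    have h1 : ⁅d, g⁆ ∈ R := hD (Subgroup.commutator_mem_commutator hd (Subgroup.mem_top g))
    have h2 : QuotientGroup.mk' R ⁅d, g⁆ = 1 := (QuotientGroup.eq_one_iff _).2 h1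
    rw [map_commutatorElement, commutatorElement_eq_one_iff_mul_comm] at h2
    exact h2
  have key : ∀ x ∈ A, ∀ q ∈ Q, ∀ y ∈ B,
      QuotientGroup.mk' R y * QuotientGroup.mk' R ⁅x, q⁆ =
        QuotientGroup.mk' R ⁅x, q⁆ * QuotientGroup.mk' R y := by
    intro x hx q _ y hy
    have hq : q ∈ A ⊔ B := by rw [hAB]; exact Subgroup.mem_top q
    have hBA : B ≤ Subgroup.normalizer (A : Set X) := by
      rw [Subgroup.normalizer_eq_top_iff.2 inferInstance]; exact le_top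
    obtain ⟨h₁, hh₁, h₂, hh₂, rfl⟩ := Helper3.mem_sup_of_le_normalizer_right A B hBA hq
    have := wcf_key_comm (QuotientGroup.mk' R x) (QuotientGroup.mk' R h₁) (QuotientGroup.mk' R h₂)
      (QuotientGroup.mk' R y)
      (by
        intro g
        rw [← map_commutatorElement]
        exact hcen _ (Subgroup.commutator_mem_commutator hx hh₂) g)
      (by
        intro g
        rw [← map_inv, ← map_commutatorElement]
        exact hcen _ (Subgroup.commutator_mem_commutator (A.inv_mem hx) hy) g)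
      (by
        intro g
        rw [← map_inv, ← map_commutatorElement]
        exact hcen _ (Subgroup.commutator_mem_commutator (A.inv_mem hh₁) hy) g)
    rw [← map_mul, ← map_commutatorElement] at this
    exact this
  rw [Subgroup.commutator_le]
  intro g hg y hy
  have hstep : ∀ g ∈ ⁅A, Q⁆, QuotientGroup.mk' R y * QuotientGroup.mk' R g =
      QuotientGroup.mk' R g * QuotientGroup.mk' R y := by
    intro g hg
    rw [Subgroup.commutator_def] at hg
    induction hg using Subgroup.closure_induction with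
    | mem z hz =>
      obtain ⟨x, hx, q, hq, rfl⟩ := hz
      exact key x hx q hq y hy
    | one => simp
    | mul a b _ _ ha hb =>
      rw [map_mul, ← mul_assoc, ha, mul_assoc, hb, mul_assoc]
    | inv a _ ha =>
      rw [map_inv]
      calc QuotientGroup.mk' R y * (QuotientGroup.mk' R a)⁻¹
          = (QuotientGroup.mk' R a)⁻¹ * (QuotientGroup.mk' R a * QuotientGroup.mk' R y) *
            (QuotientGroup.mk' R a)⁻¹ := by group
        _ = (QuotientGroup.mk' R a)⁻¹ * (QuotientGroup.mk' R y * QuotientGroup.mk' R a) *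
            (QuotientGroup.mk' R a)⁻¹ := by rw [ha]
        _ = (QuotientGroup.mk' R a)⁻¹ * QuotientGroup.mk' R y := by group
  have h3 := hstep g hg
  have h4 : QuotientGroup.mk' R ⁅g, y⁆ = 1 := by
    rw [map_commutatorElement, commutatorElement_eq_one_iff_mul_comm]
    exact h3.symm
  exact (QuotientGroup.eq_one_iff _).1 h4

end abstract

variable {G : Type*} [Group G]

/-- the relative version of `wcf_key_comm_mod`, inside a subgroup `Hc` of `G`. -/
theorem wcf_key_comm_sub (Hc H₁ H₂ R Q : Subgroup G) (h₁ : H₁ ≤ Hc)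
    (hn₁ : Hc ≤ Subgroup.normalizer (H₁ : Set G)) (h₂ : H₂ ≤ Hc)
    (hn₂ : Hc ≤ Subgroup.normalizer (H₂ : Set G)) (hR : R ≤ Hc)
    (hnR : Hc ≤ Subgroup.normalizer (R : Set G)) (hQ : Q ≤ Hc) (hprod : H₁ ⊔ H₂ = Hc)
    (hD : ⁅⁅H₁, H₂⁆, Hc⁆ ≤ R) : ⁅⁅H₁, Q⁆, H₂⁆ ≤ R := by
  haveI i1 : (H₁.subgroupOf Hc).Normal := (Subgroup.normal_subgroupOf_iff_le_normalizer h₁).2 hn₁
  haveI i2 : (H₂.subgroupOf Hc).Normal := (Subgroup.normal_subgroupOf_iff_le_normalizer h₂).2 hn₂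
  haveI i3 : (R.subgroupOf Hc).Normal := (Subgroup.normal_subgroupOf_iff_le_normalizer hR).2 hnR
  have hAB : H₁.subgroupOf Hc ⊔ H₂.subgroupOf Hc = ⊤ := by
    rw [← Subgroup.subgroupOf_sup h₁ h₂, hprod, Subgroup.subgroupOf_self]
  have hD' : ⁅⁅H₁.subgroupOf Hc, H₂.subgroupOf Hc⁆, (⊤ : Subgroup ↥Hc)⁆ ≤ R.subgroupOf Hc := by
    intro x hx
    rw [Subgroup.mem_subgroupOf]
    apply hD
    have h0 : (x : G) ∈ (⁅⁅H₁.subgroupOf Hc, H₂.subgroupOf Hc⁆, (⊤ : Subgroup ↥Hc)⁆).map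
        Hc.subtype := ⟨x, hx, rfl⟩
    rw [Subgroup.map_commutator, Subgroup.map_commutator, Subgroup.map_subgroupOf_eq_of_le h₁,
      Subgroup.map_subgroupOf_eq_of_le h₂, ← MonoidHom.range_eq_map, Subgroup.range_subtype] at h0
    exact h0
  have hmain := wcf_key_comm_mod (H₁.subgroupOf Hc) (H₂.subgroupOf Hc) (R.subgroupOf Hc)
    (Q.subgroupOf Hc) hAB hD'
  have h5 := Subgroup.map_mono (f := Hc.subtype) hmain
  rw [Subgroup.map_commutator, Subgroup.map_commutator, Subgroup.map_subgroupOf_eq_of_le h₁,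
    Subgroup.map_subgroupOf_eq_of_le h₂, Subgroup.map_subgroupOf_eq_of_le hQ,
    Subgroup.map_subgroupOf_eq_of_le hR] at h5
  exact h5

/-- `A` normalizes `B ⊔ C` when it normalizes `B` and `[A, C] ≤ B ⊔ C`. -/
theorem wcf_le_normalizer_sup_of_commutator [Finite G] (A B C : Subgroup G)
    (hB : A ≤ Subgroup.normalizer (B : Set G)) (hC : ⁅A, C⁆ ≤ B ⊔ C) :
    A ≤ Subgroup.normalizer ((B ⊔ C : Subgroup G) : Set G) := by
  intro a ha
  apply mem_normalizer_of_conj_le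
  rw [Subgroup.map_sup]
  apply sup_le
  · rw [conj_le_of_mem_normalizer B a (hB ha)]; exact le_sup_left
  · rintro _ ⟨c, hc, rfl⟩
    show a * c * a⁻¹ ∈ B ⊔ C
    have e : a * c * a⁻¹ = ⁅a, c⁆ * c := by rw [commutatorElement_def]; group
    rw [e]
    exact Subgroup.mul_mem _ (hC (Subgroup.commutator_mem_commutator ha hc))
      (Subgroup.mem_sup_right hc)

/-- `O^p(L) ≤ N` as soon as a `p`-power of each element of `O^p(L)` lies in `N`. -/
theorem wcf_pres_le_of_pow_mem {p : ℕ} (L N : Subgroup G)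
    (h : ∀ x ∈ (Cfsg.pResidual p ↥L).map L.subtype, ∃ k : ℕ, x ^ p ^ k ∈ N) :
    (Cfsg.pResidual p ↥L).map L.subtype ≤ N := by
  have h' := h
  rw [pResidualMap_eq_closure, Subgroup.closure_le]
  rintro x ⟨hx, hc⟩
  obtain ⟨k, hk⟩ := h' x (mem_pResidualMap L x hx hc)
  have hc' : (p ^ k).Coprime (orderOf x) := (Nat.Coprime.pow_right k hc).symm
  obtain ⟨m, hm⟩ := exists_pow_eq_self_of_coprime hc'
  rw [SetLike.mem_coe, ← hm]
  exact N.pow_mem hk m

theorem wcf_pow_mem_of_sup {p : ℕ} (N A : Subgroup G) (hA : IsPGroup p A)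
    (hAN : A ≤ Subgroup.normalizer (N : Set G)) (x : G) (hx : x ∈ N ⊔ A) :
    ∃ k : ℕ, x ^ p ^ k ∈ N := by
  obtain ⟨n, hn, a, ha, rfl⟩ := Helper3.mem_sup_of_le_normalizer_right N A hAN hx
  have key : ∀ m : ℕ, (n * a) ^ m * (a ^ m)⁻¹ ∈ N := by
    intro m
    induction m with
    | zero => simp
    | succ m ih =>
      have e : (n * a) ^ (m + 1) * (a ^ (m + 1))⁻¹ =
          ((n * a) ^ m * (a ^ m)⁻¹) * (a ^ m * n * (a ^ m)⁻¹) := by
        rw [pow_succ, pow_succ]; group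
      rw [e]
      exact N.mul_mem ih ((Subgroup.mem_normalizer_iff.1 (hAN (A.pow_mem ha m)) n).1 hn)
  obtain ⟨k, hk⟩ := hA ⟨a, ha⟩
  have hk' : a ^ p ^ k = 1 := by
    have := congrArg Subtype.val hk
    simpa using this
  refine ⟨k, ?_⟩
  have := key (p ^ k)
  rw [hk', inv_one, mul_one] at this
  exact this

section wc

variable [Finite G] {p : ℕ} [Fact p.Prime]

theorem wcf_le_weakClosure (Q X : Subgroup G) (hQX : Q ≤ X) : Q ≤ Cfsg.weakClosure Q X := by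
  unfold Cfsg.weakClosure
  have h1 : Q.map (MulAut.conj (1 : G)).toMonoidHom ≤ X := by rw [conj_one]; exact hQX
  have h2 := le_iSup (fun g : {g : G // Q.map (MulAut.conj g).toMonoidHom ≤ X} =>
    Q.map (MulAut.conj (g : G)).toMonoidHom) ⟨1, h1⟩
  simp only [conj_one] at h2
  exact h2

theorem wcf_weakClosure_le (Q X : Subgroup G) : Cfsg.weakClosure Q X ≤ X := by
  unfold Cfsg.weakClosure
  exact iSup_le (fun g => g.2)

theorem wcf_le_normalizer_weakClosure (Q X : Subgroup G) :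
    X ≤ Subgroup.normalizer (Cfsg.weakClosure Q X : Set G) := by
  intro x hx
  apply mem_normalizer_of_conj_le
  unfold Cfsg.weakClosure
  rw [Subgroup.map_iSup]
  apply iSup_le
  rintro ⟨g, hg⟩
  rw [conj_conj]
  have h1 : Q.map (MulAut.conj (x * g)).toMonoidHom ≤ X := by
    rw [← conj_conj]
    rintro _ ⟨y, hy, rfl⟩
    show x * y * x⁻¹ ∈ X
    exact X.mul_mem (X.mul_mem hx (hg hy)) (X.inv_mem hx)
  exact le_iSup (fun g : {g : G // Q.map (MulAut.conj g).toMonoidHom ≤ X} =>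
    Q.map (MulAut.conj (g : G)).toMonoidHom) ⟨x * g, h1⟩

/-- conjugates of a weakly closed subgroup inside `X` are conjugate under `X`. -/
theorem wcf_conj_in (Q : Subgroup G) (hQp : IsPGroup p Q) (T : Sylow p G)
    (hwc : Cfsg.IsWeaklyClosed Q (T : Subgroup G)) (X : Subgroup G) (hQX : Q ≤ X) (g : G)
    (hg : Q.map (MulAut.conj g).toMonoidHom ≤ X) :
    ∃ x ∈ X, Q.map (MulAut.conj g).toMonoidHom = Q.map (MulAut.conj x).toMonoidHom := by
  have hQ' : IsPGroup p (Q.subgroupOf X) := hQp.comap_subtype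
  obtain ⟨P, hP⟩ := hQ'.exists_le_sylow
  have hQg' : IsPGroup p ((Q.map (MulAut.conj g).toMonoidHom).subgroupOf X) :=
    (isPGroup_conj Q hQp g).comap_subtype
  obtain ⟨x, hx⟩ := exists_conj_le_sylow P _ hQg'
  refine ⟨(x : G), x.2, ?_⟩
  have hR : IsPGroup p (((P : Subgroup ↥X).map (MulAut.conj x).toMonoidHom).map X.subtype) :=
    (P.2.map _).map _
  apply wc_unique Q T hwc _ hR
  · intro y hy
    exact ⟨⟨y, hg hy⟩, hx (Subgroup.mem_subgroupOf.2 hy), rfl⟩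
  · intro y hy
    rw [mem_conj_iff] at hy
    have hyX : y ∈ X := by
      have e : y = (x : G) * ((x : G)⁻¹ * y * (x : G)) * (x : G)⁻¹ := by group
      rw [e]
      exact X.mul_mem (X.mul_mem x.2 (hQX hy)) (X.inv_mem x.2)
    refine ⟨⟨y, hyX⟩, ?_, rfl⟩
    rw [SetLike.mem_coe, mem_conj_iff]
    apply hP
    rw [Subgroup.mem_subgroupOf]
    exact hy

theorem wcf_weakClosure_le_of_normalizer (Q : Subgroup G) (hQp : IsPGroup p Q) (T : Sylow p G)
    (hwc : Cfsg.IsWeaklyClosed Q (T : Subgroup G)) (X Y : Subgroup G) (hQX : Q ≤ X) (hQY : Q ≤ Y)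
    (hN : Cfsg.weakClosure Q X ≤ Subgroup.normalizer (Y : Set G)) : Cfsg.weakClosure Q X ≤ Y := by
  have hQL := wcf_le_weakClosure Q X hQX
  have hgen : ∀ g : {g : G // Q.map (MulAut.conj g).toMonoidHom ≤ X},
      Q.map (MulAut.conj (g : G)).toMonoidHom ≤ Y := by
    rintro ⟨g, hg⟩
    have h1 : Q.map (MulAut.conj g).toMonoidHom ≤ Cfsg.weakClosure Q X :=
      le_iSup (fun g : {g : G // Q.map (MulAut.conj g).toMonoidHom ≤ X} =>
        Q.map (MulAut.conj (g : G)).toMonoidHom) ⟨g, hg⟩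
    obtain ⟨l, hl, he⟩ := wcf_conj_in Q hQp T hwc _ hQL g h1
    show Q.map (MulAut.conj g).toMonoidHom ≤ Y
    rw [he, ← conj_le_of_mem_normalizer Y l (hN hl)]
    exact conj_mono hQY l
  unfold Cfsg.weakClosure
  exact iSup_le hgen

/-- `L = O^p(L) Q` for the weak closure `L` of `Q` in `X`. -/
theorem wcf_eq_res_sup (Q : Subgroup G) (hQp : IsPGroup p Q) (T : Sylow p G)
    (hwc : Cfsg.IsWeaklyClosed Q (T : Subgroup G)) (X : Subgroup G) (hQX : Q ≤ X) :
    Cfsg.weakClosure Q X ≤ (Cfsg.pResidual p ↥(Cfsg.weakClosure Q X)).map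
      (Cfsg.weakClosure Q X).subtype ⊔ Q := by
  obtain ⟨L, hL⟩ : ∃ L : Subgroup G, L = Cfsg.weakClosure Q X := ⟨_, rfl⟩
  rw [← hL]
  have hQL : Q ≤ L := by rw [hL]; exact wcf_le_weakClosure Q X hQX
  obtain ⟨K, hK⟩ : ∃ K : Subgroup G, K = (Cfsg.pResidual p ↥L).map L.subtype := ⟨_, rfl⟩
  rw [← hK]
  have hKL : K ≤ L := by rw [hK]; exact pResidualMap_le p L
  have hLK : L ≤ Subgroup.normalizer (K : Set G) := by
    rw [hK]; exact Subgroup.le_normalizer.trans (normalizer_le_normalizer_pResidualMap p L)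
  have hQ' : IsPGroup p (Q.subgroupOf L) := hQp.comap_subtype
  obtain ⟨S, hS⟩ := hQ'.exists_le_sylow
  obtain ⟨S', hS'⟩ : ∃ S' : Subgroup G, S' = (S : Subgroup ↥L).map L.subtype := ⟨_, rfl⟩
  have hS'p : IsPGroup p S' := by rw [hS']; exact S.2.map _
  have hQS' : Q ≤ S' := by
    intro q hq
    rw [hS']
    exact ⟨⟨q, hQL hq⟩, hS (Subgroup.mem_subgroupOf.2 hq), rfl⟩
  have hS'L : S' ≤ L := by rw [hS']; rintro _ ⟨y, -, rfl⟩; exact y.2
  have hLsup : L = K ⊔ S' := by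
    haveI : (Cfsg.pResidual p ↥L).Normal := pResidual_normal' p
    have h1 := sup_sylow_eq_top_of_pResidual_le (Cfsg.pResidual p ↥L) le_rfl S
    have h2 := congrArg (Subgroup.map L.subtype) h1
    rw [Subgroup.map_sup, ← MonoidHom.range_eq_map, Subgroup.range_subtype] at h2
    rw [hK, hS']; exact h2.symm
  have hS'Q : S' ≤ Subgroup.normalizer (Q : Set G) := by
    intro s hs
    rw [mem_normalizer_iff_conj_eq]
    have h1 : Q.map (MulAut.conj s).toMonoidHom ≤ S' := by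
      rintro _ ⟨q, hq, rfl⟩
      show s * q * s⁻¹ ∈ S'
      exact S'.mul_mem (S'.mul_mem hs (hQS' hq)) (S'.inv_mem hs)
    have h2 : Q.map (MulAut.conj (1 : G)).toMonoidHom ≤ S' := by rw [conj_one]; exact hQS'
    have h3 := wc_unique Q T hwc S' hS'p s 1 h1 h2
    rw [h3, conj_one]
  have hnorm : L ≤ Subgroup.normalizer ((K ⊔ Q : Subgroup G) : Set G) := by
    have hc : ⁅K, Q⁆ ≤ K ⊔ Q :=
      (commutator_le_left_of_le_normalizer K Q (hQL.trans hLK)).trans le_sup_left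
    have a1 : K ≤ Subgroup.normalizer ((K ⊔ Q : Subgroup G) : Set G) :=
      wcf_le_normalizer_sup_of_commutator K K Q Subgroup.le_normalizer hc
    have a2 : S' ≤ Subgroup.normalizer ((K ⊔ Q : Subgroup G) : Set G) :=
      le_normalizer_sup K Q S' (hS'L.trans hLK) hS'Q
    calc L = K ⊔ S' := hLsup
      _ ≤ _ := sup_le a1 a2
  have := wcf_weakClosure_le_of_normalizer Q hQp T hwc X (K ⊔ Q) hQX le_sup_right
    (by rw [← hL]; exact hnorm)
  rw [← hL] at this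
  exact this

/-- `O^p(L) = [O^p(L), Q]` for the weak closure `L` of `Q` in `X`. -/
theorem wcf_res_comm (Q : Subgroup G) (hQp : IsPGroup p Q) (T : Sylow p G)
    (hwc : Cfsg.IsWeaklyClosed Q (T : Subgroup G)) (X : Subgroup G) (hQX : Q ≤ X) :
    ⁅(Cfsg.pResidual p ↥(Cfsg.weakClosure Q X)).map (Cfsg.weakClosure Q X).subtype, Q⁆ =
      (Cfsg.pResidual p ↥(Cfsg.weakClosure Q X)).map (Cfsg.weakClosure Q X).subtype := by
  have hLsup := wcf_eq_res_sup Q hQp T hwc X hQX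
  obtain ⟨L, hL⟩ : ∃ L : Subgroup G, L = Cfsg.weakClosure Q X := ⟨_, rfl⟩
  rw [← hL] at hLsup ⊢
  have hQL : Q ≤ L := by rw [hL]; exact wcf_le_weakClosure Q X hQX
  obtain ⟨K, hK⟩ : ∃ K : Subgroup G, K = (Cfsg.pResidual p ↥L).map L.subtype := ⟨_, rfl⟩
  rw [← hK] at hLsup ⊢
  have hKL : K ≤ L := by rw [hK]; exact pResidualMap_le p L
  have hLK : L ≤ Subgroup.normalizer (K : Set G) := by
    rw [hK]; exact Subgroup.le_normalizer.trans (normalizer_le_normalizer_pResidualMap p L)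
  have hQK : Q ≤ Subgroup.normalizer (K : Set G) := hQL.trans hLK
  apply le_antisymm (commutator_le_left_of_le_normalizer K Q hQK)
  obtain ⟨N, hN⟩ : ∃ N : Subgroup G, N = ⁅K, Q⁆ := ⟨_, rfl⟩
  rw [← hN]
  have hKN : K ≤ Subgroup.normalizer (N : Set G) := by
    rw [hN]; exact Lead.le_normalizer_commutator_left K Q
  have hQN : Q ≤ Subgroup.normalizer (N : Set G) := by
    rw [hN]; exact Lead.le_normalizer_commutator_right K Q hQK
  have hnorm : L ≤ Subgroup.normalizer ((N ⊔ Q : Subgroup G) : Set G) := by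
    have a1 : K ≤ Subgroup.normalizer ((N ⊔ Q : Subgroup G) : Set G) :=
      wcf_le_normalizer_sup_of_commutator K N Q hKN (by rw [hN]; exact le_sup_left)
    have a2 : Q ≤ Subgroup.normalizer ((N ⊔ Q : Subgroup G) : Set G) :=
      le_normalizer_sup N Q Q hQN Subgroup.le_normalizer
    exact hLsup.trans (sup_le a1 a2)
  have hLN : L ≤ N ⊔ Q := by
    have := wcf_weakClosure_le_of_normalizer Q hQp T hwc X (N ⊔ Q) hQX le_sup_right
      (by rw [← hL]; exact hnorm)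
    rw [← hL] at this
    exact this
  rw [hK]
  apply wcf_pres_le_of_pow_mem
  intro x hx
  exact wcf_pow_mem_of_sup N Q hQp hQN x (hLN (pResidualMap_le p L hx))

theorem wcf_res_le (Q : Subgroup G) (hQp : IsPGroup p Q) (H : Subgroup G)
    (hQH : Q ≤ Subgroup.normalizer (H : Set G)) :
    (Cfsg.pResidual p ↥(Cfsg.weakClosure Q (H ⊔ Q))).map (Cfsg.weakClosure Q (H ⊔ Q)).subtype ≤
      H := by
  apply wcf_pres_le_of_pow_mem
  intro x hx
  exact wcf_pow_mem_of_sup H Q hQp hQH x (wcf_weakClosure_le Q _ (pResidualMap_le p _ hx))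

/-- `[D, H°] ≤ O_p(D)` when `D` is normal in the weak closure `H°` and normalizes `Q`. -/
theorem wcf_comm_le_pcore (Q : Subgroup G) (hQp : IsPGroup p Q) (T : Sylow p G)
    (hwc : Cfsg.IsWeaklyClosed Q (T : Subgroup G)) (D : Subgroup G)
    (hDn : Cfsg.weakClosure Q ⊤ ≤ Subgroup.normalizer (D : Set G))
    (hDQ : D ≤ Subgroup.normalizer (Q : Set G)) :
    ⁅D, Cfsg.weakClosure Q ⊤⁆ ≤ (Cfsg.pCore p ↥D).map D.subtype := by
  have hnR : Cfsg.weakClosure Q ⊤ ≤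
      Subgroup.normalizer (((Cfsg.pCore p ↥D).map D.subtype : Subgroup G) : Set G) :=
    hDn.trans (normalizer_le_normalizer_pCoreMap D)
  have hQL := wcf_le_weakClosure Q ⊤ le_top
  rw [Subgroup.commutator_comm]
  have hgen : ∀ g : {g : G // Q.map (MulAut.conj g).toMonoidHom ≤ ⊤},
      Q.map (MulAut.conj (g : G)).toMonoidHom ≤ Cfsg.weakClosure Q ⊤ := fun g =>
    le_iSup (fun g : {g : G // Q.map (MulAut.conj g).toMonoidHom ≤ ⊤} =>
        Q.map (MulAut.conj (g : G)).toMonoidHom) g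
  have key : ∀ g : {g : G // Q.map (MulAut.conj g).toMonoidHom ≤ ⊤},
      ⁅Q.map (MulAut.conj (g : G)).toMonoidHom, D⁆ ≤ (Cfsg.pCore p ↥D).map D.subtype := by
    intro g
    obtain ⟨h, hh, he⟩ := wcf_conj_in Q hQp T hwc _ hQL g (hgen g)
    rw [he]
    have hDh : D ≤ Subgroup.normalizer ((Q.map (MulAut.conj h).toMonoidHom : Subgroup G) : Set G) := by
      have := conj_le_normalizer_conj D Q h hDQ
      rw [conj_le_of_mem_normalizer D h (hDn hh)] at this
      exact this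
    have hQhD : Q.map (MulAut.conj h).toMonoidHom ≤ Subgroup.normalizer (D : Set G) := by
      rw [← he]; exact (hgen g).trans hDn
    have h1 : ⁅Q.map (MulAut.conj h).toMonoidHom, D⁆ ≤ Q.map (MulAut.conj h).toMonoidHom ⊓ D :=
      le_inf (commutator_le_left_of_le_normalizer _ D hDh)
        (commutator_le_right_of_le_normalizer _ D hQhD)
    refine h1.trans (le_pCoreMap D _ inf_le_right ?_ ((isPGroup_conj Q hQp h).to_le inf_le_left))
    exact le_normalizer_inf _ D D hDh Subgroup.le_normalizer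
  unfold Cfsg.weakClosure
  apply commutator_iSup_le
  · intro g
    exact (hgen g).trans hnR
  · exact key

end wc

end Cfsg.Agent.Helper5
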