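import Mathlib
import Cfsg.Prelude.Def_LocalStructure
import Cfsg.Prelude.Def_Local
import Cfsg.Agent.Helper5.WCFact
import Cfsg.Agent.Helper5.Large
import Cfsg.Agent.Helper5.LargeY
import Cfsg.Agent.Helper5.PRed7
import Cfsg.Agent.Helper5.PClosed
import Cfsg.Agent.Helper3.Quasisimple
import Cfsg.Agent.Helper3.PComp

set_option autoImplicit false

namespace Cfsg.Agent.Helper5

open scoped commutatorElement

section ambient

variable {G : Type*} [Group G] [Finite G] {p : ℕ} [Fact p.Prime]

/-- `C(U)` normalizes every conjugate of the large subgroup `Q` that normalizes `U`. -/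
theorem lqs_norm (Q : Subgroup G) (hQp : IsPGroup p Q) (hQ : Cfsg.IsLarge Q) (U : Subgroup G)
    (hUp : IsPGroup p U) (hU1 : U ≠ ⊥) (g : G)
    (hg : Q.map (MulAut.conj g).toMonoidHom ≤ Subgroup.normalizer (U : Set G)) :
    Subgroup.centralizer (U : Set G) ≤
      Subgroup.normalizer ((Q.map (MulAut.conj g).toMonoidHom : Subgroup G) : Set G) := by
  obtain ⟨u, huU, hu1, hud⟩ := exists_fixed_of_pAction U _ hUp hU1 hg (by
    intro d hd
    obtain ⟨k, hk⟩ := (isPGroup_conj Q hQp g) ⟨d, hd⟩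
    refine ⟨k, ?_⟩
    have hk' : d ^ p ^ k = 1 := by
      have h0 := congrArg Subtype.val hk
      rw [Subgroup.coe_pow, Subgroup.coe_one] at h0
      exact h0
    rw [hk']; exact Subgroup.one_mem _)
  have hA : Subgroup.zpowers u ≤
      Subgroup.centralizer ((Q.map (MulAut.conj g).toMonoidHom : Subgroup G) : Set G) := by
    rw [Subgroup.zpowers_le, Subgroup.mem_centralizer_iff]
    exact hud
  have hne : Subgroup.zpowers u ≠ ⊥ := by
    rw [Ne, Subgroup.zpowers_eq_bot]; exact hu1
  have h1 := large_conj Q hQ g (Subgroup.zpowers u) hA hne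
  have h2 : Subgroup.centralizer (U : Set G) ≤
      Subgroup.centralizer ((Subgroup.zpowers u : Subgroup G) : Set G) :=
    Subgroup.centralizer_le (show ((Subgroup.zpowers u : Subgroup G) : Set G) ⊆ (U : Set G) from
      (Subgroup.zpowers_le.2 huU))
  exact (h2.trans (Subgroup.centralizer_le_normalizer _)).trans h1

theorem lqs_not_le (Q : Subgroup G) (hQ : Cfsg.IsLarge Q) (U : Subgroup G) (hU1 : U ≠ ⊥)
    (E : Subgroup G) (hEU : E ≤ Subgroup.normalizer (U : Set G))
    (hQn : ¬ E ≤ Subgroup.normalizer (Q : Set G)) :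
    ¬ Q ≤ Subgroup.centralizer (U : Set G) := by
  intro h
  exact hQn (hEU.trans (hQ.2 U (Subgroup.le_centralizer_iff.1 h) hU1))

end ambient

/-- a nontrivial `p`-subgroup does not centralize a normal quasisimple subgroup of `p`-power
index in a group with trivial `O_p`. -/
theorem lqs_comm_eq {X : Type*} [Group X] [Finite X] {p : ℕ} [Fact p.Prime]
    (hO : Cfsg.pCore p X = ⊥) (K : Subgroup X) [hKn : K.Normal] (hK : Cfsg.IsQuasisimple ↥K)
    (hres : Cfsg.pResidual p X ≤ K) (Y : Subgroup X) (hY : IsPGroup p Y) (hY1 : Y ≠ ⊥) :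
    ⁅K, Y⁆ = K := by
  haveI := hK.1
  have hKp : ⁅K, K⁆ = K := Subgroup.isPerfect_iff.1 hK.1
  have hAK : ∀ A : Subgroup X, A ≤ Subgroup.normalizer (K : Set X) := by
    intro A a _
    rw [Subgroup.normalizer_eq_top_iff.2 hKn]; exact Subgroup.mem_top a
  have hNK : ⁅K, Y⁆ ≤ K := commutator_le_left_of_le_normalizer K Y (hAK Y)
  apply le_antisymm hNK
  haveI hnn : ((⁅K, Y⁆ : Subgroup X).subgroupOf K).Normal :=
    (Subgroup.normal_subgroupOf_iff_le_normalizer hNK).2 (Lead.le_normalizer_commutator_left K Y)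
  rcases Helper3.quasisimple_normal hK ((⁅K, Y⁆ : Subgroup X).subgroupOf K) with h | h
  · exact Subgroup.subgroupOf_eq_top.1 h
  · exfalso
    have h1 : ⁅K, Y⁆ ≤ Subgroup.centralizer (K : Set X) := by
      intro n hn
      rw [Subgroup.mem_centralizer_iff]
      intro k hk
      have h2 : (⟨n, hNK hn⟩ : ↥K) ∈ Subgroup.center ↥K := h (Subgroup.mem_subgroupOf.2 hn)
      have h3 := Subgroup.mem_center_iff.1 h2 ⟨k, hk⟩
      exact congrArg Subtype.val h3
    have h2 : ⁅⁅K, Y⁆, K⁆ = ⊥ := Subgroup.commutator_eq_bot_iff_le_centralizer.2 h1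
    have h3 : ⁅⁅Y, K⁆, K⁆ = ⊥ := by rw [Subgroup.commutator_comm Y K]; exact h2
    have h4 : ⁅⁅K, K⁆, Y⁆ = ⊥ := Subgroup.commutator_commutator_eq_bot_of_rotate h2 h3
    rw [hKp] at h4
    have hYD : Y ≤ Subgroup.centralizer (K : Set X) := by
      rw [Subgroup.le_centralizer_iff]
      exact Subgroup.commutator_eq_bot_iff_le_centralizer.1 h4
    obtain ⟨D, hD⟩ : ∃ D : Subgroup X, D = Subgroup.centralizer (K : Set X) := ⟨_, rfl⟩
    rw [← hD] at hYD
    have hDn : D.Normal := by rw [hD]; infer_instance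
    have hclosed : Cfsg.IsPClosed p ↥D := by
      intro T
      apply sylow_normal_of_commutator_pResidual
      intro g hg x
      have hgK : (g : X) ∈ K := by
        apply hres
        have h5 : (g : X) ∈ (Cfsg.pResidual p ↥D).map D.subtype := ⟨g, hg, rfl⟩
        rw [pResidualMap_eq_closure] at h5
        unfold Cfsg.pResidual
        refine (Subgroup.closure_mono ?_) h5
        rintro y ⟨_, hy⟩
        exact hy
      have hx : (x : X) ∈ Subgroup.centralizer (K : Set X) := by rw [← hD]; exact x.2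
      have h6 := Subgroup.mem_centralizer_iff.1 hx g hgK
      have h7 : ⁅g, x⁆ = 1 := by
        rw [commutatorElement_eq_one_iff_mul_comm]
        exact Subtype.ext h6
      rw [h7]; exact Subgroup.one_mem _
    obtain ⟨P₁, hP₁D, hP₁p, hP₁max, hP₁n⟩ := pClosed_sylow D hclosed
    have hP₁normal : P₁.Normal := by
      rw [← Subgroup.normalizer_eq_top_iff, eq_top_iff]
      refine le_trans ?_ hP₁n
      rw [Subgroup.normalizer_eq_top_iff.2 hDn]
    have hP₁bot : P₁ = ⊥ := by
      rw [eq_bot_iff, ← hO]; exact le_pCore P₁ hP₁normal hP₁p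
    apply hY1
    rw [eq_bot_iff, ← hP₁bot]
    exact hP₁max Y hYD hY

end Cfsg.Agent.Helper5
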