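import Mathlib
import Cfsg.Agent.Helper5.LQS1
import Cfsg.Agent.Helper8.FusionHypFactor

set_option autoImplicit false

namespace Cfsg.Agent.Helper5

open scoped commutatorElement

variable {G : Type*} [Group G]

theorem lqs_img_le {E CU A B : Subgroup G} [hn : (CU.subgroupOf E).Normal] (hAE : A ≤ E)
    (h : (A.subgroupOf E).map (QuotientGroup.mk' (CU.subgroupOf E)) ≤
      (B.subgroupOf E).map (QuotientGroup.mk' (CU.subgroupOf E))) :
    ∀ a ∈ A, ∃ b ∈ B, b⁻¹ * a ∈ CU := by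
  intro a ha
  have h1 : QuotientGroup.mk' (CU.subgroupOf E) ⟨a, hAE ha⟩ ∈
      (A.subgroupOf E).map (QuotientGroup.mk' (CU.subgroupOf E)) :=
    ⟨⟨a, hAE ha⟩, Subgroup.mem_subgroupOf.2 ha, rfl⟩
  obtain ⟨y, hy, hye⟩ := h h1
  have h2 : y⁻¹ * ⟨a, hAE ha⟩ ∈ CU.subgroupOf E := by
    rw [← QuotientGroup.eq]; exact hye
  exact ⟨(y : G), Subgroup.mem_subgroupOf.1 hy, Subgroup.mem_subgroupOf.1 h2⟩

theorem lqs_img_commutator {E CU A B : Subgroup G} [hn : (CU.subgroupOf E).Normal] (hAE : A ≤ E)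
    (hBE : B ≤ E) :
    ((⁅A, B⁆ : Subgroup G).subgroupOf E).map (QuotientGroup.mk' (CU.subgroupOf E)) =
      ⁅(A.subgroupOf E).map (QuotientGroup.mk' (CU.subgroupOf E)),
        (B.subgroupOf E).map (QuotientGroup.mk' (CU.subgroupOf E))⁆ := by
  have hABE : ⁅A, B⁆ ≤ E := (Subgroup.commutator_mono hAE hBE).trans
    (commutator_le_left_of_le_normalizer E E Subgroup.le_normalizer)
  have h0 : (⁅A, B⁆ : Subgroup G).subgroupOf E = ⁅A.subgroupOf E, B.subgroupOf E⁆ := by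
    apply Subgroup.map_injective (Subgroup.subtype_injective E)
    rw [Subgroup.map_commutator, Subgroup.map_subgroupOf_eq_of_le hAE,
      Subgroup.map_subgroupOf_eq_of_le hBE, Subgroup.map_subgroupOf_eq_of_le hABE]
  rw [h0, Subgroup.map_commutator]

theorem lqs_img_ne_bot {E CU Y : Subgroup G} [hn : (CU.subgroupOf E).Normal] (hYE : Y ≤ E)
    (hY : ¬ Y ≤ CU) : (Y.subgroupOf E).map (QuotientGroup.mk' (CU.subgroupOf E)) ≠ ⊥ := by
  intro h
  apply hY
  intro y hy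
  have h1 : QuotientGroup.mk' (CU.subgroupOf E) ⟨y, hYE hy⟩ ∈
      (⊥ : Subgroup (↥E ⧸ CU.subgroupOf E)) := by
    rw [← h]; exact ⟨_, Subgroup.mem_subgroupOf.2 hy, rfl⟩
  rw [Subgroup.mem_bot, QuotientGroup.mk'_apply, QuotientGroup.eq_one_iff] at h1
  exact Subgroup.mem_subgroupOf.1 h1

variable [Finite G] {p : ℕ} [Fact p.Prime]

theorem lqs_core (Q : Subgroup G) (hQp : IsPGroup p ↥Q) (CU E : Subgroup G) (hQE : Q ≤ E)
    (hCUn : ∀ g : G, Q.map (MulAut.conj g).toMonoidHom ≤ E →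
      CU ≤ Subgroup.normalizer ((Q.map (MulAut.conj g).toMonoidHom : Subgroup G) : Set G))
    (hQCU : ¬ Q ≤ CU) (hECU : E ≤ Subgroup.normalizer (CU : Set G))
    [hn : (CU.subgroupOf E).Normal]
    (hred : Cfsg.pCore p (↥E ⧸ CU.subgroupOf E) = ⊥)
    (hqs : Cfsg.IsQuasisimple ↥(((Cfsg.pResidual p ↥E) ⊔ CU.subgroupOf E).map
      (QuotientGroup.mk' (CU.subgroupOf E))))
    (Er : Subgroup G)
    (hEr : Er = (Cfsg.pResidual p ↥(Cfsg.weakClosure Q E)).map (Cfsg.weakClosure Q E).subtype) :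
    (Er.subgroupOf E).map (QuotientGroup.mk' (CU.subgroupOf E)) =
      ((Cfsg.pResidual p ↥E) ⊔ CU.subgroupOf E).map (QuotientGroup.mk' (CU.subgroupOf E)) ∧
    ⁅Er, Er⁆ = Er ∧
    (∀ Y : Subgroup G, Y ≤ E → IsPGroup p ↥Y → ¬ Y ≤ CU → ⁅Er, Y⁆ = Er) ∧
    Er ≤ E ∧ E ≤ Subgroup.normalizer (Er : Set G) ∧
    ⁅CU ⊓ Er, Er⁆ ≤ (Cfsg.pCore p ↥Er).map Er.subtype := by
  classical
  obtain ⟨π, hπ⟩ : ∃ π : ↥E →* ↥E ⧸ CU.subgroupOf E, π = QuotientGroup.mk' (CU.subgroupOf E) :=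
    ⟨_, rfl⟩
  rw [← hπ] at hqs ⊢
  have hπsurj : Function.Surjective π := by rw [hπ]; exact QuotientGroup.mk'_surjective _
  obtain ⟨KB, hKB⟩ : ∃ KB : Subgroup (↥E ⧸ CU.subgroupOf E),
      KB = ((Cfsg.pResidual p ↥E) ⊔ CU.subgroupOf E).map π := ⟨_, rfl⟩
  rw [← hKB] at hqs ⊢
  haveI hKBn : KB.Normal := by
    rw [hKB]
    haveI : (Cfsg.pResidual p ↥E).Normal := pResidual_normal' p
    exact Subgroup.Normal.map inferInstance π hπsurj
  have hresK : Cfsg.pResidual p (↥E ⧸ CU.subgroupOf E) ≤ KB := by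
    rw [← Helper8.map_pResidual_of_surjective p π hπsurj, hKB]
    exact Subgroup.map_mono le_sup_left
  obtain ⟨Ec, hEc⟩ : ∃ Ec : Subgroup G, Ec = Cfsg.weakClosure Q E := ⟨_, rfl⟩
  rw [← hEc] at hEr
  have hEcE : Ec ≤ E := by rw [hEc]; exact wcf_weakClosure_le Q E
  have hQEc : Q ≤ Ec := by rw [hEc]; exact wcf_le_weakClosure Q E hQE
  have hEEc : E ≤ Subgroup.normalizer (Ec : Set G) := by
    rw [hEc]; exact wcf_le_normalizer_weakClosure Q E
  have hErEc : Er ≤ Ec := by rw [hEr]; exact pResidualMap_le p Ec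
  have hErE : Er ≤ E := hErEc.trans hEcE
  have hEEr : E ≤ Subgroup.normalizer (Er : Set G) := by
    rw [hEr]; exact hEEc.trans (normalizer_le_normalizer_pResidualMap p Ec)
  have hQb1 : (Q.subgroupOf E).map π ≠ ⊥ := by rw [hπ]; exact lqs_img_ne_bot hQE hQCU
  have hQbp : IsPGroup p ((Q.subgroupOf E).map π) := (hQp.comap_subtype).map π
  have hB : ∀ Yb : Subgroup (↥E ⧸ CU.subgroupOf E), IsPGroup p Yb → Yb ≠ ⊥ → ⁅KB, Yb⁆ = KB :=
    fun Yb h1 h2 => lqs_comm_eq hred KB hqs hresK Yb h1 h2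
  haveI hEcn : ((Ec.subgroupOf E).map π).Normal := by
    haveI : (Ec.subgroupOf E).Normal := (Subgroup.normal_subgroupOf_iff_le_normalizer hEcE).2 hEEc
    exact Subgroup.Normal.map inferInstance π hπsurj
  have hKBEc : KB ≤ (Ec.subgroupOf E).map π := by
    calc KB = ⁅KB, (Q.subgroupOf E).map π⁆ := (hB _ hQbp hQb1).symm
      _ ≤ ⁅KB, (Ec.subgroupOf E).map π⁆ := Subgroup.commutator_mono le_rfl (Subgroup.map_mono
          (fun x hx => Subgroup.mem_subgroupOf.2 (hQEc (Subgroup.mem_subgroupOf.1 hx))))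
      _ ≤ (Ec.subgroupOf E).map π := Subgroup.commutator_le_right _ _
  have hKBres : Cfsg.pResidual p ↥KB = ⊤ := by
    haveI := hqs.1
    haveI : (Cfsg.pResidual p ↥KB).Normal := pResidual_normal' p
    apply QuotientGroup.subgroup_eq_top_of_subsingleton
    by_contra hns
    rw [not_subsingleton_iff_nontrivial] at hns
    haveI := hns
    have hpq : IsPGroup p (↥KB ⧸ Cfsg.pResidual p ↥KB) := isPGroup_quotient_pResidual _ le_rfl
    haveI : Group.IsNilpotent (↥KB ⧸ Cfsg.pResidual p ↥KB) := hpq.isNilpotent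
    exact Group.IsPerfect.not_isNilpotent (↥KB ⧸ Cfsg.pResidual p ↥KB) inferInstance
  obtain ⟨Xc, hXc⟩ : ∃ Xc : Subgroup (↥E ⧸ CU.subgroupOf E), Xc = (Ec.subgroupOf E).map π :=
    ⟨_, rfl⟩
  let f : ↥Ec →* ↥Xc := (π.comp (Subgroup.inclusion hEcE)).codRestrict Xc (by
    intro z
    rw [hXc]
    exact ⟨Subgroup.inclusion hEcE z, Subgroup.mem_subgroupOf.2 z.2, rfl⟩)
  have hfsurj : Function.Surjective f := by
    rintro ⟨y, hy⟩
    have hy' : y ∈ (Ec.subgroupOf E).map π := by rw [← hXc]; exact hy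
    obtain ⟨e, he, rfl⟩ := hy'
    exact ⟨⟨(e : G), Subgroup.mem_subgroupOf.1 he⟩, Subtype.ext rfl⟩
  have hfres := Helper8.map_pResidual_of_surjective p f hfsurj
  have hKBEr : KB ≤ (Er.subgroupOf E).map π := by
    have h1 : (Cfsg.pResidual p ↥KB).map KB.subtype ≤ (Cfsg.pResidual p ↥Xc).map Xc.subtype :=
      pResidualMap_mono p (by rw [hXc]; exact hKBEc)
    rw [hKBres, ← MonoidHom.range_eq_map, Subgroup.range_subtype, ← hfres] at h1
    intro k hk
    obtain ⟨y, ⟨z, hz, rfl⟩, rfl⟩ := h1 hk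
    refine ⟨Subgroup.inclusion hEcE z, ?_, rfl⟩
    show ((Subgroup.inclusion hEcE z : ↥E) : G) ∈ Er
    rw [hEr]
    exact ⟨z, hz, rfl⟩
  have hErKB : (Er.subgroupOf E).map π ≤ KB := by
    rintro _ ⟨e, he, rfl⟩
    rw [hKB]
    refine ⟨e, Subgroup.mem_sup_left ?_, rfl⟩
    have h1 : (e : G) ∈ (Cfsg.pResidual p ↥E).map E.subtype := by
      apply pResidualMap_mono p hEcE
      rw [← hEr]; exact Subgroup.mem_subgroupOf.1 he
    obtain ⟨y, hy, hye⟩ := h1
    have : y = e := Subtype.ext hye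
    rw [← this]; exact hy
  have himg : (Er.subgroupOf E).map π = KB := le_antisymm hErKB hKBEr
  -- commutators with the centralizer
  obtain ⟨C₁, hC₁⟩ : ∃ C₁ : Subgroup G, C₁ = CU ⊓ Ec := ⟨_, rfl⟩
  obtain ⟨R, hR⟩ : ∃ R : Subgroup G, R = (Cfsg.pCore p ↥C₁).map C₁.subtype := ⟨_, rfl⟩
  have hEC₁ : E ≤ Subgroup.normalizer (C₁ : Set G) := by
    rw [hC₁]; exact le_normalizer_inf CU Ec E hECU hEEc
  have hER : E ≤ Subgroup.normalizer (R : Set G) := by
    rw [hR]; exact hEC₁.trans (normalizer_le_normalizer_pCoreMap C₁)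
  have hRp : IsPGroup p R := by rw [hR]; exact pCoreMap_isPGroup C₁
  have hC₁Ec : ⁅C₁, Ec⁆ ≤ R := by
    rw [Subgroup.commutator_comm, hEc]
    unfold Cfsg.weakClosure
    apply commutator_iSup_le
    · intro g; exact (g.2).trans hER
    · intro g
      have hCg : C₁ ≤ Subgroup.normalizer
          ((Q.map (MulAut.conj (g : G)).toMonoidHom : Subgroup G) : Set G) := by
        rw [hC₁]; exact inf_le_left.trans (hCUn g g.2)
      have hgC : Q.map (MulAut.conj (g : G)).toMonoidHom ≤ Subgroup.normalizer (C₁ : Set G) :=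
        (g.2).trans hEC₁
      have h1 : ⁅Q.map (MulAut.conj (g : G)).toMonoidHom, C₁⁆ ≤
          Q.map (MulAut.conj (g : G)).toMonoidHom ⊓ C₁ :=
        le_inf (commutator_le_left_of_le_normalizer _ C₁ hCg)
          (commutator_le_right_of_le_normalizer _ C₁ hgC)
      rw [hR]
      refine h1.trans (le_pCoreMap C₁ _ inf_le_right ?_
        ((isPGroup_conj Q hQp g).to_le inf_le_left))
      exact le_normalizer_inf _ C₁ C₁ hCg Subgroup.le_normalizer
  obtain ⟨C₂, hC₂⟩ : ∃ C₂ : Subgroup G, C₂ = CU ⊓ Er := ⟨_, rfl⟩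
  obtain ⟨R₀, hR₀⟩ : ∃ R₀ : Subgroup G, R₀ = R ⊓ Er := ⟨_, rfl⟩
  have hC₂Er : C₂ ≤ Er := by rw [hC₂]; exact inf_le_right
  have hC₂C₁ : C₂ ≤ C₁ := by rw [hC₂, hC₁]; exact inf_le_inf_left _ hErEc
  have hEcEr : Ec ≤ Subgroup.normalizer (Er : Set G) := hEcE.trans hEEr
  have hC₂Ec : ⁅C₂, Ec⁆ ≤ R₀ := by
    rw [hR₀]
    exact le_inf ((Subgroup.commutator_mono hC₂C₁ le_rfl).trans hC₁Ec)
      ((Subgroup.commutator_mono hC₂Er le_rfl).trans
        (commutator_le_left_of_le_normalizer Er Ec hEcEr))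
  have hR₀p : IsPGroup p R₀ := by rw [hR₀]; exact hRp.to_le inf_le_left
  have hER₀ : E ≤ Subgroup.normalizer (R₀ : Set G) := by
    rw [hR₀]; exact le_normalizer_inf R Er E hER hEEr
  have hR₀Er : R₀ ≤ Er := by rw [hR₀]; exact inf_le_right
  have hlift : ∀ N : Subgroup G, N ≤ Er → KB ≤ (N.subgroupOf E).map π → Er ≤ N ⊔ C₂ := by
    intro N hNEr hN x hx
    have h1 : (Er.subgroupOf E).map π ≤ (N.subgroupOf E).map π := himg.le.trans hN
    rw [hπ] at h1
    obtain ⟨b, hb, hbx⟩ := lqs_img_le hErE h1 x hx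
    have e : x = b * (b⁻¹ * x) := by group
    rw [e]
    exact Subgroup.mul_mem _ (Subgroup.mem_sup_left hb) (Subgroup.mem_sup_right (by
      rw [hC₂]; exact Subgroup.mem_inf.2 ⟨hbx, Er.mul_mem (Er.inv_mem (hNEr hb)) hx⟩))
  -- perfectness
  obtain ⟨P, hP⟩ : ∃ P : Subgroup G, P = ⁅Er, Er⁆ := ⟨_, rfl⟩
  have hPEr : P ≤ Er := by
    rw [hP]; exact commutator_le_left_of_le_normalizer Er Er Subgroup.le_normalizer
  have hEP : E ≤ Subgroup.normalizer (P : Set G) := by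
    rw [hP]; exact Helper3.le_normalizer_commutator E Er Er hEEr hEEr
  have hKBperf : ⁅KB, KB⁆ = KB := Subgroup.isPerfect_iff.1 hqs.1
  have hErPC₂ : Er ≤ P ⊔ C₂ := by
    apply hlift P hPEr
    rw [hP, hπ, lqs_img_commutator hErE hErE, ← hπ, himg, hKBperf]
  obtain ⟨S⟩ : Nonempty (Sylow p ↥Ec) := inferInstance
  obtain ⟨S', hS'⟩ : ∃ S' : Subgroup G, S' = (S : Subgroup ↥Ec).map Ec.subtype := ⟨_, rfl⟩
  have hS'p : IsPGroup p S' := by rw [hS']; exact S.2.map _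
  have hS'Ec : S' ≤ Ec := by rw [hS']; rintro _ ⟨y, -, rfl⟩; exact y.2
  have hEcsup : Ec ≤ Er ⊔ S' := by
    haveI : (Cfsg.pResidual p ↥Ec).Normal := pResidual_normal' p
    have h1 := sup_sylow_eq_top_of_pResidual_le (Cfsg.pResidual p ↥Ec) le_rfl S
    have h2 := congrArg (Subgroup.map Ec.subtype) h1
    rw [Subgroup.map_sup, ← MonoidHom.range_eq_map, Subgroup.range_subtype] at h2
    rw [hEr, hS']; exact h2.symm.le
  obtain ⟨Pp, hPp⟩ : ∃ Pp : Subgroup G, Pp = P ⊔ R₀ := ⟨_, rfl⟩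
  have hEPp : E ≤ Subgroup.normalizer (Pp : Set G) := by
    rw [hPp]; exact le_normalizer_sup P R₀ E hEP hER₀
  have hS'E : S' ≤ E := hS'Ec.trans hEcE
  have hEcN : Ec ≤ Subgroup.normalizer ((Pp ⊔ S' : Subgroup G) : Set G) := by
    have a1 : P ≤ Subgroup.normalizer ((Pp ⊔ S' : Subgroup G) : Set G) :=
      wcf_le_normalizer_sup_of_commutator P Pp S' ((hPEr.trans hErE).trans hEPp)
        (((commutator_le_left_of_le_normalizer P S' (hS'E.trans hEP)).trans
          (by rw [hPp]; exact le_sup_left)).trans le_sup_left)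
    have a2 : C₂ ≤ Subgroup.normalizer ((Pp ⊔ S' : Subgroup G) : Set G) :=
      wcf_le_normalizer_sup_of_commutator C₂ Pp S' ((hC₂Er.trans hErE).trans hEPp)
        ((((Subgroup.commutator_mono le_rfl hS'Ec).trans hC₂Ec).trans
          (by rw [hPp]; exact le_sup_right)).trans le_sup_left)
    have a3 : S' ≤ Subgroup.normalizer ((Pp ⊔ S' : Subgroup G) : Set G) :=
      le_normalizer_sup Pp S' S' (hS'E.trans hEPp) Subgroup.le_normalizer
    exact hEcsup.trans (sup_le (hErPC₂.trans (sup_le a1 a2)) a3)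
  have hEcle : Ec ≤ Pp ⊔ S' := by
    have hgen : ∀ g : {g : G // Q.map (MulAut.conj g).toMonoidHom ≤ E},
        Q.map (MulAut.conj (g : G)).toMonoidHom ≤ Pp ⊔ S' := by
      intro g
      have hgEc : Q.map (MulAut.conj (g : G)).toMonoidHom ≤ Ec := by
        rw [hEc]
        exact le_iSup (fun g : {g : G // Q.map (MulAut.conj g).toMonoidHom ≤ E} =>
          Q.map (MulAut.conj (g : G)).toMonoidHom) g
      have hgp : IsPGroup p ((Q.map (MulAut.conj (g : G)).toMonoidHom).subgroupOf Ec) :=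
        (isPGroup_conj Q hQp g).comap_subtype
      obtain ⟨x, hx⟩ := exists_conj_le_sylow S _ hgp
      have h1 : Q.map (MulAut.conj (g : G)).toMonoidHom ≤
          (Pp ⊔ S').map (MulAut.conj (x : G)).toMonoidHom := by
        intro y hy
        have hy' : (⟨y, hgEc hy⟩ : ↥Ec) ∈
            (Q.map (MulAut.conj (g : G)).toMonoidHom).subgroupOf Ec := Subgroup.mem_subgroupOf.2 hy
        obtain ⟨s, hs, hsy⟩ := hx hy'
        refine ⟨(s : G), Subgroup.mem_sup_right (by rw [hS']; exact ⟨s, hs, rfl⟩), ?_⟩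
        have := congrArg Subtype.val hsy
        simpa using this
      rw [conj_le_of_mem_normalizer _ (x : G) (hEcN x.2)] at h1
      exact h1
    rw [hEc]
    unfold Cfsg.weakClosure
    exact iSup_le hgen
  have hErPp : Er ≤ Pp := by
    rw [hEr]
    apply wcf_pres_le_of_pow_mem
    intro x hx
    exact wcf_pow_mem_of_sup Pp S' hS'p (hS'E.trans hEPp) x (hEcle (pResidualMap_le p Ec hx))
  have hperf : Er ≤ P := by
    have hpow : ∀ x ∈ Er, ∃ k : ℕ, x ^ p ^ k ∈ P := by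
      intro x hx
      have hx' : x ∈ P ⊔ R₀ := by rw [← hPp]; exact hErPp hx
      exact wcf_pow_mem_of_sup P R₀ hR₀p ((hR₀Er.trans hErE).trans hEP) x hx'
    have := wcf_pres_le_of_pow_mem (p := p) Ec P (by rw [← hEr]; exact hpow)
    rw [← hEr] at this
    exact this
  have hperf' : ⁅Er, Er⁆ = Er := by rw [← hP]; exact le_antisymm hPEr hperf
  have hY : ∀ Y : Subgroup G, Y ≤ E → IsPGroup p ↥Y → ¬ Y ≤ CU → ⁅Er, Y⁆ = Er := by
    intro Y hYE hYp hYC
    have hYEr : Y ≤ Subgroup.normalizer (Er : Set G) := hYE.trans hEEr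
    obtain ⟨N, hN⟩ : ∃ N : Subgroup G, N = ⁅Er, Y⁆ := ⟨_, rfl⟩
    rw [← hN]
    have hNEr : N ≤ Er := by rw [hN]; exact commutator_le_left_of_le_normalizer Er Y hYEr
    apply le_antisymm hNEr
    have hErN : Er ≤ Subgroup.normalizer (N : Set G) := by
      rw [hN]; exact Lead.le_normalizer_commutator_left Er Y
    have hYb1 : (Y.subgroupOf E).map π ≠ ⊥ := by rw [hπ]; exact lqs_img_ne_bot hYE hYC
    have hYbp : IsPGroup p ((Y.subgroupOf E).map π) := (hYp.comap_subtype).map π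
    have h1 : Er ≤ N ⊔ C₂ := by
      apply hlift N hNEr
      rw [hN, hπ, lqs_img_commutator hErE hYE, ← hπ, himg, hB _ hYbp hYb1]
    have h2 : ⁅Er, Er⁆ ≤ N ⊔ R₀ := by
      rw [Subgroup.commutator_le]
      intro x hx e he
      obtain ⟨n, hn, c, hc, rfl⟩ :=
        Helper3.mem_sup_of_le_normalizer_right N C₂ (hC₂Er.trans hErN) (h1 hx)
      have e1 : ⁅n * c, e⁆ = n * ⁅c, e⁆ * n⁻¹ * ⁅n, e⁆ := by
        simp only [commutatorElement_def]; group
      rw [e1]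
      apply Subgroup.mul_mem
      · apply Subgroup.mem_sup_right
        have hce : ⁅c, e⁆ ∈ R₀ := hC₂Ec (Subgroup.commutator_mem_commutator hc (hErEc he))
        exact (Subgroup.mem_normalizer_iff.1 (hER₀ (hErE (hNEr hn))) _).1 hce
      · apply Subgroup.mem_sup_left
        exact (commutator_le_left_of_le_normalizer N Er hErN)
          (Subgroup.commutator_mem_commutator hn he)
    have hpow : ∀ x ∈ Er, ∃ k : ℕ, x ^ p ^ k ∈ N := by
      intro x hx
      have hx' : x ∈ N ⊔ R₀ := h2 (by rw [hperf']; exact hx)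
      exact wcf_pow_mem_of_sup N R₀ hR₀p (hR₀Er.trans hErN) x hx'
    have := wcf_pres_le_of_pow_mem (p := p) Ec N (by rw [← hEr]; exact hpow)
    rw [← hEr] at this
    exact this
  refine ⟨himg, hperf', hY, hErE, hEEr, ?_⟩
  rw [← hC₂]
  exact ((Subgroup.commutator_mono le_rfl hErEc).trans hC₂Ec).trans
    (le_pCoreMap Er R₀ hR₀Er (hErE.trans hER₀) hR₀p)

end Cfsg.Agent.Helper5
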