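import Mathlib
import Cfsg.Agent.Helper5.LQS2
import Cfsg.Agent.Helper3.PComp

set_option autoImplicit false

namespace Cfsg.Agent.Helper5

open scoped commutatorElement

theorem lqs_main {G : Type*} [Group G] [Finite G] {p : ℕ} [Fact p.Prime] (Q : Subgroup G)
    (hQp : IsPGroup p ↥Q) (hQ : Cfsg.IsLarge Q) (U : Subgroup G)
    (hU : Cfsg.IsElementaryAbelian p U) (hU1 : U ≠ ⊥) (E : Subgroup G) (hQE : Q ≤ E)
    (hEU : E ≤ Subgroup.normalizer ((U : Subgroup G) : Set G))
    (hQn : ¬ E ≤ Subgroup.normalizer ((Q : Subgroup G) : Set G))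
    [hn : ((Subgroup.centralizer ((U : Subgroup G) : Set G)).subgroupOf E).Normal]
    (hred : Cfsg.pCore p (↥E ⧸ (Subgroup.centralizer ((U : Subgroup G) : Set G)).subgroupOf E) = ⊥)
    (hqs : Cfsg.IsQuasisimple ↥(((Cfsg.pResidual p ↥E) ⊔
      (Subgroup.centralizer ((U : Subgroup G) : Set G)).subgroupOf E).map
        (QuotientGroup.mk' ((Subgroup.centralizer ((U : Subgroup G) : Set G)).subgroupOf E))))
    (Er : Subgroup G)
    (hEr : Er = ((Cfsg.pResidual p ↥(Cfsg.weakClosure Q E)).map ((Cfsg.weakClosure Q E)).subtype))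
    [hn2 : ((Subgroup.centralizer ((U : Subgroup G) : Set G)).subgroupOf Er).Normal] :
    ((Cfsg.pResidual p ↥E).map (E).subtype) ⊔ (E ⊓ Subgroup.centralizer ((U : Subgroup G) : Set G)) =
        Er ⊔ (E ⊓ Subgroup.centralizer ((U : Subgroup G) : Set G)) ∧
      ⁅Er, Er⁆ = Er ∧ ((Cfsg.pResidual p ↥Er).map (Er).subtype) = Er ∧
      Cfsg.IsQuasisimple (↥Er ⧸ (Subgroup.centralizer ((U : Subgroup G) : Set G)).subgroupOf Er) ∧
      Cfsg.IsQuasisimple (↥Er ⧸ Cfsg.pCore p ↥Er) ∧
      ∀ Y : Subgroup G, Y ≤ E → IsPGroup p ↥Y →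
        ¬ Y ≤ Subgroup.centralizer ((U : Subgroup G) : Set G) → ⁅Er, Y⁆ = Er := by
  have hUp : IsPGroup p U := by
    intro u
    refine ⟨1, ?_⟩
    rw [pow_one]
    exact Subtype.ext (by rw [Subgroup.coe_pow, Subgroup.coe_one]; exact hU.2 u u.2)
  have hECU : E ≤ Subgroup.normalizer
      ((Subgroup.centralizer (U : Set G) : Subgroup G) : Set G) :=
    hEU.trans (normalizer_le_normalizer_centralizer U)
  have hCUn : ∀ g : G, Q.map (MulAut.conj g).toMonoidHom ≤ E →
      Subgroup.centralizer (U : Set G) ≤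
        Subgroup.normalizer ((Q.map (MulAut.conj g).toMonoidHom : Subgroup G) : Set G) :=
    fun g hg => lqs_norm Q hQp hQ U hUp hU1 g (hg.trans hEU)
  have hQCU := lqs_not_le Q hQ U hU1 E hEU hQn
  obtain ⟨himg, hperf, hY, hErE, hEEr, hcen⟩ :=
    lqs_core Q hQp (Subgroup.centralizer (U : Set G)) E hQE hCUn hQCU hECU hred hqs Er hEr
  have part1 : ((Cfsg.pResidual p ↥E).map (E).subtype) ⊔
      (E ⊓ Subgroup.centralizer ((U : Subgroup G) : Set G)) =
        Er ⊔ (E ⊓ Subgroup.centralizer ((U : Subgroup G) : Set G)) := by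
    apply le_antisymm
    · apply sup_le _ le_sup_right
      rintro _ ⟨y, hy, rfl⟩
      have h1 : QuotientGroup.mk' ((Subgroup.centralizer (U : Set G)).subgroupOf E) y ∈
          (Er.subgroupOf E).map
            (QuotientGroup.mk' ((Subgroup.centralizer (U : Set G)).subgroupOf E)) := by
        rw [himg]; exact ⟨y, Subgroup.mem_sup_left hy, rfl⟩
      obtain ⟨e, he, hey⟩ := h1
      have h2 : e⁻¹ * y ∈ (Subgroup.centralizer (U : Set G)).subgroupOf E := by
        rw [← QuotientGroup.eq]; exact hey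
      have e1 : (y : G) = (e : G) * ((e : G)⁻¹ * (y : G)) := by group
      show (y : G) ∈ _
      rw [e1]
      exact Subgroup.mul_mem _ (Subgroup.mem_sup_left (Subgroup.mem_subgroupOf.1 he))
        (Subgroup.mem_sup_right (Subgroup.mem_inf.2 ⟨(e⁻¹ * y).2, Subgroup.mem_subgroupOf.1 h2⟩))
    · apply sup_le _ le_sup_right
      refine le_trans ?_ le_sup_left
      rw [hEr]; exact pResidualMap_mono p (wcf_weakClosure_le Q E)
  have part3 : (Cfsg.pResidual p ↥Er).map Er.subtype = Er := by
    apply le_antisymm (pResidualMap_le p Er)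
    have e := pResidualMap_eq_closure p (Cfsg.weakClosure Q E)
    intro x hx
    have hx' : x ∈ Subgroup.closure
        {x : G | x ∈ Cfsg.weakClosure Q E ∧ (orderOf x).Coprime p} := by
      rw [← e, ← hEr]; exact hx
    refine (Subgroup.closure_le _).2 ?_ hx'
    rintro y ⟨hy, hc⟩
    apply mem_pResidualMap Er y _ hc
    rw [hEr]; exact mem_pResidualMap _ y hy hc
  have part4 : Cfsg.IsQuasisimple
      (↥Er ⧸ (Subgroup.centralizer ((U : Subgroup G) : Set G)).subgroupOf Er) := by
    let ψ : ↥Er →* ↥(((Cfsg.pResidual p ↥E) ⊔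
        (Subgroup.centralizer ((U : Subgroup G) : Set G)).subgroupOf E).map
          (QuotientGroup.mk' ((Subgroup.centralizer ((U : Subgroup G) : Set G)).subgroupOf E))) :=
      ((QuotientGroup.mk' ((Subgroup.centralizer ((U : Subgroup G) : Set G)).subgroupOf E)).comp
        (Subgroup.inclusion hErE)).codRestrict _ (by
          intro z
          rw [← himg]
          exact ⟨Subgroup.inclusion hErE z, Subgroup.mem_subgroupOf.2 z.2, rfl⟩)
    have hsurj : Function.Surjective ψ := by
      rintro ⟨y, hy⟩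
      have hy' : y ∈ (Er.subgroupOf E).map
          (QuotientGroup.mk' ((Subgroup.centralizer (U : Set G)).subgroupOf E)) := by
        rw [himg]; exact hy
      obtain ⟨e, he, rfl⟩ := hy'
      exact ⟨⟨(e : G), Subgroup.mem_subgroupOf.1 he⟩, Subtype.ext rfl⟩
    have hker : (Subgroup.centralizer (U : Set G)).subgroupOf Er = ψ.ker := by
      ext z
      rw [MonoidHom.mem_ker, Subgroup.mem_subgroupOf]
      constructor
      · intro hz
        apply Subtype.ext
        show QuotientGroup.mk' ((Subgroup.centralizer (U : Set G)).subgroupOf E)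
          (Subgroup.inclusion hErE z) = 1
        rw [QuotientGroup.mk'_apply, QuotientGroup.eq_one_iff, Subgroup.mem_subgroupOf]
        exact hz
      · intro hz
        have h1 := congrArg Subtype.val hz
        have h2 : QuotientGroup.mk' ((Subgroup.centralizer (U : Set G)).subgroupOf E)
            (Subgroup.inclusion hErE z) = 1 := h1
        rw [QuotientGroup.mk'_apply, QuotientGroup.eq_one_iff, Subgroup.mem_subgroupOf] at h2
        exact h2
    exact Helper3.quasisimple_of_mulEquiv
      ((QuotientGroup.quotientMulEquivOfEq hker).trans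
        (QuotientGroup.quotientKerEquivOfSurjective ψ hsurj)).symm hqs
  have part5 : Cfsg.IsQuasisimple (↥Er ⧸ Cfsg.pCore p ↥Er) := by
    haveI hEperf : Group.IsPerfect ↥Er := Subgroup.isPerfect_iff.2 hperf
    have hOC : Cfsg.pCore p ↥Er ≤ (Subgroup.centralizer (U : Set G)).subgroupOf Er := by
      obtain ⟨O, hOdef⟩ : ∃ O : Subgroup G, O = (Cfsg.pCore p ↥Er).map Er.subtype := ⟨_, rfl⟩
      have hOE : O ≤ E := by rw [hOdef]; exact (pCoreMap_le p Er).trans hErE
      have hEO : E ≤ Subgroup.normalizer (O : Set G) := by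
        rw [hOdef]; exact hEEr.trans (normalizer_le_normalizer_pCoreMap Er)
      have hOp : IsPGroup p O := by rw [hOdef]; exact pCoreMap_isPGroup Er
      haveI : (O.subgroupOf E).Normal := (Subgroup.normal_subgroupOf_iff_le_normalizer hOE).2 hEO
      have hN : ((O.subgroupOf E).map
          (QuotientGroup.mk' ((Subgroup.centralizer (U : Set G)).subgroupOf E))).Normal :=
        Subgroup.Normal.map inferInstance _ (QuotientGroup.mk'_surjective _)
      have hbot : (O.subgroupOf E).map
          (QuotientGroup.mk' ((Subgroup.centralizer (U : Set G)).subgroupOf E)) = ⊥ := by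
        rw [eq_bot_iff, ← hred]
        exact le_pCore _ hN ((hOp.comap_subtype).map _)
      intro z hz
      rw [Subgroup.mem_subgroupOf]
      have hzO : (z : G) ∈ O := by rw [hOdef]; exact ⟨z, hz, rfl⟩
      have h1 : QuotientGroup.mk' ((Subgroup.centralizer (U : Set G)).subgroupOf E)
          ⟨(z : G), hOE hzO⟩ ∈ (⊥ : Subgroup _) := by
        rw [← hbot]; exact ⟨_, Subgroup.mem_subgroupOf.2 hzO, rfl⟩
      rw [Subgroup.mem_bot, QuotientGroup.mk'_apply, QuotientGroup.eq_one_iff] at h1
      exact Subgroup.mem_subgroupOf.1 h1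
    haveI hZ₀n : (((Subgroup.centralizer (U : Set G)).subgroupOf Er).map
        (QuotientGroup.mk' (Cfsg.pCore p ↥Er))).Normal :=
      Subgroup.Normal.map hn2 _ (QuotientGroup.mk'_surjective _)
    have hZ₀c : ((Subgroup.centralizer (U : Set G)).subgroupOf Er).map
        (QuotientGroup.mk' (Cfsg.pCore p ↥Er)) ≤ Subgroup.center (↥Er ⧸ Cfsg.pCore p ↥Er) := by
      rintro _ ⟨c, hc, rfl⟩
      rw [Subgroup.mem_center_iff]
      intro g
      obtain ⟨a, rfl⟩ := QuotientGroup.mk'_surjective _ g
      have h1 : ⁅c, a⁆ ∈ Cfsg.pCore p ↥Er := by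
        have h2 : ((⁅c, a⁆ : ↥Er) : G) ∈ (Cfsg.pCore p ↥Er).map Er.subtype := by
          apply hcen
          have : ((⁅c, a⁆ : ↥Er) : G) = ⁅(c : G), (a : G)⁆ := by simp [commutatorElement_def]
          rw [this]
          exact Subgroup.commutator_mem_commutator
            (Subgroup.mem_inf.2 ⟨Subgroup.mem_subgroupOf.1 hc, c.2⟩) a.2
        obtain ⟨y, hy, hye⟩ := h2
        have : y = ⁅c, a⁆ := Subtype.ext hye
        rw [← this]; exact hy
      have h3 : QuotientGroup.mk' (Cfsg.pCore p ↥Er) ⁅c, a⁆ = 1 := (QuotientGroup.eq_one_iff _).2 h1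
      rw [map_commutatorElement, commutatorElement_eq_one_iff_mul_comm] at h3
      exact h3.symm
    have e₃ := QuotientGroup.quotientQuotientEquivQuotient (Cfsg.pCore p ↥Er)
      ((Subgroup.centralizer (U : Set G)).subgroupOf Er) hOC
    have hq : Cfsg.IsQuasisimple ((↥Er ⧸ Cfsg.pCore p ↥Er) ⧸
        (((Subgroup.centralizer (U : Set G)).subgroupOf Er).map
          (QuotientGroup.mk' (Cfsg.pCore p ↥Er)))) :=
      Helper3.quasisimple_of_mulEquiv e₃.symm part4
    exact Helper3.quasisimple_of_central_quotient _ hZ₀c hq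
  exact ⟨part1, hperf, part3, part4, part5, hY⟩

end Cfsg.Agent.Helper5
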