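import Mathlib
import Cfsg.Agent.Helper5.Basic

set_option autoImplicit false

namespace Cfsg.Agent.Helper5

variable {H : Type*} [Group H]

/-- the image in `H ⧸ N` of a maximal subgroup containing `N` is maximal. -/
theorem isCoatom_map_mk (N : Subgroup H) [N.Normal] (M : Subgroup H) (hN : N ≤ M)
    (hMc : IsCoatom M) : IsCoatom (M.map (QuotientGroup.mk' N)) := by
  have hs := QuotientGroup.mk'_surjective N
  constructor
  · intro h
    have h1 : (M.map (QuotientGroup.mk' N)).comap (QuotientGroup.mk' N) = M := by
      rw [Subgroup.comap_map_eq, QuotientGroup.ker_mk', sup_eq_left.2 hN]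
    rw [h, Subgroup.comap_top] at h1
    exact hMc.1 h1.symm
  · intro F hF
    have h1 : M < F.comap (QuotientGroup.mk' N) := by
      refine lt_of_le_of_ne ?_ ?_
      · rw [← Subgroup.map_le_iff_le_comap]; exact hF.le
      · intro he
        have h2 : M.map (QuotientGroup.mk' N) = F := by
          rw [he, Subgroup.map_comap_eq_self_of_surjective hs]
        exact hF.ne h2
    have h2 := hMc.2 _ h1
    rw [← Subgroup.map_comap_eq_self_of_surjective hs F, h2, Subgroup.map_top_of_surjective _ hs]

/-- the preimage of a maximal subgroup of `H ⧸ N` is maximal. -/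
theorem isCoatom_comap_mk (N : Subgroup H) [N.Normal] (K : Subgroup (H ⧸ N)) (hKc : IsCoatom K) :
    IsCoatom (K.comap (QuotientGroup.mk' N)) := by
  have hs := QuotientGroup.mk'_surjective N
  constructor
  · intro h
    apply hKc.1
    rw [← Subgroup.map_comap_eq_self_of_surjective hs K, h, Subgroup.map_top_of_surjective _ hs]
  · intro F hF
    have hNF : N ≤ F := by
      refine le_trans ?_ hF.le
      have := Subgroup.ker_le_comap (QuotientGroup.mk' N) K
      rwa [QuotientGroup.ker_mk'] at this
    have h2 : K < F.map (QuotientGroup.mk' N) := by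
      refine lt_of_le_of_ne ?_ ?_
      · rw [← Subgroup.map_comap_eq_self_of_surjective hs K]; exact Subgroup.map_mono hF.le
      · intro he
        have h3 : F = K.comap (QuotientGroup.mk' N) := by
          rw [he, Subgroup.comap_map_eq, QuotientGroup.ker_mk', sup_eq_left.2 hNF]
        exact hF.ne h3.symm
    have h3 := hKc.2 _ h2
    have h4 : F = (F.map (QuotientGroup.mk' N)).comap (QuotientGroup.mk' N) := by
      rw [Subgroup.comap_map_eq, QuotientGroup.ker_mk', sup_eq_left.2 hNF]
    rw [h4, h3, Subgroup.comap_top]

/-- conjugates of maximal subgroups are maximal. -/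
theorem isCoatom_conj (M : Subgroup H) (hM : IsCoatom M) (g : H) :
    IsCoatom (M.map (MulAut.conj g).toMonoidHom) := by
  have h := (OrderIso.isCoatom_iff (MulEquiv.mapSubgroup (MulAut.conj g)) M).2 hM
  rw [MulEquiv.mapSubgroup_apply] at h
  exact h

end Cfsg.Agent.Helper5
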