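import Mathlib
import Cfsg.Prelude.Def_LocalStructure
import Cfsg.Prelude.Def_Transfer
import Cfsg.Agent.Helper5.PIrr
import Cfsg.Agent.Helper5.PIrr3
import Cfsg.Agent.Helper5.Basic
import Cfsg.Agent.Helper5.StrEmb

set_option autoImplicit false

namespace Cfsg.Agent.Helper5

theorem map_inf_of_ker_le {G G' : Type*} [Group G] [Group G'] (f : G →* G') (A B : Subgroup G)
    (h : f.ker ≤ A) : A.map f ⊓ B.map f = (A ⊓ B).map f := by
  apply le_antisymm
  · rintro x ⟨⟨a, ha, rfl⟩, ⟨b, hb, hab⟩⟩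
    refine ⟨b, ⟨?_, hb⟩, hab⟩
    have h1 : a⁻¹ * b ∈ f.ker := by
      rw [MonoidHom.mem_ker, map_mul, map_inv, hab, inv_mul_cancel]
    have e : b = a * (a⁻¹ * b) := by group
    rw [e]
    exact A.mul_mem ha (h h1)
  · exact le_inf (Subgroup.map_mono inf_le_left) (Subgroup.map_mono inf_le_right)

universe u

variable {H : Type u} [Group H] [Finite H] {p : ℕ} [Fact p.Prime] (D : Subgroup H) [D.Normal]

theorem pResidual_quot_le :
    Cfsg.pResidual p (H ⧸ D) ≤ (Cfsg.pResidual p H).map (QuotientGroup.mk' D) := by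
  haveI := pResidual_normal' (H := H) p
  haveI : ((Cfsg.pResidual p H).map (QuotientGroup.mk' D)).Normal :=
    Subgroup.Normal.map inferInstance _ (QuotientGroup.mk'_surjective D)
  apply pResidual_le_of_isPGroup_quotient
  intro y
  obtain ⟨z, rfl⟩ := QuotientGroup.mk_surjective y
  obtain ⟨x, rfl⟩ := QuotientGroup.mk_surjective z
  obtain ⟨e, he⟩ := exists_pow_mem_pResidual (p := p) x
  refine ⟨e, ?_⟩
  rw [← QuotientGroup.mk_pow, QuotientGroup.eq_one_iff, ← QuotientGroup.mk_pow]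
  exact Subgroup.mem_map_of_mem _ he

omit [Finite H] [Fact p.Prime] in
theorem map_pResidual_le_quot :
    (Cfsg.pResidual p H).map (QuotientGroup.mk' D) ≤ Cfsg.pResidual p (H ⧸ D) := by
  unfold Cfsg.pResidual
  rw [MonoidHom.map_closure, Subgroup.closure_le]
  rintro _ ⟨x, hx, rfl⟩
  apply Subgroup.subset_closure
  exact Nat.Coprime.coprime_dvd_left (orderOf_map_dvd _ x) hx

theorem pCore_quot (hD : IsPGroup p D) :
    Cfsg.pCore p (H ⧸ D) = (Cfsg.pCore p H).map (QuotientGroup.mk' D) := by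
  haveI := pCore_normal p H
  haveI := pCore_normal p (H ⧸ D)
  apply le_antisymm
  · have h1 : (Cfsg.pCore p (H ⧸ D)).comap (QuotientGroup.mk' D) ≤ Cfsg.pCore p H := by
      apply le_pCore _ (Subgroup.Normal.comap inferInstance _)
      apply IsPGroup.comap_of_ker_isPGroup pCore_isPGroup
      rw [QuotientGroup.ker_mk']
      exact hD
    calc Cfsg.pCore p (H ⧸ D)
        = ((Cfsg.pCore p (H ⧸ D)).comap (QuotientGroup.mk' D)).map (QuotientGroup.mk' D) :=
          (Subgroup.map_comap_eq_self_of_surjective (QuotientGroup.mk'_surjective D) _).symm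
      _ ≤ _ := Subgroup.map_mono h1
  · exact le_pCore _ (Subgroup.Normal.map inferInstance _ (QuotientGroup.mk'_surjective D))
      (pCore_isPGroup.map _)

theorem pirr_quot (hD : IsPGroup p D) :
    (Cfsg.IsPIrreducible p H ↔ Cfsg.IsPIrreducible p (H ⧸ D)) ∧
    (Cfsg.IsStronglyPIrreducible p H ↔ Cfsg.IsStronglyPIrreducible p (H ⧸ D)) := by
  obtain ⟨T⟩ : Nonempty (Sylow p H) := inferInstance
  have hsurj := QuotientGroup.mk'_surjective D
  have hDO : D ≤ Cfsg.pCore p H := le_pCore D inferInstance hD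
  have hDT : D ≤ (T : Subgroup H) := hDO.trans (pCore_le_sylow T)
  have hker : (QuotientGroup.mk' D).ker ≤ (T : Subgroup H) := by
    rw [QuotientGroup.ker_mk']; exact hDT
  have hTb : ((T.mapSurjective hsurj : Sylow p (H ⧸ D)) : Subgroup (H ⧸ D)) =
      (T : Subgroup H).map (QuotientGroup.mk' D) := Sylow.coe_mapSurjective hsurj T
  have hcl : Cfsg.IsPClosed p H ↔ Cfsg.IsPClosed p (H ⧸ D) := by
    constructor
    · intro h
      apply isPClosed_of_normal_sylow (T.mapSurjective hsurj)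
      rw [hTb]
      exact (h T).map _ hsurj
    · intro h
      apply isPClosed_of_normal_sylow T
      have h1 := h (T.mapSurjective hsurj)
      rw [hTb] at h1
      have h2 : ((T : Subgroup H).map (QuotientGroup.mk' D)).comap (QuotientGroup.mk' D) =
          (T : Subgroup H) := by
        rw [Subgroup.comap_map_eq, sup_eq_left.2 hker]
      rw [← h2]
      exact h1.comap _
  have keyA : ∀ Nb : Subgroup (H ⧸ D), Nb.Normal → ¬ Cfsg.IsPClosed p ↥Nb →
      ¬ Cfsg.IsPClosed p ↥(Nb.comap (QuotientGroup.mk' D)) := by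
    intro Nb hNb hncl hcl'
    apply hncl
    haveI := hNb
    haveI : (Nb.comap (QuotientGroup.mk' D)).Normal := hNb.comap _
    have h1 := inf_normal_of_isPClosed T (Nb.comap (QuotientGroup.mk' D)) hcl'
    apply isPClosed_of_inf_normal (T.mapSurjective hsurj) Nb
    rw [hTb]
    have h2 : (T : Subgroup H).map (QuotientGroup.mk' D) ⊓ Nb =
        ((T : Subgroup H) ⊓ Nb.comap (QuotientGroup.mk' D)).map (QuotientGroup.mk' D) := by
      rw [← map_inf_of_ker_le _ _ _ hker, Subgroup.map_comap_eq_self_of_surjective hsurj]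
    rw [h2]
    exact h1.map _ hsurj
  have keyB : ∀ N : Subgroup H, N.Normal → ¬ Cfsg.IsPClosed p ↥N →
      ¬ Cfsg.IsPClosed p ↥(N.map (QuotientGroup.mk' D)) := by
    intro N hN hncl hcl'
    apply hncl
    haveI := hN
    haveI : (N.map (QuotientGroup.mk' D)).Normal := hN.map _ hsurj
    have h1 := inf_normal_of_isPClosed (T.mapSurjective hsurj) (N.map (QuotientGroup.mk' D)) hcl'
    rw [hTb] at h1
    have h2 : ((T : Subgroup H).map (QuotientGroup.mk' D) ⊓
        N.map (QuotientGroup.mk' D)).comap (QuotientGroup.mk' D) = (T : Subgroup H) ⊓ (N ⊔ D) := by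
      rw [Subgroup.comap_inf, Subgroup.comap_map_eq, Subgroup.comap_map_eq, QuotientGroup.ker_mk',
        sup_eq_left.2 hDT]
    haveI h3 : ((T : Subgroup H) ⊓ (N ⊔ D)).Normal := h2 ▸ h1.comap _
    apply isPClosed_of_inf_normal T N
    have h4 : (T : Subgroup H) ⊓ N = ((T : Subgroup H) ⊓ (N ⊔ D)) ⊓ N := by
      rw [inf_assoc, inf_eq_right.2 (le_sup_left : N ≤ N ⊔ D)]
    rw [h4]
    infer_instance
  have keyC : ∀ N : Subgroup H, N.Normal →
      Cfsg.pResidual p (H ⧸ D) ≤ N.map (QuotientGroup.mk' D) → Cfsg.pResidual p H ≤ N := by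
    intro N hN h
    have h1 : Cfsg.pResidual p H ≤ N ⊔ D := by
      have h0 := Subgroup.comap_mono (f := QuotientGroup.mk' D) ((map_pResidual_le_quot D).trans h)
      rw [Subgroup.comap_map_eq, Subgroup.comap_map_eq, QuotientGroup.ker_mk'] at h0
      exact le_sup_left.trans h0
    intro y hy
    have h5 : ∀ x : H, Nat.Coprime (orderOf x) p → x ∈ Cfsg.pResidual p H → x ∈ N := by
      intro x hx hxr
      exact mem_of_coprime_of_mem_sup N D hD
        (by rw [Subgroup.normalizer_eq_top_iff.2 hN]; exact le_top) x (h1 hxr) hx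
    have h6 : Cfsg.pResidual p H ≤ N := by
      unfold Cfsg.pResidual
      rw [Subgroup.closure_le]
      intro x hx
      exact h5 x hx (Subgroup.subset_closure hx)
    exact h6 hy
  have keyD : ∀ Nb : Subgroup (H ⧸ D), Cfsg.pResidual p H ≤ Nb.comap (QuotientGroup.mk' D) →
      Cfsg.pResidual p (H ⧸ D) ≤ Nb := by
    intro Nb h
    refine (pResidual_quot_le D).trans ?_
    rw [Subgroup.map_le_iff_le_comap]
    exact h
  refine ⟨⟨?_, ?_⟩, ⟨?_, ?_⟩⟩
  · rintro ⟨h1, h2⟩
    exact ⟨fun h => h1 (hcl.2 h), fun Nb hNb hncl =>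
      keyD Nb (h2 _ (hNb.comap _) (keyA Nb hNb hncl))⟩
  · rintro ⟨h1, h2⟩
    exact ⟨fun h => h1 (hcl.1 h), fun N hN hncl =>
      keyC N hN (h2 _ (hN.map _ hsurj) (keyB N hN hncl))⟩
  · rintro ⟨h1, h2⟩
    refine ⟨fun h => h1 (hcl.2 h), fun Nb hNb hnc => keyD Nb (h2 _ (hNb.comap _) ?_)⟩
    intro hle
    apply hnc
    rw [pCore_quot D hD]
    calc ⁅Nb, (⊤ : Subgroup (H ⧸ D))⁆
        = ⁅(Nb.comap (QuotientGroup.mk' D)).map (QuotientGroup.mk' D),
            (⊤ : Subgroup H).map (QuotientGroup.mk' D)⁆ := by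
          rw [Subgroup.map_comap_eq_self_of_surjective hsurj,
            Subgroup.map_top_of_surjective _ hsurj]
      _ = (⁅Nb.comap (QuotientGroup.mk' D), (⊤ : Subgroup H)⁆).map (QuotientGroup.mk' D) :=
          (Subgroup.map_commutator _ _ _).symm
      _ ≤ _ := Subgroup.map_mono hle
  · rintro ⟨h1, h2⟩
    refine ⟨fun h => h1 (hcl.1 h), fun N hN hnc => keyC N hN (h2 _ (hN.map _ hsurj) ?_)⟩
    intro hle
    apply hnc
    rw [pCore_quot D hD] at hle
    have h0 : (⁅N, (⊤ : Subgroup H)⁆).map (QuotientGroup.mk' D) ≤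
        (Cfsg.pCore p H).map (QuotientGroup.mk' D) := by
      rw [Subgroup.map_commutator, Subgroup.map_top_of_surjective _ hsurj]
      exact hle
    have h3 := Subgroup.comap_mono (f := QuotientGroup.mk' D) h0
    rw [Subgroup.comap_map_eq, Subgroup.comap_map_eq, QuotientGroup.ker_mk',
      sup_eq_left.2 hDO] at h3
    exact le_sup_left.trans h3

end Cfsg.Agent.Helper5
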