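import Mathlib
import Cfsg.Prelude.Def_LocalEven
import Cfsg.Agent.Helper5.Basic
import Cfsg.Agent.Helper5.Stability
import Cfsg.Agent.Helper5.CharP
import Cfsg.Agent.Helper5.PRed
import Cfsg.Agent.Helper5.PRed2
import Cfsg.Agent.Helper5.PRes
import Cfsg.Agent.Helper5.WeakCl
import Cfsg.Agent.Helper3.Cores
import Cfsg.Agent.Helper3.Layer2

set_option autoImplicit false

namespace Cfsg.Agent.Helper5

open scoped commutatorElement

universe u

theorem commutator_residual_pReduced {L : Type u} [Group L] [Finite L] {p : ℕ} [Fact p.Prime]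
    (V : Subgroup L) (hV : Cfsg.IsPReducedNormal p V) (K : Subgroup L) (hK : K.IsSubnormal) :
    ⁅V, (Cfsg.pResidual p ↥K).map K.subtype⁆ ≤ K ∧
      Cfsg.IsPReducedNormal p ((⁅V, (Cfsg.pResidual p ↥K).map K.subtype⁆).subgroupOf K) := by
  have hpp : p.Prime := Fact.out
  obtain ⟨hVn, hVe, hCn, hO⟩ := hV
  haveI := hVn
  have hVp : IsPGroup p V := isPGroup_of_isElementaryAbelian V hVe
  set RK := (Cfsg.pResidual p ↥K).map K.subtype with hRK
  have hRKK : RK ≤ K := pResidualMap_le p K
  have hVRK : V ≤ Subgroup.normalizer (RK : Set L) :=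
    le_normalizer_pResidualMap_of_isSubnormal V hVp K hK
  have hWRK : ⁅V, RK⁆ ≤ RK := commutator_le_right_of_le_normalizer V RK hVRK
  have hWK : ⁅V, RK⁆ ≤ K := hWRK.trans hRKK
  have hWV : ⁅V, RK⁆ ≤ V := Subgroup.commutator_le_left V RK
  have hWp : IsPGroup p (⁅V, RK⁆ : Subgroup L) := hVp.to_le hWV
  refine ⟨hWK, ?_⟩
  apply isPReducedNormal_subgroupOf K _ hWK
  · apply Helper3.le_normalizer_commutator K V RK
    · rw [Subgroup.normalizer_eq_top_iff.2 hVn]; exact le_top
    · exact Subgroup.le_normalizer.trans (normalizer_le_normalizer_pResidualMap p K)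
  · exact ⟨⟨⟨fun a b => Subtype.ext (comm_of_isMulCommutative hVe.1 a (hWV a.2) b (hWV b.2))⟩⟩,
      fun w hw => hVe.2 w (hWV hw)⟩
  · intro D hDK hKD hDp
    refine le_trans ?_ (Subgroup.centralizer_le hWV)
    -- p'-elements of D centralize V
    have hα : ∀ x ∈ D, (orderOf x).Coprime p → x ∈ Subgroup.centralizer (V : Set L) := by
      intro x hx hxc
      obtain ⟨j, hj⟩ := hDp x hx
      have hxW : x ∈ Subgroup.centralizer ((⁅V, RK⁆ : Subgroup L) : Set L) := by
        have hc : (p ^ j).Coprime (orderOf x) := (Nat.Coprime.pow_right j hxc).symm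
        obtain ⟨m, hm⟩ := exists_pow_eq_self_of_coprime hc
        rw [← hm]
        exact Subgroup.pow_mem _ hj m
      have hxRK : x ∈ RK := mem_pResidualMap K x (hDK hx) hxc
      have hcent : ∀ a ∈ V, x * a = a * x := by
        apply stab_two x (orderOf x) (pow_orderOf_eq_one x) ⁅V, RK⁆ V
        · intro a ha
          exact (Subgroup.mem_centralizer_iff.1 hxW a ha).symm
        · intro a ha
          have h1 : ⁅a, x⁆ ∈ ⁅V, RK⁆ := Subgroup.commutator_mem_commutator ha hxRK
          have e : x * a * x⁻¹ * a⁻¹ = (⁅a, x⁆)⁻¹ := by rw [commutatorElement_def]; group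
          rw [e]; exact Subgroup.inv_mem _ h1
        · intro a ha ham
          exact eq_one_of_pow_coprime _ hWp _ hxc a ha ham
      exact Subgroup.mem_centralizer_iff.2 (fun a ha => (hcent a ha).symm)
    -- the image of D modulo C(V) is a subnormal p-subgroup
    have hβ : IsPGroup p (D.map (QuotientGroup.mk' (Subgroup.centralizer (V : Set L)))) := by
      rintro ⟨_, d, hd, rfl⟩
      have hpos : orderOf d ≠ 0 := (orderOf_pos d).ne'
      obtain ⟨e, m, hm, hem⟩ := Nat.exists_eq_pow_mul_and_not_dvd hpos p hpp.ne_one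
      refine ⟨e, ?_⟩
      apply Subtype.ext
      simp only [Subgroup.coe_pow, Subgroup.coe_one]
      have h1 : orderOf (d ^ (p ^ e)) = m := by
        rw [orderOf_pow, hem]
        have : Nat.gcd (p ^ e * m) (p ^ e) = p ^ e := Nat.gcd_eq_right (Dvd.intro _ rfl)
        rw [this, Nat.mul_div_cancel_left _ (pow_pos hpp.pos e)]
      have h2 : d ^ (p ^ e) ∈ Subgroup.centralizer (V : Set L) := by
        apply hα _ (D.pow_mem hd _)
        rw [h1]
        exact Nat.Coprime.symm ((Nat.Prime.coprime_iff_not_dvd hpp).2 hm)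
      have h3 := (QuotientGroup.eq_one_iff (N := Subgroup.centralizer (V : Set L)) _).2 h2
      rw [QuotientGroup.mk_pow] at h3
      exact h3
    have hγ : D.IsSubnormal := by
      apply Subgroup.IsSubnormal.trans hDK _ hK
      exact ((Subgroup.normal_subgroupOf_iff_le_normalizer hDK).2 hKD).isSubnormal
    have hδ := Helper3.subnormal_isPGroup_le_pCore _
      (hγ.map (QuotientGroup.mk'_surjective (Subgroup.centralizer (V : Set L)))) hβ
    rw [hO] at hδ
    intro d hd
    have h5 : (QuotientGroup.mk' (Subgroup.centralizer (V : Set L))) d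
        ∈ (⊥ : Subgroup (L ⧸ Subgroup.centralizer (V : Set L))) := hδ ⟨d, hd, rfl⟩
    rw [Subgroup.mem_bot] at h5
    exact (QuotientGroup.eq_one_iff _).1 h5

end Cfsg.Agent.Helper5
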