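import Cfsg.Agent.Helper5.CharP3
import Cfsg.Agent.Helper5.StrEmb

set_option autoImplicit false

namespace Cfsg.Agent.Helper5

universe u

/-- A normal subgroup `G₁` of a group of parabolic characteristic `p` with
`1 ≠ Ω₁(Z(S ∩ G₁)) ≤ Ω₁(Z(S))` has parabolic characteristic `p`. -/
theorem parChar_of_normal {G : Type u} [Group G] [Finite G] {p : ℕ} [Fact p.Prime]
    (hdiv : p ∣ Nat.card G) (hG : Cfsg.IsOfParabolicCharacteristic p G) (S : Sylow p G)
    (G₁ : Subgroup G) [hG₁ : G₁.Normal]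
    (hne : Cfsg.omegaOne p (((S : Subgroup G) ⊓ G₁) ⊓
      Subgroup.centralizer (((S : Subgroup G) ⊓ G₁ : Subgroup G) : Set G)) ≠ ⊥)
    (hle : Cfsg.omegaOne p (((S : Subgroup G) ⊓ G₁) ⊓
      Subgroup.centralizer (((S : Subgroup G) ⊓ G₁ : Subgroup G) : Set G)) ≤
      Cfsg.omegaOne p ((S : Subgroup G) ⊓ Subgroup.centralizer ((S : Subgroup G) : Set G))) :
    Cfsg.IsOfParabolicCharacteristic p ↥G₁ := by
  have hpp : p.Prime := Fact.out
  obtain ⟨S₁, hS₁⟩ := exists_sylow_map_eq_inf S G₁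
  -- p divides |G₁|
  have hdiv₁ : p ∣ Nat.card ↥G₁ := by
    have hQ : IsPGroup p (((S : Subgroup G) ⊓ G₁ : Subgroup G)) := S.2.to_le inf_le_left
    have hQne : ((S : Subgroup G) ⊓ G₁ : Subgroup G) ≠ ⊥ := by
      intro h
      apply hne
      rw [eq_bot_iff]
      intro z hz
      have := (omegaOne_center_spec p _ z hz).1
      rw [h] at this
      exact this
    have h1 := dvd_card_of_isPGroup_ne_bot _ hQ hQne
    exact h1.trans (Subgroup.card_dvd_of_le inf_le_right)
  refine ((local_char_criteria hdiv₁ S₁ ⊥ bot_le).2.1).2 ?_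
  intro z' hz'1 hz'Ω
  obtain ⟨hz'S, hz'c, hz'p⟩ := omegaOne_center_spec p (S₁ : Subgroup ↥G₁) z' hz'Ω
  have hz1 : (z' : G) ≠ 1 := fun h => hz'1 (Subtype.ext h)
  have hzΩ₁ : (z' : G) ∈ Cfsg.omegaOne p (((S : Subgroup G) ⊓ G₁) ⊓
      Subgroup.centralizer (((S : Subgroup G) ⊓ G₁ : Subgroup G) : Set G)) := by
    apply mem_omegaOne_center
    · rw [← hS₁]; exact ⟨z', hz'S, rfl⟩
    · intro a ha
      rw [← hS₁] at ha
      obtain ⟨a', ha', rfl⟩ := ha
      exact congrArg Subtype.val (hz'c a' ha')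
    · have := congrArg Subtype.val hz'p
      simpa using this
  have hzΩ := hle hzΩ₁
  have h1 := ((local_char_criteria hdiv S ⊥ bot_le).2.1).1 hG (z' : G) hz1 hzΩ
  have hH := (charP_iff (Subgroup.centralizer ({(z' : G)} : Set G))).1
    ((fstar_eq_pCore_iff_centralizer p).1 h1)
  have hN := charP_of_normal (Subgroup.centralizer ({(z' : G)} : Set G))
    (Subgroup.centralizer ({(z' : G)} : Set G) ⊓ G₁) hH inf_le_left
    (le_normalizer_inf _ _ _ Subgroup.le_normalizer
      (by rw [Subgroup.normalizer_eq_top_iff.2 hG₁]; exact le_top))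
  have hN' := (fstar_eq_pCore_iff_centralizer p).2 ((charP_iff _).2 hN)
  -- transport along the isomorphism
  let φ : ↥(Subgroup.centralizer ({(z' : G)} : Set G) ⊓ G₁ : Subgroup G) →*
      ↥(Subgroup.centralizer ({z'} : Set ↥G₁)) :=
    { toFun := fun x => ⟨⟨(x : G), x.2.2⟩, by
        rw [mem_centralizer_singleton_iff]
        apply Subtype.ext
        exact (mem_centralizer_singleton_iff (z' : G) (x : G)).1 x.2.1⟩
      map_one' := rfl
      map_mul' := fun _ _ => rfl }
  have hφinj : Function.Injective φ := by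
    intro x y hxy
    apply Subtype.ext
    have := congrArg (fun w : ↥(Subgroup.centralizer ({z'} : Set ↥G₁)) => ((w : ↥G₁) : G)) hxy
    exact this
  have hφsurj : φ.range = ⊤ := by
    rw [eq_top_iff]
    rintro ⟨y, hy⟩ -
    have hyc : (y : G) ∈ Subgroup.centralizer ({(z' : G)} : Set G) := by
      rw [mem_centralizer_singleton_iff]
      exact congrArg Subtype.val ((mem_centralizer_singleton_iff z' y).1 hy)
    exact ⟨⟨(y : G), hyc, y.2⟩, rfl⟩
  exact Helper3.fstar_eq_pCore_of_injective p φ hφinj (by rw [hφsurj]; exact le_top) hN'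

end Cfsg.Agent.Helper5
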