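import Mathlib
import Cfsg.Agent.Helper5.PglOrder

namespace Cfsg.Agent.Helper5

open Polynomial Matrix

universe uQ

section
variable {F : Type uQ} [Field F]

/-- Cayley–Hamilton for 2×2 matrices of determinant one -/
theorem m2_ch (A : Matrix (Fin 2) (Fin 2) F) (hdet : A.det = 1) :
    A * A = A.trace • A - 1 := by
  rw [Matrix.det_fin_two] at hdet
  ext i j
  fin_cases i <;> fin_cases j
  · show (A * A) 0 0 = (A.trace • A - 1) 0 0
    rw [Matrix.mul_apply, Fin.sum_univ_two, Matrix.sub_apply, Matrix.smul_apply,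
      Matrix.trace_fin_two, Matrix.one_apply_eq, smul_eq_mul]
    linear_combination (-1 : F) * hdet
  · show (A * A) 0 1 = (A.trace • A - 1) 0 1
    rw [Matrix.mul_apply, Fin.sum_univ_two, Matrix.sub_apply, Matrix.smul_apply,
      Matrix.trace_fin_two, Matrix.one_apply_ne (show (0 : Fin 2) ≠ 1 by decide), smul_eq_mul]
    ring
  · show (A * A) 1 0 = (A.trace • A - 1) 1 0
    rw [Matrix.mul_apply, Fin.sum_univ_two, Matrix.sub_apply, Matrix.smul_apply,
      Matrix.trace_fin_two, Matrix.one_apply_ne (show (1 : Fin 2) ≠ 0 by decide), smul_eq_mul]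
    ring
  · show (A * A) 1 1 = (A.trace • A - 1) 1 1
    rw [Matrix.mul_apply, Fin.sum_univ_two, Matrix.sub_apply, Matrix.smul_apply,
      Matrix.trace_fin_two, Matrix.one_apply_eq, smul_eq_mul]
    linear_combination (-1 : F) * hdet

theorem m2_det_lin (A : Matrix (Fin 2) (Fin 2) F) (hdet : A.det = 1) (a b : F) :
    (a • (1 : Matrix (Fin 2) (Fin 2) F) + b • A).det = a ^ 2 + a * b * A.trace + b ^ 2 := by
  rw [Matrix.det_fin_two] at hdet ⊢
  simp only [Matrix.add_apply, Matrix.smul_apply, Matrix.one_apply_eq,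
    Matrix.one_apply_ne (show (0 : Fin 2) ≠ 1 by decide),
    Matrix.one_apply_ne (show (1 : Fin 2) ≠ 0 by decide), smul_eq_mul, Matrix.trace_fin_two]
  linear_combination b ^ 2 * hdet

theorem m2_lin_unit (A : Matrix (Fin 2) (Fin 2) F) (hdet : A.det = 1)
    (hroot : ∀ x : F, x ^ 2 - A.trace * x + 1 ≠ 0) (a b : F) (hab : a ≠ 0 ∨ b ≠ 0) :
    IsUnit (a • (1 : Matrix (Fin 2) (Fin 2) F) + b • A) := by
  rw [Matrix.isUnit_iff_isUnit_det, m2_det_lin A hdet, isUnit_iff_ne_zero]
  by_cases hb : b = 0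
  · subst hb
    have ha : a ≠ 0 := by
      rcases hab with h | h
      · exact h
      · exact absurd rfl h
    simp [ha]
  · intro h0
    apply hroot (-a / b)
    field_simp
    linear_combination h0

theorem m2_lin_mul_eq_zero (A : Matrix (Fin 2) (Fin 2) F) (hdet : A.det = 1)
    (hroot : ∀ x : F, x ^ 2 - A.trace * x + 1 ≠ 0) (a b : F) (Y : Matrix (Fin 2) (Fin 2) F)
    (h : (a • (1 : Matrix (Fin 2) (Fin 2) F) + b • A) * Y = 0) :
    a • (1 : Matrix (Fin 2) (Fin 2) F) + b • A = 0 ∨ Y = 0 := by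
  by_cases hab : a ≠ 0 ∨ b ≠ 0
  · right
    have hu := m2_lin_unit A hdet hroot a b hab
    exact hu.mul_right_eq_zero.mp h
  · left
    push Not at hab
    rw [hab.1, hab.2, zero_smul, zero_smul, add_zero]

/-- split case with distinct eigenvalues -/
theorem m2_split_pow (A : Matrix (Fin 2) (Fin 2) F) (hdet : A.det = 1) (lam : F)
    (hlam : lam ^ 2 - A.trace * lam + 1 = 0) (hne : lam ^ 2 ≠ 1) (k : ℕ)
    (hk : lam ^ k = lam⁻¹ ^ k) : A ^ k = lam ^ k • (1 : Matrix (Fin 2) (Fin 2) F) := by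
  have hl0 : lam ≠ 0 := by
    intro h
    rw [h] at hlam
    simp at hlam
  have ht : A.trace = lam + lam⁻¹ := by
    field_simp
    linear_combination (-1 : F) * hlam
  have hCH := m2_ch A hdet
  have hδ : lam - lam⁻¹ ≠ 0 := by
    intro h
    apply hne
    field_simp at h
    linear_combination h
  have hE1 : A * (A - lam⁻¹ • (1 : Matrix (Fin 2) (Fin 2) F))
      = lam • (A - lam⁻¹ • (1 : Matrix (Fin 2) (Fin 2) F)) := by
    rw [mul_sub, Matrix.mul_smul, mul_one, hCH, ht, add_smul, smul_sub, smul_smul,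
      mul_inv_cancel₀ hl0, one_smul]
    abel
  have hE2 : A * (lam • (1 : Matrix (Fin 2) (Fin 2) F) - A)
      = lam⁻¹ • (lam • (1 : Matrix (Fin 2) (Fin 2) F) - A) := by
    rw [mul_sub, Matrix.mul_smul, mul_one, hCH, ht, add_smul, smul_sub, smul_smul,
      inv_mul_cancel₀ hl0, one_smul]
    abel
  have hP1 : ∀ n : ℕ, A ^ n * (A - lam⁻¹ • (1 : Matrix (Fin 2) (Fin 2) F))
      = lam ^ n • (A - lam⁻¹ • (1 : Matrix (Fin 2) (Fin 2) F)) := by
    intro n
    induction n with
    | zero => simp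
    | succ n ih => rw [pow_succ, mul_assoc, hE1, Matrix.mul_smul, ih, smul_smul, pow_succ, mul_comm]
  have hP2 : ∀ n : ℕ, A ^ n * (lam • (1 : Matrix (Fin 2) (Fin 2) F) - A)
      = lam⁻¹ ^ n • (lam • (1 : Matrix (Fin 2) (Fin 2) F) - A) := by
    intro n
    induction n with
    | zero => simp
    | succ n ih => rw [pow_succ, mul_assoc, hE2, Matrix.mul_smul, ih, smul_smul, pow_succ, mul_comm]
  have hsum : (A - lam⁻¹ • (1 : Matrix (Fin 2) (Fin 2) F))
      + (lam • (1 : Matrix (Fin 2) (Fin 2) F) - A)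
      = (lam - lam⁻¹) • (1 : Matrix (Fin 2) (Fin 2) F) := by
    rw [sub_smul]
    abel
  have h1 : (lam - lam⁻¹) • A ^ k = (lam - lam⁻¹) • (lam ^ k • (1 : Matrix (Fin 2) (Fin 2) F)) := by
    calc (lam - lam⁻¹) • A ^ k = A ^ k * ((lam - lam⁻¹) • (1 : Matrix (Fin 2) (Fin 2) F)) := by
          rw [Matrix.mul_smul, mul_one]
      _ = A ^ k * (A - lam⁻¹ • (1 : Matrix (Fin 2) (Fin 2) F))
          + A ^ k * (lam • (1 : Matrix (Fin 2) (Fin 2) F) - A) := by
          rw [← hsum, mul_add]
      _ = lam ^ k • ((A - lam⁻¹ • (1 : Matrix (Fin 2) (Fin 2) F))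
          + (lam • (1 : Matrix (Fin 2) (Fin 2) F) - A)) := by
          rw [hP1, hP2, ← hk, smul_add]
      _ = (lam - lam⁻¹) • (lam ^ k • (1 : Matrix (Fin 2) (Fin 2) F)) := by
          rw [hsum, smul_smul, smul_smul, mul_comm]
  exact smul_right_injective _ hδ h1

/-- split case with a repeated eigenvalue -/
theorem m2_unip_pow (p : ℕ) [Fact p.Prime] [CharP F p] (A : Matrix (Fin 2) (Fin 2) F)
    (hdet : A.det = 1) (lam : F) (hlam : lam ^ 2 - A.trace * lam + 1 = 0) (h1 : lam ^ 2 = 1) :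
    A ^ p = lam ^ p • (1 : Matrix (Fin 2) (Fin 2) F) := by
  have hp : p.Prime := Fact.out
  have hl0 : lam ≠ 0 := by
    intro h
    rw [h] at h1
    simp at h1
  have ht : A.trace = lam + lam := by
    have h2 : (A.trace - (lam + lam)) * lam = 0 := by linear_combination (-1 : F) * hlam - h1
    rcases mul_eq_zero.mp h2 with h | h
    · exact sub_eq_zero.mp h
    · exact absurd h hl0
  have hCH := m2_ch A hdet
  have hM : (A - lam • (1 : Matrix (Fin 2) (Fin 2) F)) ^ 2 = 0 := by
    simp only [pow_two, sub_mul, mul_sub, Matrix.mul_smul, Matrix.smul_mul, one_mul, mul_one,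
      smul_smul]
    rw [hCH, ht, add_smul, ← pow_two, h1, one_smul]
    abel
  have hcomm : Commute (lam • (1 : Matrix (Fin 2) (Fin 2) F))
      (A - lam • (1 : Matrix (Fin 2) (Fin 2) F)) := by
    rw [Commute, SemiconjBy, Matrix.smul_mul, Matrix.mul_smul, one_mul, mul_one]
  have hA : A = lam • (1 : Matrix (Fin 2) (Fin 2) F)
      + (A - lam • (1 : Matrix (Fin 2) (Fin 2) F)) := by abel
  conv_lhs => rw [hA]
  rw [add_pow_char_of_commute p hcomm, pow_eq_zero_of_le hp.two_le hM, add_zero, _root_.smul_pow,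
    one_pow]

end

section
variable {F : Type uQ} [Field F] [Fintype F]

theorem ff_prod_list :
    ((Finset.univ : Finset F).toList.map (fun a => (X - C a : F[X]))).prod
      = X ^ Fintype.card F - X := by
  classical
  have hq : 1 < Fintype.card F := Fintype.one_lt_card
  have hmonic : (X ^ Fintype.card F - X : F[X]).Monic :=
    monic_X_pow_sub (by rw [degree_X]; exact_mod_cast hq)
  have hroots := FiniteField.roots_X_pow_card_sub_X F
  have h1 := prod_multiset_X_sub_C_of_monic_of_roots_card_eq hmonic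
    (by rw [hroots, FiniteField.X_pow_card_sub_X_natDegree_eq F hq]; simp)
  rw [hroots, ← Finset.coe_toList, Multiset.map_coe, Multiset.prod_coe] at h1
  exact h1

/-- no-root case: `A ^ (q + 1) = 1` -/
theorem m2_pow_card_succ (p : ℕ) [Fact p.Prime] [CharP F p] (A : Matrix (Fin 2) (Fin 2) F)
    (hdet : A.det = 1) (hroot : ∀ x : F, x ^ 2 - A.trace * x + 1 ≠ 0) :
    A ^ (Fintype.card F + 1) = 1 := by
  classical
  obtain ⟨f, -, hf⟩ := FiniteField.card F p
  have hCH := m2_ch A hdet
  obtain ⟨B, hB⟩ : ∃ B, B = A ^ Fintype.card F := ⟨_, rfl⟩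
  have hcomm : Commute B A := by
    rw [hB]; exact (Commute.refl A).pow_left _
  obtain ⟨c, hc⟩ := smul_pow_mem_range A (1 : F) (Fintype.card F)
  rw [one_smul, Fin.sum_univ_two] at hc
  simp only [Fin.val_zero, Fin.val_one, pow_zero, pow_one] at hc
  have hB2 : B * B = A.trace • B - 1 := by
    have h1 : B * B = (A * A) ^ Fintype.card F := by
      rw [hB, (Commute.refl A).mul_pow]
    rw [h1, hCH, hf, sub_pow_char_pow_of_commute p (f : ℕ) (Commute.one_right _), one_pow,
      _root_.smul_pow, ← hf, FiniteField.pow_card, hB]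
  have hprod : (B - A) * (B - (A.trace • (1 : Matrix (Fin 2) (Fin 2) F) - A)) = 0 := by
    have e : (B - A) * (B - (A.trace • (1 : Matrix (Fin 2) (Fin 2) F) - A))
        = B * B - A.trace • B + (A.trace • A - A * A) + (B * A - A * B) := by
      simp only [mul_sub, sub_mul, Matrix.mul_smul, mul_one]
      abel
    rw [e, hB2, hCH, hcomm.eq]
    abel
  have hBlin : B - A = (c 0) • (1 : Matrix (Fin 2) (Fin 2) F) + (c 1 - 1) • A := by
    rw [hB, hc, sub_smul, one_smul]
    abel
  rw [hBlin] at hprod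
  rcases m2_lin_mul_eq_zero A hdet hroot _ _ _ hprod with h | h
  · exfalso
    rw [← hBlin] at h
    have hBA : A ^ Fintype.card F = A := by
      rw [← hB]; exact sub_eq_zero.mp h
    have h1 : aeval A (((Finset.univ : Finset F).toList.map
        (fun a => (X - C a : F[X]))).prod) = 0 := by
      rw [ff_prod_list, map_sub, map_pow, aeval_X, hBA, sub_self]
    rw [map_list_prod, List.map_map] at h1
    have hunit : IsUnit (((Finset.univ : Finset F).toList.map
        ((aeval A) ∘ (fun a => (X - C a : F[X])))).prod) := by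
      apply List.prod_isUnit
      intro M hM
      rw [List.mem_map] at hM
      obtain ⟨x, _, rfl⟩ := hM
      show IsUnit (aeval A (X - C x))
      rw [map_sub, aeval_X, aeval_C, Algebra.algebraMap_eq_smul_one]
      have h3 := m2_lin_unit A hdet hroot (-x) 1 (Or.inr one_ne_zero)
      rw [neg_smul, one_smul, neg_add_eq_sub] at h3
      exact h3
    rw [h1] at hunit
    exact not_isUnit_zero hunit
  · rw [pow_succ, ← hB, sub_eq_zero.mp h, sub_mul, Matrix.smul_mul, one_mul, hCH]
    abel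

/-- no-root case, half power -/
theorem m2_pow_half (A : Matrix (Fin 2) (Fin 2) F)
    (hdet : A.det = 1) (hroot : ∀ x : F, x ^ 2 - A.trace * x + 1 ≠ 0) (n : ℕ)
    (hn : A ^ (n + n) = 1) : ∃ r : F, A ^ n = r • (1 : Matrix (Fin 2) (Fin 2) F) := by
  classical
  obtain ⟨c, hc⟩ := smul_pow_mem_range A (1 : F) n
  rw [one_smul, Fin.sum_univ_two] at hc
  simp only [Fin.val_zero, Fin.val_one, pow_zero, pow_one] at hc
  have hprod : (A ^ n - 1) * (A ^ n + 1) = 0 := by
    rw [sub_mul, mul_add, mul_one, one_mul, ← pow_add, hn]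
    abel
  have hlin : A ^ n - 1 = (c 0 - 1) • (1 : Matrix (Fin 2) (Fin 2) F) + (c 1) • A := by
    rw [hc, sub_smul, one_smul]
    abel
  rw [hlin] at hprod
  rcases m2_lin_mul_eq_zero A hdet hroot _ _ _ hprod with h | h
  · rw [← hlin] at h
    exact ⟨1, by rw [one_smul]; exact sub_eq_zero.mp h⟩
  · exact ⟨-1, by rw [neg_smul, one_smul]; exact eq_neg_of_add_eq_zero_left h⟩

end

end Cfsg.Agent.Helper5
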