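import Mathlib
import Cfsg.Agent.Helper5.PslOrd1

namespace Cfsg.Agent.Helper5

open Polynomial Matrix

universe uQ

section
variable {F : Type uQ} [Field F]

theorem psl2_pow_eq_one_of_scalar (g : Matrix.SpecialLinearGroup (Fin 2) F) (k : ℕ) (r : F)
    (h : (g : Matrix (Fin 2) (Fin 2) F) ^ k = r • (1 : Matrix (Fin 2) (Fin 2) F)) :
    (QuotientGroup.mk g : Matrix.ProjectiveSpecialLinearGroup (Fin 2) F) ^ k = 1 := by
  rw [← QuotientGroup.mk_pow, QuotientGroup.eq_one_iff,
    Matrix.SpecialLinearGroup.mem_center_iff]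
  refine ⟨r, ?_, ?_⟩
  · have h1 := congrArg Matrix.det h
    rw [Matrix.det_pow, g.det_coe, one_pow, Matrix.det_smul, Matrix.det_one, mul_one] at h1
    exact h1.symm
  · rw [Matrix.SpecialLinearGroup.coe_pow, h, Matrix.scalar_apply, Matrix.smul_one_eq_diagonal]

theorem psl2_scalar_of_pow_eq_one (g : Matrix.SpecialLinearGroup (Fin 2) F) (k : ℕ)
    (h : (QuotientGroup.mk g : Matrix.ProjectiveSpecialLinearGroup (Fin 2) F) ^ k = 1) :
    ∃ r : F, r ^ 2 = 1 ∧
      (g : Matrix (Fin 2) (Fin 2) F) ^ k = r • (1 : Matrix (Fin 2) (Fin 2) F) := by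
  rw [← QuotientGroup.mk_pow, QuotientGroup.eq_one_iff,
    Matrix.SpecialLinearGroup.mem_center_iff] at h
  obtain ⟨r, hr1, hr2⟩ := h
  refine ⟨r, ?_, ?_⟩
  · rw [Fintype.card_fin] at hr1
    exact hr1
  · rw [← Matrix.SpecialLinearGroup.coe_pow, ← hr2, Matrix.scalar_apply,
      Matrix.smul_one_eq_diagonal]

theorem psl2_mk_pow_iff_even (h2 : (2 : F) = 0) (x : Matrix.SpecialLinearGroup (Fin 2) F)
    (k : ℕ) :
    (QuotientGroup.mk x : Matrix.ProjectiveSpecialLinearGroup (Fin 2) F) ^ k = 1 ↔ x ^ k = 1 := by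
  constructor
  · intro h
    obtain ⟨r, hr1, hr2⟩ := psl2_scalar_of_pow_eq_one x k h
    have hr : r = 1 := by
      have h3 : (r - 1) ^ 2 = 0 := by linear_combination hr1 - r * h2 + h2
      exact sub_eq_zero.mp ((pow_eq_zero_iff (two_ne_zero)).mp h3)
    apply Subtype.ext
    rw [Matrix.SpecialLinearGroup.coe_pow, hr2, hr, one_smul]
    rfl
  · intro h
    rw [← QuotientGroup.mk_pow, h]
    rfl

theorem psl2_mk_pow_iff_odd (h2 : (2 : F) ≠ 0) (x : Matrix.SpecialLinearGroup (Fin 2) F)
    (k : ℕ) :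
    (QuotientGroup.mk x : Matrix.ProjectiveSpecialLinearGroup (Fin 2) F) ^ k = 1
      ↔ x ^ (2 * k) = 1 := by
  constructor
  · intro h
    obtain ⟨r, hr1, hr2⟩ := psl2_scalar_of_pow_eq_one x k h
    apply Subtype.ext
    rw [Matrix.SpecialLinearGroup.coe_pow, mul_comm, pow_mul, hr2, _root_.smul_pow, one_pow,
      hr1, one_smul]
    rfl
  · intro h
    obtain ⟨C, hC⟩ : ∃ C : Matrix (Fin 2) (Fin 2) F,
        C = (x : Matrix (Fin 2) (Fin 2) F) ^ k := ⟨_, rfl⟩
    have hCdet : C.det = 1 := by rw [hC, Matrix.det_pow, x.det_coe, one_pow]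
    have hCC : C * C = 1 := by
      rw [hC, ← pow_add, ← two_mul, ← Matrix.SpecialLinearGroup.coe_pow, h]
      rfl
    have hCH := m2_ch C hCdet
    rw [hCC] at hCH
    have htr : C.trace ≠ 0 := by
      intro h0
      rw [h0, zero_smul, zero_sub] at hCH
      have h3 := congrFun (congrFun hCH 0) 0
      rw [Matrix.neg_apply, Matrix.one_apply_eq] at h3
      apply h2
      linear_combination h3
    have hsc : C = (C.trace⁻¹ * 2) • (1 : Matrix (Fin 2) (Fin 2) F) := by
      have h4 : C.trace • C = (2 : F) • (1 : Matrix (Fin 2) (Fin 2) F) := by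
        rw [two_smul]
        rw [eq_sub_iff_add_eq] at hCH
        exact hCH.symm
      rw [mul_smul, ← h4, smul_smul, inv_mul_cancel₀ htr, one_smul]
    rw [hC] at hsc
    exact psl2_pow_eq_one_of_scalar x k _ hsc

theorem psl2_order_even (h2 : (2 : F) = 0) (x : Matrix.SpecialLinearGroup (Fin 2) F) :
    orderOf (QuotientGroup.mk x : Matrix.ProjectiveSpecialLinearGroup (Fin 2) F)
      = orderOf x := by
  rw [orderOf_eq_orderOf_iff]
  intro n
  exact psl2_mk_pow_iff_even h2 x n

theorem psl2_order_odd (h2 : (2 : F) ≠ 0) (x : Matrix.SpecialLinearGroup (Fin 2) F) (N : ℕ)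
    (hN : orderOf x = 2 * N) (hNpos : 0 < N) :
    orderOf (QuotientGroup.mk x : Matrix.ProjectiveSpecialLinearGroup (Fin 2) F) = N := by
  rw [orderOf_eq_iff hNpos]
  constructor
  · rw [psl2_mk_pow_iff_odd h2, ← hN]
    exact pow_orderOf_eq_one x
  · intro m hm hmpos h
    rw [psl2_mk_pow_iff_odd h2] at h
    have h3 := orderOf_dvd_of_pow_eq_one h
    rw [hN] at h3
    have h4 := Nat.le_of_dvd (by omega) h3
    omega

theorem psl2_exists_order_p (p : ℕ) [Fact p.Prime] [CharP F p] :
    ∃ y : Matrix.ProjectiveSpecialLinearGroup (Fin 2) F, orderOf y = p := by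
  obtain ⟨u, hu⟩ : ∃ u : Matrix.SpecialLinearGroup (Fin 2) F,
      (u : Matrix (Fin 2) (Fin 2) F) = !![1, 1; 0, 1] :=
    ⟨⟨!![1, 1; 0, 1], by simp [Matrix.det_fin_two]⟩, rfl⟩
  refine ⟨QuotientGroup.mk u, orderOf_eq_prime ?_ ?_⟩
  · apply psl2_pow_eq_one_of_scalar u p ((1 : F) ^ p)
    apply m2_unip_pow p _ u.det_coe 1
    · rw [hu, Matrix.trace_fin_two_of]
      ring
    · ring
  · intro h
    obtain ⟨r, _, hr⟩ := psl2_scalar_of_pow_eq_one u 1 (by rw [pow_one]; exact h)
    rw [pow_one, hu] at hr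
    have h3 := congrFun (congrFun hr 0) 1
    simp at h3

end

section
variable {F : Type uQ} [Field F] [Fintype F]

theorem gl_singer_exists (d : ℕ) (hd : 1 ≤ d) :
    ∃ s : GL (Fin d) F, orderOf s = Fintype.card F ^ d - 1 := by
  classical
  obtain ⟨p, hp⟩ := CharP.exists F
  haveI : CharP F p := hp
  haveI : Fact p.Prime := ⟨CharP.char_is_prime F p⟩
  haveI : NeZero d := ⟨by omega⟩
  obtain ⟨b⟩ : Nonempty (Module.Basis (Fin d) F (FiniteField.Extension F p d)) :=
    ⟨Module.finBasisOfFinrankEq F _ (FiniteField.finrank_extension F p d)⟩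
  obtain ⟨ζ, hζ⟩ := IsCyclic.exists_generator (α := (FiniteField.Extension F p d)ˣ)
  have hζord : orderOf ζ = Fintype.card F ^ d - 1 := by
    rw [orderOf_eq_card_of_forall_mem_zpowers hζ, Nat.card_units,
      FiniteField.natCard_extension, Nat.card_eq_fintype_card]
  obtain ⟨μ, hμ⟩ : ∃ μ : (FiniteField.Extension F p d)ˣ →* GL (Fin d) F,
      Function.Injective μ := by
    refine ⟨Units.map ((LinearMap.toMatrixAlgEquiv b :
      Module.End F (FiniteField.Extension F p d) →* Matrix (Fin d) (Fin d) F).comp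
      (Algebra.lmul F (FiniteField.Extension F p d) :
        FiniteField.Extension F p d →* Module.End F (FiniteField.Extension F p d))), ?_⟩
    apply Units.map_injective
    intro x y hxy
    have h1 : Algebra.lmul F (FiniteField.Extension F p d) x
        = Algebra.lmul F (FiniteField.Extension F p d) y :=
      (LinearMap.toMatrixAlgEquiv b).injective hxy
    have h2 : x * 1 = y * 1 :=
      congrArg (fun T : Module.End F (FiniteField.Extension F p d) => T 1) h1
    rw [mul_one, mul_one] at h2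
    exact h2
  exact ⟨μ ζ, by rw [orderOf_injective μ hμ, hζord]⟩

theorem sl2_exists_order_sub :
    ∃ x : Matrix.SpecialLinearGroup (Fin 2) F, orderOf x = Fintype.card F - 1 := by
  classical
  obtain ⟨ζ, hζ⟩ := IsCyclic.exists_generator (α := Fˣ)
  have hζord : orderOf ζ = Fintype.card F - 1 := by
    rw [orderOf_eq_card_of_forall_mem_zpowers hζ, Nat.card_units, Nat.card_eq_fintype_card]
  obtain ⟨x, hx⟩ : ∃ x : Matrix.SpecialLinearGroup (Fin 2) F,
      (x : Matrix (Fin 2) (Fin 2) F) = Matrix.diagonal ![(ζ : F), (ζ : F)⁻¹] :=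
    ⟨⟨Matrix.diagonal ![(ζ : F), (ζ : F)⁻¹], by
      rw [Matrix.det_diagonal, Fin.prod_univ_two]; simp⟩, rfl⟩
  refine ⟨x, ?_⟩
  rw [← hζord, orderOf_eq_orderOf_iff]
  intro n
  have hxn : ((x ^ n : Matrix.SpecialLinearGroup (Fin 2) F) : Matrix (Fin 2) (Fin 2) F)
      = Matrix.diagonal ![(ζ : F) ^ n, ((ζ : F)⁻¹) ^ n] := by
    rw [Matrix.SpecialLinearGroup.coe_pow, hx, Matrix.diagonal_pow]
    congr 1
    funext i
    fin_cases i <;> rfl
  constructor
  · intro h
    have h1 : ((x ^ n : Matrix.SpecialLinearGroup (Fin 2) F) : Matrix (Fin 2) (Fin 2) F) 0 0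
        = 1 := by
      rw [h]; rfl
    rw [hxn] at h1
    apply Units.ext
    rw [Units.val_pow_eq_pow_val]
    simpa using h1
  · intro h
    have h0 : (ζ : F) ^ n = 1 := by
      rw [← Units.val_pow_eq_pow_val, h]; rfl
    apply Subtype.ext
    rw [hxn, h0, inv_pow, h0, inv_one]
    ext i j
    fin_cases i <;> fin_cases j <;> simp

theorem sl2_exists_order_add :
    ∃ x : Matrix.SpecialLinearGroup (Fin 2) F, orderOf x = Fintype.card F + 1 := by
  classical
  obtain ⟨s, hs⟩ := gl_singer_exists (F := F) 2 (by norm_num)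
  have hq : 1 < Fintype.card F := Fintype.one_lt_card
  obtain ⟨x, hx⟩ : ∃ x : Matrix.SpecialLinearGroup (Fin 2) F,
      (x : Matrix (Fin 2) (Fin 2) F)
        = ((s ^ (Fintype.card F - 1) : GL (Fin 2) F) : Matrix (Fin 2) (Fin 2) F) := by
    refine ⟨⟨((s ^ (Fintype.card F - 1) : GL (Fin 2) F) : Matrix (Fin 2) (Fin 2) F), ?_⟩, rfl⟩
    rw [Units.val_pow_eq_pow_val, Matrix.det_pow]
    apply FiniteField.pow_card_sub_one_eq_one
    exact ((Matrix.isUnit_iff_isUnit_det _).mp s.isUnit).ne_zero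
  refine ⟨x, ?_⟩
  have h1 : orderOf x = orderOf (s ^ (Fintype.card F - 1)) := by
    rw [orderOf_eq_orderOf_iff]
    intro n
    constructor
    · intro h
      apply Units.ext
      rw [Units.val_pow_eq_pow_val, ← hx, ← Matrix.SpecialLinearGroup.coe_pow, h]
      rfl
    · intro h
      apply Subtype.ext
      rw [Matrix.SpecialLinearGroup.coe_pow, hx, ← Units.val_pow_eq_pow_val, h]
      rfl
  have hfac : Fintype.card F ^ 2 - 1 = (Fintype.card F - 1) * (Fintype.card F + 1) := by
    obtain ⟨k, hk⟩ : ∃ k, Fintype.card F = k + 1 := ⟨Fintype.card F - 1, by omega⟩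
    rw [hk]
    simp only [Nat.add_sub_cancel]
    have h5 : (k + 1) ^ 2 = k * (k + 1 + 1) + 1 := by ring
    omega
  rw [h1, orderOf_pow_of_dvd (by omega) (by rw [hs, hfac]; exact dvd_mul_right _ _), hs, hfac,
    Nat.mul_div_cancel_left _ (by omega)]

theorem psl2_order_mem (p : ℕ) [Fact p.Prime] [CharP F p]
    (y : Matrix.ProjectiveSpecialLinearGroup (Fin 2) F) :
    orderOf y ∣ p ∨ orderOf y ∣ (Fintype.card F - 1) / Nat.gcd 2 (Fintype.card F - 1)
      ∨ orderOf y ∣ (Fintype.card F + 1) / Nat.gcd 2 (Fintype.card F - 1) := by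
  classical
  obtain ⟨g, rfl⟩ := QuotientGroup.mk_surjective y
  have hq : 1 < Fintype.card F := Fintype.one_lt_card
  have hg2 : Nat.gcd 2 (Fintype.card F - 1) = 1 ∨ Nat.gcd 2 (Fintype.card F - 1) = 2 :=
    (Nat.dvd_prime Nat.prime_two).mp (Nat.gcd_dvd_left 2 _)
  by_cases hroot : ∃ lam : F, lam ^ 2 - (g : Matrix (Fin 2) (Fin 2) F).trace * lam + 1 = 0
  · obtain ⟨lam, hlam⟩ := hroot
    have hl0 : lam ≠ 0 := by
      intro h
      rw [h] at hlam
      simp at hlam
    by_cases h1 : lam ^ 2 = 1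
    · left
      apply orderOf_dvd_of_pow_eq_one
      exact psl2_pow_eq_one_of_scalar g p _ (m2_unip_pow p _ g.det_coe lam hlam h1)
    · right; left
      apply orderOf_dvd_of_pow_eq_one
      obtain ⟨n, hn⟩ : ∃ n, n = (Fintype.card F - 1) / Nat.gcd 2 (Fintype.card F - 1) :=
        ⟨_, rfl⟩
      rw [← hn]
      have hdiv : (Fintype.card F - 1) ∣ 2 * n := by
        rcases hg2 with h | h
        · rw [hn, h, Nat.div_one]
          exact dvd_mul_left _ _
        · have h3 : 2 ∣ Fintype.card F - 1 := by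
            rw [← h]; exact Nat.gcd_dvd_right _ _
          rw [hn, h, Nat.mul_div_cancel' h3]
      have hl2n : lam ^ (2 * n) = 1 := by
        obtain ⟨e, he⟩ := hdiv
        rw [he, pow_mul, FiniteField.pow_card_sub_one_eq_one lam hl0, one_pow]
      have hk : lam ^ n = lam⁻¹ ^ n := by
        rw [inv_pow]
        apply eq_inv_of_mul_eq_one_left
        rw [← pow_add, ← two_mul]
        exact hl2n
      exact psl2_pow_eq_one_of_scalar g n _ (m2_split_pow _ g.det_coe lam hlam h1 n hk)
  · push Not at hroot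
    right; right
    apply orderOf_dvd_of_pow_eq_one
    have hpow := m2_pow_card_succ p _ g.det_coe hroot
    rcases hg2 with h | h
    · rw [h, Nat.div_one]
      exact psl2_pow_eq_one_of_scalar g _ 1 (by rw [hpow, one_smul])
    · have h3 : 2 ∣ Fintype.card F - 1 := by
        rw [← h]; exact Nat.gcd_dvd_right _ _
      obtain ⟨n, hn⟩ : ∃ n, Fintype.card F + 1 = n + n := by
        obtain ⟨e, he⟩ := h3
        exact ⟨e + 1, by omega⟩
      have hn2 : (Fintype.card F + 1) / 2 = n := by omega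
      rw [h, hn2]
      rw [hn] at hpow
      obtain ⟨r, hr⟩ := m2_pow_half _ g.det_coe hroot n hpow
      exact psl2_pow_eq_one_of_scalar g n r hr

theorem psl2_orders (p : ℕ) [Fact p.Prime] [CharP F p] (h4 : 4 ≤ Fintype.card F) :
    Set.range (orderOf : Matrix.ProjectiveSpecialLinearGroup (Fin 2) F → ℕ) =
      {m : ℕ | m ∣ p ∨ m ∣ (Fintype.card F - 1) / Nat.gcd 2 (Fintype.card F - 1) ∨
        m ∣ (Fintype.card F + 1) / Nat.gcd 2 (Fintype.card F - 1)} := by
  classical
  have hp : p.Prime := Fact.out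
  ext m
  constructor
  · rintro ⟨y, rfl⟩
    exact psl2_order_mem p y
  · intro hm
    have key : ∀ N, 0 < N →
        (∃ y : Matrix.ProjectiveSpecialLinearGroup (Fin 2) F, orderOf y = N) → m ∣ N →
        ∃ z : Matrix.ProjectiveSpecialLinearGroup (Fin 2) F, orderOf z = m := by
      intro N hN hy hmN
      obtain ⟨y, hy⟩ := hy
      obtain ⟨e, he⟩ := hmN
      have he0 : e ≠ 0 := by
        rintro rfl
        omega
      refine ⟨y ^ e, ?_⟩
      rw [orderOf_pow_of_dvd he0 (by rw [hy, he]; exact dvd_mul_left e m), hy, he,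
        Nat.mul_div_cancel _ (Nat.pos_of_ne_zero he0)]
    obtain ⟨f, -, hf⟩ := FiniteField.card F p
    obtain ⟨x1, hx1⟩ := sl2_exists_order_sub (F := F)
    obtain ⟨x2, hx2⟩ := sl2_exists_order_add (F := F)
    have hrest : (∃ y : Matrix.ProjectiveSpecialLinearGroup (Fin 2) F,
          orderOf y = (Fintype.card F - 1) / Nat.gcd 2 (Fintype.card F - 1)) ∧
        (∃ y : Matrix.ProjectiveSpecialLinearGroup (Fin 2) F,
          orderOf y = (Fintype.card F + 1) / Nat.gcd 2 (Fintype.card F - 1)) ∧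
        0 < (Fintype.card F - 1) / Nat.gcd 2 (Fintype.card F - 1) ∧
        0 < (Fintype.card F + 1) / Nat.gcd 2 (Fintype.card F - 1) := by
      by_cases h2 : (2 : F) = 0
      · have hp2 : p = 2 := by
          have h5 : ((2 : ℕ) : F) = 0 := by exact_mod_cast h2
          have h6 := (CharP.cast_eq_zero_iff F p 2).mp h5
          exact (Nat.prime_dvd_prime_iff_eq hp Nat.prime_two).mp h6
        have heven : 2 ∣ Fintype.card F := by
          rw [hf, hp2]
          exact dvd_pow_self 2 f.ne_zero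
        have hg : Nat.gcd 2 (Fintype.card F - 1) = 1 := by
          rcases (Nat.dvd_prime Nat.prime_two).mp
            (Nat.gcd_dvd_left 2 (Fintype.card F - 1)) with h | h
          · exact h
          · exfalso
            have h3 : 2 ∣ Fintype.card F - 1 := by
              rw [← h]; exact Nat.gcd_dvd_right _ _
            omega
        rw [hg, Nat.div_one, Nat.div_one]
        exact ⟨⟨QuotientGroup.mk x1, by rw [psl2_order_even h2, hx1]⟩,
          ⟨QuotientGroup.mk x2, by rw [psl2_order_even h2, hx2]⟩, by omega, by omega⟩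
      · have hp2 : p ≠ 2 := by
          intro h
          apply h2
          have h5 := CharP.cast_eq_zero F p
          rw [h] at h5
          exact_mod_cast h5
        have hodd : Odd (Fintype.card F) := by
          rw [hf]
          exact (hp.eq_two_or_odd'.resolve_left hp2).pow
        obtain ⟨e, he⟩ := hodd
        have hg : Nat.gcd 2 (Fintype.card F - 1) = 2 := by
          apply Nat.gcd_eq_left
          exact ⟨e, by omega⟩
        have e1 : (Fintype.card F - 1) / 2 = e := by omega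
        have e2 : (Fintype.card F + 1) / 2 = e + 1 := by omega
        rw [hg, e1, e2]
        exact ⟨⟨QuotientGroup.mk x1, psl2_order_odd h2 x1 e (by rw [hx1]; omega) (by omega)⟩,
          ⟨QuotientGroup.mk x2, psl2_order_odd h2 x2 (e + 1) (by rw [hx2]; omega) (by omega)⟩,
          by omega, by omega⟩
    obtain ⟨hy1, hy2, hpos1, hpos2⟩ := hrest
    rcases hm with h | h | h
    · exact key p hp.pos (psl2_exists_order_p p) h
    · exact key _ hpos1 hy1 h
    · exact key _ hpos2 hy2 h

end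

end Cfsg.Agent.Helper5
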