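import Mathlib
import Cfsg.Prelude.Def_LocalStructure
import Cfsg.Agent.Helper5.Basic
import Cfsg.Agent.Helper5.Coprime2
import Cfsg.Agent.Helper5.PIrr
import Cfsg.Agent.Helper5.PIrr3
import Cfsg.Agent.Helper3.CoprimeSylow

set_option autoImplicit false

namespace Cfsg.Agent.Helper5

open scoped commutatorElement Pointwise

/-- every subgroup of a finite nilpotent group is subnormal. -/
theorem isSubnormal_of_isNilpotent {G : Type*} [Group G] [Finite G] [Group.IsNilpotent G]
    (H : Subgroup G) : H.IsSubnormal := by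
  refine WellFoundedGT.induction (motive := fun H : Subgroup G => H.IsSubnormal) H ?_
  intro H ih
  by_cases hH : H = ⊤
  · rw [hH]; exact Subgroup.IsSubnormal.top
  · have hlt : H < ⊤ := lt_top_iff_ne_top.2 hH
    have h1 : H < Subgroup.normalizer (H : Set G) := Group.normalizerCondition_of_isNilpotent H hlt
    exact Subgroup.IsSubnormal.step H _ h1.le (ih _ h1) Subgroup.normal_in_normalizer

theorem isSubnormal_sInf {G : Type*} [Group G] [Finite G] (s : Set (Subgroup G))
    (hs : ∀ K ∈ s, K.IsSubnormal) : (sInf s).IsSubnormal := by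
  refine Set.Finite.induction_on (motive := fun s _ => (∀ K ∈ s, K.IsSubnormal) →
    (sInf s).IsSubnormal) s (Set.toFinite s) ?_ ?_ hs
  · intro _
    rw [sInf_empty]; exact Subgroup.IsSubnormal.top
  · intro a t _ _ ih h
    rw [sInf_insert]
    exact (h _ (Set.mem_insert _ _)).inf (ih (fun K hK => h K (Set.mem_insert_of_mem _ hK)))

theorem subnormalClosure_isSubnormal {H : Type*} [Group H] [Finite H] (A : Subgroup H) :
    (Cfsg.subnormalClosure A).IsSubnormal :=
  isSubnormal_sInf _ (fun _ hK => hK.2)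

theorem le_subnormalClosure {H : Type*} [Group H] (A : Subgroup H) :
    A ≤ Cfsg.subnormalClosure A :=
  le_sInf (fun _ hK => hK.1)

theorem subnormalClosure_le {H : Type*} [Group H] (A M : Subgroup H) (hAM : A ≤ M)
    (hM : M.IsSubnormal) : Cfsg.subnormalClosure A ≤ M :=
  sInf_le ⟨hAM, hM⟩

theorem eq_top_of_isSubnormal_of_le {H : Type*} [Group H] [Finite H] (A : Subgroup H)
    (M' : Subgroup ↥(Cfsg.subnormalClosure A)) (hM : M'.IsSubnormal)
    (hA : A.subgroupOf (Cfsg.subnormalClosure A) ≤ M') : M' = ⊤ := by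
  have h1 : (M'.map (Cfsg.subnormalClosure A).subtype).IsSubnormal :=
    hM.trans' (subnormalClosure_isSubnormal A)
  have h2 : A ≤ M'.map (Cfsg.subnormalClosure A).subtype := by
    intro a ha
    exact ⟨⟨a, le_subnormalClosure A ha⟩, hA (Subgroup.mem_subgroupOf.2 ha), rfl⟩
  have h3 : Cfsg.subnormalClosure A ≤ M'.map (Cfsg.subnormalClosure A).subtype :=
    subnormalClosure_le A _ h2 h1
  rw [eq_top_iff]
  intro x _
  obtain ⟨y, hy, hyx⟩ := h3 x.2
  have h4 : y = x := Subtype.ext hyx
  rw [← h4]; exact hy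

theorem residual_sup_eq_top {G : Type*} [Group G] [Finite G] {p : ℕ} [Fact p.Prime]
    (A : Subgroup G) (hA : ∀ M : Subgroup G, M.IsSubnormal → A ≤ M → M = ⊤) :
    A ⊔ Cfsg.pResidual p G = ⊤ := by
  haveI hRn : (Cfsg.pResidual p G).Normal := pResidual_normal' p
  apply hA _ ?_ le_sup_left
  have hq : IsPGroup p (G ⧸ Cfsg.pResidual p G) := isPGroup_quotient_pResidual _ le_rfl
  haveI : Group.IsNilpotent (G ⧸ Cfsg.pResidual p G) := hq.isNilpotent
  have h1 := (isSubnormal_of_isNilpotent ((A ⊔ Cfsg.pResidual p G).map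
    (QuotientGroup.mk' (Cfsg.pResidual p G)))).comap (QuotientGroup.mk' (Cfsg.pResidual p G))
  rwa [Subgroup.comap_map_eq_self] at h1
  rw [QuotientGroup.ker_mk']; exact le_sup_right

theorem residual_commutator_eq {G : Type*} [Group G] [Finite G] {p : ℕ} [Fact p.Prime]
    (A : Subgroup G) (hA : ∀ M : Subgroup G, M.IsSubnormal → A ≤ M → M = ⊤)
    (hAp : IsPGroup p A) :
    ⁅Cfsg.pResidual p G, A⁆ = Cfsg.pResidual p G := by
  haveI hRn : (Cfsg.pResidual p G).Normal := pResidual_normal' p
  set R := Cfsg.pResidual p G with hR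
  have htop : A ⊔ R = ⊤ := residual_sup_eq_top A hA
  have hRD : R ≤ Subgroup.normalizer ((⁅R, A⁆ : Subgroup G) : Set G) :=
    le_normalizer_commutator_self_left R A
  have hAD : A ≤ Subgroup.normalizer ((⁅R, A⁆ : Subgroup G) : Set G) := by
    rw [Subgroup.commutator_comm]
    exact le_normalizer_commutator_self_left A R
  haveI hDn : (⁅R, A⁆ : Subgroup G).Normal := by
    rw [← Subgroup.normalizer_eq_top_iff, eq_top_iff, ← htop]
    exact sup_le hAD hRD
  have hDA : (⁅R, A⁆ ⊔ A : Subgroup G).Normal := by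
    rw [← Subgroup.normalizer_eq_top_iff, eq_top_iff, ← htop]
    apply sup_le
    · exact Helper3.le_normalizer_sup_of_le A _ A hAD Subgroup.le_normalizer
    · intro r hr
      apply mem_normalizer_of_conj_le
      rw [Subgroup.map_sup]
      apply sup_le
      · exact ((mem_normalizer_iff_conj_eq _ r).1 (hRD hr)).le.trans le_sup_left
      · rintro _ ⟨a, ha, rfl⟩
        have h1 : ⁅r, a⁆ ∈ ⁅R, A⁆ := Subgroup.commutator_mem_commutator hr ha
        have e : (MulAut.conj r).toMonoidHom a = ⁅r, a⁆ * a := by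
          show r * a * r⁻¹ = ⁅r, a⁆ * a
          rw [commutatorElement_def]; group
        rw [e]
        exact Subgroup.mul_mem _ (le_sup_left (b := A) h1) (le_sup_right (a := ⁅R, A⁆) ha)
  have h2 : (⁅R, A⁆ ⊔ A : Subgroup G) = ⊤ := hA _ hDA.isSubnormal le_sup_right
  have hq : IsPGroup p (G ⧸ (⁅R, A⁆ : Subgroup G)) :=
    isPGroup_quotient_of_sup_eq_top _ A hAp h2
  apply le_antisymm
  · exact Subgroup.commutator_le_left R A
  · exact pResidual_le_of_isPGroup_quotient _ hq

theorem subnormalClosure_props {H : Type*} [Group H] [Finite H] {p : ℕ} [Fact p.Prime]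
    (A K : Subgroup H) (hK : K = Cfsg.subnormalClosure A) :
    (Subgroup.normalClosure ((A.subgroupOf K : Subgroup ↥K) : Set ↥K)).map K.subtype = K ∧
    Subgroup.normalizer (A : Set H) ≤ Subgroup.normalizer (K : Set H) ∧
    A ⊔ (Cfsg.pResidual p ↥K).map K.subtype = K ∧
    (IsPGroup p ↥A →
      ⁅(Cfsg.pResidual p ↥K).map K.subtype, A⁆ = (Cfsg.pResidual p ↥K).map K.subtype) := by
  subst hK
  have hAK : A ≤ Cfsg.subnormalClosure A := le_subnormalClosure A
  have hKsn : (Cfsg.subnormalClosure A).IsSubnormal := subnormalClosure_isSubnormal A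
  have hstar := eq_top_of_isSubnormal_of_le A
  have hmapA : (A.subgroupOf (Cfsg.subnormalClosure A)).map (Cfsg.subnormalClosure A).subtype
      = A := by
    rw [Subgroup.subgroupOf_map_subtype, inf_of_le_left hAK]
  have hmaptop : (⊤ : Subgroup ↥(Cfsg.subnormalClosure A)).map
      (Cfsg.subnormalClosure A).subtype = Cfsg.subnormalClosure A := by
    rw [← MonoidHom.range_eq_map, Subgroup.range_subtype]
  refine ⟨?_, ?_, ?_, ?_⟩
  · rw [hstar _ Subgroup.normalClosure_normal.isSubnormal Subgroup.subset_normalClosure, hmaptop]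
  · intro g hg
    have h1 : ((Cfsg.subnormalClosure A).map (MulAut.conj g).toMonoidHom).IsSubnormal :=
      hKsn.map (MulAut.conj g).surjective
    have h2 : A ≤ (Cfsg.subnormalClosure A).map (MulAut.conj g).toMonoidHom := by
      have h0 := (mem_normalizer_iff_conj_eq A g).1 hg
      exact h0.symm.le.trans (Subgroup.map_mono hAK)
    have h3 : Cfsg.subnormalClosure A ≤ (Cfsg.subnormalClosure A).map (MulAut.conj g).toMonoidHom :=
      subnormalClosure_le A _ h2 h1
    rw [mem_normalizer_iff_conj_eq]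
    exact (Subgroup.eq_of_le_of_card_ge h3
      (by rw [Subgroup.card_map_of_injective (MulAut.conj g).injective])).symm
  · have h := residual_sup_eq_top (p := p) (A.subgroupOf (Cfsg.subnormalClosure A)) hstar
    have h2 := congrArg (Subgroup.map (Cfsg.subnormalClosure A).subtype) h
    rwa [Subgroup.map_sup, hmapA, hmaptop] at h2
  · intro hAp
    have h := residual_commutator_eq (p := p) (A.subgroupOf (Cfsg.subnormalClosure A)) hstar
      hAp.comap_subtype
    have h2 := congrArg (Subgroup.map (Cfsg.subnormalClosure A).subtype) h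
    rwa [Subgroup.map_commutator, hmapA] at h2

end Cfsg.Agent.Helper5
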