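import Mathlib
import Cfsg.Prelude.Def_SylowChains
import Cfsg.Agent.Helper5.StrEmb2

namespace Cfsg.Agent.Helper5
variable {G : Type*} [Group G]

theorem mem_smul_sylow {p : ℕ} (g : G) (A : Sylow p G) (x : G) :
    x ∈ ((g • A : Sylow p G) : Subgroup G) ↔ g⁻¹ * x * g ∈ (A : Subgroup G) := by
  rw [Sylow.coe_subgroup_smul]
  exact mem_conj_iff (A : Subgroup G) g x

/-- a chain from reachability. -/
theorem chain_of_reflTransGen {p : ℕ} (S T : Sylow p G)
    (h : Relation.ReflTransGen (fun A B : Sylow p G => (A : Subgroup G) ⊓ (B : Subgroup G) ≠ ⊥) S T) :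
    ∃ (n : ℕ) (c : Fin (n + 1) → Sylow p G), c 0 = S ∧ c (Fin.last n) = T ∧
      ∀ i : Fin n, c i.castSucc ≠ c i.succ ∧ (c i.castSucc : Subgroup G) ⊓ (c i.succ : Subgroup G) ≠ ⊥ := by
  induction h with
  | refl => exact ⟨0, fun _ => S, rfl, rfl, fun i => i.elim0⟩
  | @tail b c' _ hbc ih =>
    obtain ⟨n, c, h0, hl, hc⟩ := ih
    by_cases hb : b = c'
    · exact ⟨n, c, h0, hb ▸ hl, hc⟩
    · refine ⟨n + 1, Fin.snoc c c', ?_, ?_, ?_⟩
      · have : (0 : Fin (n + 2)) = Fin.castSucc (0 : Fin (n + 1)) := rfl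
        rw [this, Fin.snoc_castSucc]; exact h0
      · exact Fin.snoc_last (α := fun _ => Sylow p G) _ _
      · intro i
        induction i using Fin.lastCases with
        | last =>
          rw [Fin.snoc_castSucc, Fin.succ_last, Fin.snoc_last (α := fun _ => Sylow p G), hl]
          exact ⟨hb, hbc⟩
        | cast j =>
          rw [Fin.snoc_castSucc, ← Fin.castSucc_succ, Fin.snoc_castSucc]
          exact hc j

theorem sylowChainConnected_iff {p : ℕ} :
    Cfsg.IsSylowChainConnected p G ↔ ∀ S T : Sylow p G,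
      Relation.ReflTransGen (fun A B : Sylow p G => (A : Subgroup G) ⊓ (B : Subgroup G) ≠ ⊥) S T := by
  constructor
  · intro h S T
    obtain ⟨n, c, h0, hl, -, hc⟩ := h S T
    have key : ∀ i : Fin (n + 1), Relation.ReflTransGen
        (fun A B : Sylow p G => (A : Subgroup G) ⊓ (B : Subgroup G) ≠ ⊥) (c 0) (c i) := by
      intro i
      induction i using Fin.induction with
      | zero => exact Relation.ReflTransGen.refl
      | succ j ih => exact Relation.ReflTransGen.tail ih (hc j).2
    rw [← h0, ← hl]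
    exact key _
  · intro h S T
    by_cases hST : S = T
    · exact ⟨0, fun _ => S, rfl, hST, fun _ => inf_le_left, fun i => i.elim0⟩
    · by_cases hi : (S : Subgroup G) ⊓ (T : Subgroup G) = ⊥
      · obtain ⟨n, c, h0, hl, hc⟩ := chain_of_reflTransGen S T (h S T)
        exact ⟨n, c, h0, hl, fun i => by rw [hi]; exact bot_le, hc⟩
      · refine ⟨1, fun i => if i = 0 then S else T, ?_, ?_, ?_, ?_⟩
        · simp
        · simp
        · intro i
          by_cases h0 : i = 0
          · simp [h0]
          · simp [h0]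
        · intro i
          have : i = 0 := Subsingleton.elim _ _
          subst this
          simp only [Fin.castSucc_zero, Fin.succ_zero_eq_one]
          simpa using ⟨hST, hi⟩

theorem not_connected_of_classical [Finite G] (p : ℕ) [Fact p.Prime] (H : Subgroup G) (hH : H ≠ ⊤)
    (hpH : p ∣ Nat.card H)
    (hse : ∀ g : G, g ∉ H → ¬ p ∣ Nat.card ↥(H ⊓ H.map (MulAut.conj g).toMonoidHom)) :
    ¬ Cfsg.IsSylowChainConnected p G := by
  have hp : p.Prime := Fact.out
  intro hcon
  rw [sylowChainConnected_iff] at hcon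
  obtain ⟨S, hS⟩ := exists_sylow_le_of_classical p H hpH hse
  have hN := normalizer_le_of_classical p H hse
  have hall : ∀ T : Sylow p G, (T : Subgroup G) ≤ H := by
    intro T
    have := hcon S T
    induction this with
    | refl => exact hS
    | @tail b c _ hbc ih =>
      apply pSubgroup_le_of_inf_ne_bot H hN _ c.2
      intro hbot
      apply hbc
      rw [eq_bot_iff, ← hbot]
      exact le_inf inf_le_right (inf_le_left.trans ih)
  have hSne : (S : Subgroup G) ≠ ⊥ := by
    intro h
    have h1 : Nat.card (S : Subgroup G) = 1 := by rw [h]; simp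
    rw [Sylow.card_eq_multiplicity] at h1
    have h2 := hp.factorization_pos_of_dvd Nat.card_pos.ne'
      (dvd_trans hpH (Subgroup.card_subgroup_dvd_card H))
    have h3 : 1 < p ^ (Nat.card G).factorization p := Nat.one_lt_pow h2.ne' hp.one_lt
    omega
  apply hH
  rw [eq_top_iff]
  intro g _
  apply mem_of_conj_le H hN S hS (S : Subgroup G) hS S.2 hSne g
  have := hall (g • S)
  rw [Sylow.coe_subgroup_smul] at this
  exact this

theorem exists_classical_of_not_connected [Finite G] (p : ℕ) [Fact p.Prime]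
    (hcon : ¬ Cfsg.IsSylowChainConnected p G) :
    ∃ H : Subgroup G, H ≠ ⊤ ∧ p ∣ Nat.card H ∧
      ∀ g : G, g ∉ H → ¬ p ∣ Nat.card ↥(H ⊓ H.map (MulAut.conj g).toMonoidHom) := by
  have hp : p.Prime := Fact.out
  rw [sylowChainConnected_iff] at hcon
  push Not at hcon
  obtain ⟨S, T, hST⟩ := hcon
  have hsymm : ∀ A B : Sylow p G,
      Relation.ReflTransGen (fun A B : Sylow p G => (A : Subgroup G) ⊓ (B : Subgroup G) ≠ ⊥) A B →
      Relation.ReflTransGen (fun A B : Sylow p G => (A : Subgroup G) ⊓ (B : Subgroup G) ≠ ⊥) B A := by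
    intro A B h
    induction h with
    | refl => exact Relation.ReflTransGen.refl
    | @tail b c _ hbc ih =>
      exact Relation.ReflTransGen.head (by rw [inf_comm]; exact hbc) ih
  have hinv : ∀ (g : G) (A B : Sylow p G),
      Relation.ReflTransGen (fun A B : Sylow p G => (A : Subgroup G) ⊓ (B : Subgroup G) ≠ ⊥) A B →
      Relation.ReflTransGen (fun A B : Sylow p G => (A : Subgroup G) ⊓ (B : Subgroup G) ≠ ⊥)
        (g • A) (g • B) := by
    intro g A B h
    refine Relation.ReflTransGen.lift (fun X : Sylow p G => g • X) ?_ _ _ h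
    intro X Y hXY hbot
    apply hXY
    rw [eq_bot_iff]
    intro x hx
    have h1 : g * x * g⁻¹ ∈ ((g • X : Sylow p G) : Subgroup G) ⊓ ((g • Y : Sylow p G) : Subgroup G) := by
      refine Subgroup.mem_inf.2 ⟨?_, ?_⟩
      · rw [mem_smul_sylow]
        have : g⁻¹ * (g * x * g⁻¹) * g = x := by group
        rw [this]; exact hx.1
      · rw [mem_smul_sylow]
        have : g⁻¹ * (g * x * g⁻¹) * g = x := by group
        rw [this]; exact hx.2
    rw [hbot, Subgroup.mem_bot] at h1
    rw [Subgroup.mem_bot]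
    have : x = g⁻¹ * (g * x * g⁻¹) * g := by group
    rw [this, h1]; group
  let H : Subgroup G :=
    { carrier := {g | Relation.ReflTransGen
        (fun A B : Sylow p G => (A : Subgroup G) ⊓ (B : Subgroup G) ≠ ⊥) S (g • S)}
      one_mem' := by
        show Relation.ReflTransGen _ S ((1 : G) • S)
        rw [one_smul]
      mul_mem' := by
        intro a b ha hb
        show Relation.ReflTransGen _ S ((a * b) • S)
        rw [mul_smul]
        exact ha.trans (hinv a _ _ hb)
      inv_mem' := by
        intro a ha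
        show Relation.ReflTransGen _ S (a⁻¹ • S)
        have := hinv a⁻¹ _ _ ha
        rw [inv_smul_smul] at this
        exact hsymm _ _ this }
  have hmem : ∀ g : G, g ∈ H ↔ Relation.ReflTransGen
      (fun A B : Sylow p G => (A : Subgroup G) ⊓ (B : Subgroup G) ≠ ⊥) S (g • S) := fun g => Iff.rfl
  have hSH : (S : Subgroup G) ≤ H := by
    intro s hs
    rw [hmem]
    have : s • S = S := Sylow.smul_eq_iff_mem_normalizer.2 (Subgroup.le_normalizer hs)
    rw [this]
  have hSne : (S : Subgroup G) ≠ ⊥ := by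
    intro h
    apply hST
    have h1 : Nat.card (T : Subgroup G) = 1 := by
      rw [Sylow.card_eq_multiplicity, ← Sylow.card_eq_multiplicity S, h]; simp
    have h2 : (T : Subgroup G) = ⊥ := Subgroup.card_eq_one.1 h1
    have : S = T := Sylow.ext (by rw [h, h2])
    rw [this]
  refine ⟨H, ?_, ?_, ?_⟩
  · intro htop
    obtain ⟨g, hg⟩ := MulAction.exists_smul_eq G S T
    have : g ∈ H := by rw [htop]; trivial
    rw [hmem, hg] at this
    exact hST this
  · exact dvd_trans (dvd_card_of_isPGroup_ne_bot _ S.2 hSne) (Subgroup.card_dvd_of_le hSH)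
  · intro g hg hdvd
    apply hg
    obtain ⟨x, hx⟩ := exists_prime_orderOf_dvd_card' p hdvd
    have hxo : orderOf (x : G) = p := by rw [Subgroup.orderOf_coe]; exact hx
    have hx1 : (x : G) ∈ H := x.2.1
    have hx2 : g⁻¹ * (x : G) * g ∈ H := (mem_conj_iff H g _).1 x.2.2
    have hyo : orderOf (g⁻¹ * (x : G) * g) = p := by
      have := (MulAut.conj g⁻¹).orderOf_eq (x : G)
      simp only [MulAut.conj_apply, inv_inv] at this
      rw [this, hxo]
    obtain ⟨h, hh, hle⟩ := exists_conj_le_sylow_in_subgroup S H hSH (Subgroup.zpowers (x : G))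
      (Subgroup.zpowers_le.2 hx1) (isPGroup_zpowers _ ⟨1, by rw [hxo, pow_one]⟩)
    obtain ⟨h', hh', hle'⟩ := exists_conj_le_sylow_in_subgroup S H hSH
      (Subgroup.zpowers (g⁻¹ * (x : G) * g))
      (Subgroup.zpowers_le.2 hx2) (isPGroup_zpowers _ ⟨1, by rw [hyo, pow_one]⟩)
    have h1 : (x : G) ∈ ((h • S : Sylow p G) : Subgroup G) := by
      rw [Sylow.coe_subgroup_smul]; exact hle (Subgroup.mem_zpowers _)
    have h2 : (x : G) ∈ (((g * h') • S : Sylow p G) : Subgroup G) := by
      rw [mem_smul_sylow]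
      have h3 := (mem_conj_iff _ h' _).1 (hle' (Subgroup.mem_zpowers _))
      have : (g * h')⁻¹ * (x : G) * (g * h') = h'⁻¹ * (g⁻¹ * (x : G) * g) * h' := by group
      rw [this]; exact h3
    have hE : ((h • S : Sylow p G) : Subgroup G) ⊓ (((g * h') • S : Sylow p G) : Subgroup G) ≠ ⊥ := by
      intro hbot
      have : (x : G) ∈ ((h • S : Sylow p G) : Subgroup G) ⊓ (((g * h') • S : Sylow p G) : Subgroup G) :=
        Subgroup.mem_inf.2 ⟨h1, h2⟩
      rw [hbot, Subgroup.mem_bot] at this
      rw [this, orderOf_one] at hxo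
      exact hp.one_lt.ne hxo
    rw [hmem]
    have h4 := (hmem h).1 hh
    have h5 := hinv g _ _ ((hmem h').1 hh')
    rw [← mul_smul] at h5
    exact (h4.tail hE).trans (hsymm _ _ h5)

end Cfsg.Agent.Helper5
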