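import Mathlib
import Cfsg.Agent.Helper5.WCFact

set_option autoImplicit false

namespace Cfsg.Agent.Helper5

open scoped commutatorElement

variable {G : Type*} [Group G] [Finite G] {p : ℕ} [Fact p.Prime]

theorem wcf_side (Q : Subgroup G) (hQp : IsPGroup p Q) (T : Sylow p G)
    (hwc : Cfsg.IsWeaklyClosed Q (T : Subgroup G)) (Hc : Subgroup G)
    (hHc : Hc = Cfsg.weakClosure Q ⊤) (H₁ H₂ : Subgroup G)
    (hn₁ : H₁ ≤ Hc ∧ Hc ≤ Subgroup.normalizer (H₁ : Set G))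
    (hn₂ : H₂ ≤ Hc ∧ Hc ≤ Subgroup.normalizer (H₂ : Set G)) (hprod : H₁ ⊔ H₂ = Hc)
    (hcomm : ⁅H₁, H₂⁆ ≤ Subgroup.normalizer (Q : Set G)) (K₁ : Subgroup G)
    (hK₁ : K₁ = (Cfsg.pResidual p ↥(Cfsg.weakClosure Q (H₁ ⊔ Q))).map
      (Cfsg.weakClosure Q (H₁ ⊔ Q)).subtype) :
    (⁅K₁, Q⁆ = K₁ ∧ ⁅K₁, H₁⁆ = K₁ ∧ K₁ ≤ ⁅H₁, H₁⁆ ∧ Hc ≤ Subgroup.normalizer (K₁ : Set G)) ∧
    ⁅K₁, H₂⁆ ≤ Cfsg.pCoreOf p Hc ∧
    Cfsg.weakClosure Q (H₁ ⊔ Q) ≤ K₁ ⊔ Q ∧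
    H₁ ≤ Subgroup.normalizer (Cfsg.weakClosure Q (H₁ ⊔ Q) : Set G) ∧ K₁ ≤ H₁ := by
  have hQHc : Q ≤ Hc := by rw [hHc]; exact wcf_le_weakClosure Q ⊤ le_top
  obtain ⟨D, hD⟩ : ∃ D : Subgroup G, D = ⁅H₁, H₂⁆ := ⟨_, rfl⟩
  obtain ⟨R, hR⟩ : ∃ R : Subgroup G, R = (Cfsg.pCore p ↥D).map D.subtype := ⟨_, rfl⟩
  have hDH₁ : D ≤ H₁ := by
    rw [hD]; exact commutator_le_left_of_le_normalizer H₁ H₂ (hn₂.1.trans hn₁.2)
  have hDHc : D ≤ Hc := hDH₁.trans hn₁.1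
  have hHcD : Hc ≤ Subgroup.normalizer (D : Set G) := by
    rw [hD]; exact Helper3.le_normalizer_commutator Hc H₁ H₂ hn₁.2 hn₂.2
  have hRD : R ≤ D := by rw [hR]; exact pCoreMap_le p D
  have hRp : IsPGroup p R := by rw [hR]; exact pCoreMap_isPGroup D
  have hHcR : Hc ≤ Subgroup.normalizer (R : Set G) := by
    rw [hR]; exact hHcD.trans (normalizer_le_normalizer_pCoreMap D)
  have hDHcR : ⁅D, Hc⁆ ≤ R := by
    rw [hR, hHc]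
    exact wcf_comm_le_pcore Q hQp T hwc D (by rw [← hHc]; exact hHcD) (by rw [hD]; exact hcomm)
  have hkey : ⁅⁅H₁, Q⁆, H₂⁆ ≤ R :=
    wcf_key_comm_sub Hc H₁ H₂ R Q hn₁.1 hn₁.2 hn₂.1 hn₂.2 (hRD.trans hDHc) hHcR hQHc hprod
      (by rw [← hD]; exact hDHcR)
  obtain ⟨L₁, hL₁⟩ : ∃ L₁ : Subgroup G, L₁ = Cfsg.weakClosure Q (H₁ ⊔ Q) := ⟨_, rfl⟩
  rw [← hL₁] at hK₁ ⊢
  have hQN₁ : Q ≤ Subgroup.normalizer (H₁ : Set G) := hQHc.trans hn₁.2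
  have s2 : K₁ ≤ H₁ := by rw [hK₁, hL₁]; exact wcf_res_le Q hQp H₁ hQN₁
  have s3 : ⁅K₁, Q⁆ = K₁ := by
    rw [hK₁, hL₁]; exact wcf_res_comm Q hQp T hwc (H₁ ⊔ Q) le_sup_right
  have hL₁sup : L₁ ≤ K₁ ⊔ Q := by
    rw [hK₁, hL₁]; exact wcf_eq_res_sup Q hQp T hwc (H₁ ⊔ Q) le_sup_right
  have hH₁L₁ : H₁ ≤ Subgroup.normalizer (L₁ : Set G) := by
    rw [hL₁]; exact le_sup_left.trans (wcf_le_normalizer_weakClosure Q (H₁ ⊔ Q))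
  have s4 : H₁ ≤ Subgroup.normalizer (K₁ : Set G) := by
    rw [hK₁]; exact hH₁L₁.trans (normalizer_le_normalizer_pResidualMap p L₁)
  have s5 : K₁ ≤ ⁅H₁, Q⁆ := by
    calc K₁ = ⁅K₁, Q⁆ := s3.symm
      _ ≤ ⁅H₁, Q⁆ := Subgroup.commutator_mono s2 le_rfl
  have s6 : ⁅K₁, H₂⁆ ≤ R := (Subgroup.commutator_mono s5 le_rfl).trans hkey
  obtain ⟨M, hM⟩ : ∃ M : Subgroup G, M = R ⊔ K₁ := ⟨_, rfl⟩
  have hRK₁ : R ≤ Subgroup.normalizer (K₁ : Set G) := (hRD.trans hDH₁).trans s4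
  have hMres : (Cfsg.pResidual p ↥M).map M.subtype = K₁ := by
    apply le_antisymm
    · apply wcf_pres_le_of_pow_mem
      intro x hx
      have hxM : x ∈ K₁ ⊔ R := by rw [sup_comm, ← hM]; exact pResidualMap_le p M hx
      exact wcf_pow_mem_of_sup K₁ R hRp hRK₁ x hxM
    · have e := pResidualMap_eq_closure p L₁
      rw [hK₁, e, Subgroup.closure_le]
      rintro x ⟨hx, hc⟩
      apply mem_pResidualMap M x _ hc
      rw [hM]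
      apply Subgroup.mem_sup_right
      rw [hK₁]; exact mem_pResidualMap L₁ x hx hc
  have s7 : H₂ ≤ Subgroup.normalizer (K₁ : Set G) := by
    have a1 : H₂ ≤ Subgroup.normalizer (M : Set G) := by
      rw [hM]
      apply wcf_le_normalizer_sup_of_commutator H₂ R K₁ (hn₂.1.trans hHcR)
      rw [Subgroup.commutator_comm]; exact s6.trans le_sup_left
    have a2 := normalizer_le_normalizer_pResidualMap p M
    rw [hMres] at a2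
    exact a1.trans a2
  have s8 : Hc ≤ Subgroup.normalizer (K₁ : Set G) := by rw [← hprod]; exact sup_le s4 s7
  have s9 : ⁅K₁, H₁⁆ = K₁ := by
    apply le_antisymm (commutator_le_left_of_le_normalizer K₁ H₁ s4)
    obtain ⟨N, hN⟩ : ∃ N : Subgroup G, N = ⁅K₁, H₁⁆ := ⟨_, rfl⟩
    rw [← hN]
    have hHcN : Hc ≤ Subgroup.normalizer (N : Set G) := by
      rw [hN]; exact Helper3.le_normalizer_commutator Hc K₁ H₁ s8 hn₁.2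
    have hKNR : ⁅K₁, Q⁆ ≤ N ⊔ R := by
      rw [Subgroup.commutator_le]
      intro k hk q hq
      have hq' : q ∈ H₁ ⊔ H₂ := by rw [hprod]; exact hQHc hq
      obtain ⟨h₁, hh₁, h₂, hh₂, rfl⟩ :=
        Helper3.mem_sup_of_le_normalizer_right H₁ H₂ (hn₂.1.trans hn₁.2) hq'
      have e : ⁅k, h₁ * h₂⁆ = ⁅k, h₁⁆ * (h₁ * ⁅k, h₂⁆ * h₁⁻¹) := by
        simp only [commutatorElement_def]; group
      rw [e]
      apply Subgroup.mul_mem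
      · apply Subgroup.mem_sup_left
        rw [hN]; exact Subgroup.commutator_mem_commutator hk hh₁
      · apply Subgroup.mem_sup_right
        exact (Subgroup.mem_normalizer_iff.1 (hHcR (hn₁.1 hh₁)) _).1
          (s6 (Subgroup.commutator_mem_commutator hk hh₂))
    have hpow : ∀ x ∈ K₁, ∃ k : ℕ, x ^ p ^ k ∈ N := by
      intro x hx
      have hx' : x ∈ ⁅K₁, Q⁆ := by rw [s3]; exact hx
      exact wcf_pow_mem_of_sup N R hRp ((hRD.trans hDHc).trans hHcN) x (hKNR hx')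
    have := wcf_pres_le_of_pow_mem (p := p) L₁ N (by rw [← hK₁]; exact hpow)
    rw [← hK₁] at this
    exact this
  have s10 : K₁ ≤ ⁅H₁, H₁⁆ := by
    calc K₁ = ⁅K₁, H₁⁆ := s9.symm
      _ ≤ ⁅H₁, H₁⁆ := Subgroup.commutator_mono s2 le_rfl
  have hRcore : R ≤ Cfsg.pCoreOf p Hc := by
    show R ≤ (Cfsg.pCore p ↥Hc).map Hc.subtype
    exact le_pCoreMap Hc R (hRD.trans hDHc) hHcR hRp
  exact ⟨⟨s3, s9, s10, s8⟩, s6.trans hRcore, hL₁sup, hH₁L₁, s2⟩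

theorem wcf_main (Q : Subgroup G) (hQp : IsPGroup p ↥Q)
    (hwc : Cfsg.IsWeaklyClosedSubgroup p Q) (Hc : Subgroup G) (hHc : Hc = Cfsg.weakClosure Q ⊤)
    (H₁ H₂ : Subgroup G) (hn₁ : H₁ ≤ Hc ∧ Hc ≤ Subgroup.normalizer ((H₁ : Subgroup G) : Set G))
    (hn₂ : H₂ ≤ Hc ∧ Hc ≤ Subgroup.normalizer ((H₂ : Subgroup G) : Set G))
    (hprod : H₁ ⊔ H₂ = Hc) (hcomm : ⁅H₁, H₂⁆ ≤ Subgroup.normalizer ((Q : Subgroup G) : Set G))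
    (K₁ K₂ : Subgroup G)
    (hK₁ : K₁ = ((Cfsg.pResidual p ↥(Cfsg.weakClosure Q (H₁ ⊔ Q))).map
      ((Cfsg.weakClosure Q (H₁ ⊔ Q))).subtype))
    (hK₂ : K₂ = ((Cfsg.pResidual p ↥(Cfsg.weakClosure Q (H₂ ⊔ Q))).map
      ((Cfsg.weakClosure Q (H₂ ⊔ Q))).subtype)) :
    (⁅K₁, Q⁆ = K₁ ∧ ⁅K₁, H₁⁆ = K₁ ∧ K₁ ≤ ⁅H₁, H₁⁆ ∧
      Hc ≤ Subgroup.normalizer ((K₁ : Subgroup G) : Set G)) ∧
    (⁅K₂, Q⁆ = K₂ ∧ ⁅K₂, H₂⁆ = K₂ ∧ K₂ ≤ ⁅H₂, H₂⁆ ∧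
      Hc ≤ Subgroup.normalizer ((K₂ : Subgroup G) : Set G)) ∧
    K₁ ⊔ K₂ = ((Cfsg.pResidual p ↥Hc).map (Hc).subtype) ∧ ⁅K₁, K₂⁆ ≤ (Cfsg.pCoreOf p Hc) := by
  obtain ⟨T, hT⟩ := hwc
  obtain ⟨a1, b1, c1, d1, e1⟩ := wcf_side Q hQp T hT Hc hHc H₁ H₂ hn₁ hn₂ hprod hcomm K₁ hK₁
  obtain ⟨a2, b2, c2, d2, e2⟩ := wcf_side Q hQp T hT Hc hHc H₂ H₁ hn₂ hn₁
    (by rw [sup_comm]; exact hprod) (by rw [Subgroup.commutator_comm]; exact hcomm) K₂ hK₂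
  have hQHc : Q ≤ Hc := by rw [hHc]; exact wcf_le_weakClosure Q ⊤ le_top
  have hL₁ : K₁ ⊔ Q = Cfsg.weakClosure Q (H₁ ⊔ Q) :=
    le_antisymm (sup_le (by rw [hK₁]; exact pResidualMap_le p _)
      (wcf_le_weakClosure Q _ le_sup_right)) c1
  have hL₂ : K₂ ⊔ Q = Cfsg.weakClosure Q (H₂ ⊔ Q) :=
    le_antisymm (sup_le (by rw [hK₂]; exact pResidualMap_le p _)
      (wcf_le_weakClosure Q _ le_sup_right)) c2
  refine ⟨a1, a2, ?_, ?_⟩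
  · apply le_antisymm
    · apply sup_le
      · rw [hK₁]
        exact pResidualMap_mono p ((wcf_weakClosure_le Q _).trans (sup_le hn₁.1 hQHc))
      · rw [hK₂]
        exact pResidualMap_mono p ((wcf_weakClosure_le Q _).trans (sup_le hn₂.1 hQHc))
    · apply wcf_pres_le_of_pow_mem
      intro x hx
      have hQK : Q ≤ Subgroup.normalizer ((K₁ ⊔ K₂ : Subgroup G) : Set G) :=
        le_normalizer_sup K₁ K₂ Q (hQHc.trans a1.2.2.2) (hQHc.trans a2.2.2.2)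
      apply wcf_pow_mem_of_sup (K₁ ⊔ K₂) Q hQp hQK x
      have hY : Hc ≤ Subgroup.normalizer (((K₁ ⊔ K₂) ⊔ Q : Subgroup G) : Set G) := by
        rw [← hprod]
        apply sup_le
        · have e : (K₁ ⊔ K₂) ⊔ Q = K₂ ⊔ (K₁ ⊔ Q) := by rw [sup_comm K₁ K₂, sup_assoc]
          rw [e, hL₁]
          exact le_normalizer_sup K₂ _ H₁ (hn₁.1.trans a2.2.2.2) d1
        · have e : (K₁ ⊔ K₂) ⊔ Q = K₁ ⊔ (K₂ ⊔ Q) := by rw [sup_assoc]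
          rw [e, hL₂]
          exact le_normalizer_sup K₁ _ H₂ (hn₂.1.trans a1.2.2.2) d2
      have hHcY : Hc ≤ (K₁ ⊔ K₂) ⊔ Q := by
        have := wcf_weakClosure_le_of_normalizer Q hQp T hT ⊤ ((K₁ ⊔ K₂) ⊔ Q) le_top le_sup_right
          (by rw [← hHc]; exact hY)
        rw [← hHc] at this
        exact this
      exact hHcY (pResidualMap_le p Hc hx)
  · exact (Subgroup.commutator_mono le_rfl e2).trans b1

end Cfsg.Agent.Helper5
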