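import Mathlib
import Cfsg.Prelude.Def_LocalStructure
import Cfsg.Agent.Helper5.Basic
import Cfsg.Agent.Helper5.Stability
import Cfsg.Agent.Helper5.CharP
import Cfsg.Agent.Helper5.CharP2
import Cfsg.Agent.Helper5.CharP3
import Cfsg.Agent.Helper5.Coprime2
import Cfsg.Agent.Helper5.WeakCl
import Cfsg.Agent.Helper3.Local
import Cfsg.Agent.Helper3.Signalizer

set_option autoImplicit false

namespace Cfsg.Agent.Helper5

open scoped commutatorElement

universe u

variable {H : Type u} [Group H]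

theorem wc_le_normalizer [Finite H] {p : ℕ} [Fact p.Prime] (Q : Subgroup H) (T : Sylow p H)
    (hwc : Cfsg.IsWeaklyClosed Q (T : Subgroup H)) (S : Subgroup H) (hS : IsPGroup p S)
    (hQS : Q ≤ S) : S ≤ Subgroup.normalizer (Q : Set H) := by
  intro s hs
  have h1 : Q.map (MulAut.conj s).toMonoidHom ≤ S := by
    rintro _ ⟨q, hq, rfl⟩
    exact S.mul_mem (S.mul_mem hs (hQS hq)) (S.inv_mem hs)
  have h2 := wc_unique Q T hwc S hS 1 s (by rw [conj_one]; exact hQS) h1
  rw [conj_one] at h2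
  exact (mem_normalizer_iff_conj_eq Q s).2 h2.symm

/-- if the normalizer of some subgroup `B` of the `p`-group `P` has characteristic `p`, so do
`N(P)` and `C(P)`. -/
theorem fstar_chain [Finite H] {p : ℕ} [Fact p.Prime] (P : Subgroup H) (hP : IsPGroup p P)
    (B : Subgroup H) (hBP : B ≤ P)
    (hB : Cfsg.generalizedFittingSubgroup ↥(Subgroup.normalizer (B : Set H)) =
      Cfsg.pCore p ↥(Subgroup.normalizer (B : Set H))) :
    Cfsg.generalizedFittingSubgroup ↥(Subgroup.normalizer (P : Set H)) =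
        Cfsg.pCore p ↥(Subgroup.normalizer (P : Set H)) ∧
      Cfsg.generalizedFittingSubgroup ↥(Subgroup.centralizer (P : Set H)) =
        Cfsg.pCore p ↥(Subgroup.centralizer (P : Set H)) := by
  revert hBP hB
  refine WellFoundedGT.induction (motive := fun B : Subgroup H => B ≤ P →
    Cfsg.generalizedFittingSubgroup ↥(Subgroup.normalizer (B : Set H)) =
      Cfsg.pCore p ↥(Subgroup.normalizer (B : Set H)) →
    Cfsg.generalizedFittingSubgroup ↥(Subgroup.normalizer (P : Set H)) =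
        Cfsg.pCore p ↥(Subgroup.normalizer (P : Set H)) ∧
      Cfsg.generalizedFittingSubgroup ↥(Subgroup.centralizer (P : Set H)) =
        Cfsg.pCore p ↥(Subgroup.centralizer (P : Set H))) B ?_
  intro B ih hBP hB
  have hstep : ∀ B₁ : Subgroup H, B ≤ B₁ → B₁ ≤ P → B₁ ≤ Subgroup.normalizer (B : Set H) →
      Cfsg.generalizedFittingSubgroup ↥(Subgroup.normalizer (B₁ : Set H)) =
        Cfsg.pCore p ↥(Subgroup.normalizer (B₁ : Set H)) ∧
      Cfsg.generalizedFittingSubgroup ↥(Subgroup.centralizer (B₁ : Set H)) =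
        Cfsg.pCore p ↥(Subgroup.centralizer (B₁ : Set H)) := by
    intro B₁ h1 h2 h3
    exact charP_normalizer_of_normal_sub B₁ B (hP.to_le h2) h1
      ((Subgroup.normal_subgroupOf_iff_le_normalizer h1).2 h3) hB
  by_cases hEq : B = P
  · have h := hstep P hBP le_rfl (hEq ▸ Subgroup.le_normalizer)
    exact h
  · have hlt : B < P := lt_of_le_of_ne hBP hEq
    have hlt' : B.subgroupOf P < ⊤ := by
      rw [lt_top_iff_ne_top]
      intro h
      exact hEq (le_antisymm hBP (Subgroup.subgroupOf_eq_top.1 h))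
    haveI : Group.IsNilpotent ↥P := hP.isNilpotent
    have hnc := Group.normalizerCondition_of_isNilpotent (B.subgroupOf P) hlt'
    obtain ⟨x, hxN, hxB⟩ := SetLike.exists_of_lt hnc
    have hxNB : (x : H) ∈ Subgroup.normalizer (B : Set H) := by
      apply mem_normalizer_of_conj_le
      rintro _ ⟨b, hb, rfl⟩
      have h1 := (Subgroup.mem_normalizer_iff.1 hxN ⟨b, hBP hb⟩).1 (Subgroup.mem_subgroupOf.2 hb)
      exact Subgroup.mem_subgroupOf.1 h1
    have hxB' : (x : H) ∉ B := fun h => hxB (Subgroup.mem_subgroupOf.2 h)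
    set B₁ := P ⊓ Subgroup.normalizer (B : Set H) with hB₁
    have hBB₁ : B ≤ B₁ := le_inf hBP Subgroup.le_normalizer
    have hlt₁ : B < B₁ := lt_of_le_of_ne hBB₁ (fun h => hxB' (h ▸ ⟨x.2, hxNB⟩))
    exact ih B₁ hlt₁ inf_le_left (hstep B₁ hBB₁ inf_le_left inf_le_right).1

theorem wc_core [Finite H] {p : ℕ} [Fact p.Prime] (Q : Subgroup H) (hQp : IsPGroup p Q)
    (T : Sylow p H) (hwc : Cfsg.IsWeaklyClosed Q (T : Subgroup H))
    (hCQ : Subgroup.centralizer (Q : Set H) ≤ Q) (L : Subgroup H) (hQL : Q ≤ L)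
    (hC : Subgroup.centralizer (((Cfsg.pCore p ↥L).map L.subtype : Subgroup H) : Set H) ⊓
      Subgroup.centralizer (((Cfsg.pCore p ↥(Subgroup.centralizer
        (((Cfsg.pCore p ↥L).map L.subtype : Subgroup H) : Set H))).map
        (Subgroup.centralizer (((Cfsg.pCore p ↥L).map L.subtype : Subgroup H) : Set H)).subtype
          : Subgroup H) : Set H) ≤
      (Cfsg.pCore p ↥(Subgroup.centralizer
        (((Cfsg.pCore p ↥L).map L.subtype : Subgroup H) : Set H))).map
        (Subgroup.centralizer (((Cfsg.pCore p ↥L).map L.subtype : Subgroup H) : Set H)).subtype) :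
    ⁅Q, Subgroup.centralizer (((Cfsg.pCore p ↥L).map L.subtype : Subgroup H) : Set H)⁆ ≤
        Q ⊓ (Cfsg.pCore p ↥L).map L.subtype ∧
      IsPGroup p ↥(Subgroup.centralizer (((Cfsg.pCore p ↥L).map L.subtype : Subgroup H) : Set H)) ∧
      Subgroup.centralizer (Cfsg.pCore p ↥L : Set ↥L) ≤ Cfsg.pCore p ↥L := by
  set P := (Cfsg.pCore p ↥L).map L.subtype with hP
  set C := Subgroup.centralizer (P : Set H) with hCdef
  set RC := (Cfsg.pCore p ↥C).map C.subtype with hRC
  have hPp : IsPGroup p P := pCoreMap_isPGroup L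
  have hLP : L ≤ Subgroup.normalizer (P : Set H) := le_normalizer_pCoreMap p L
  have hLC : L ≤ Subgroup.normalizer (C : Set H) :=
    hLP.trans (normalizer_le_normalizer_centralizer P)
  have hQC : Q ≤ Subgroup.normalizer (C : Set H) := hQL.trans hLC
  have hRCp : IsPGroup p RC := pCoreMap_isPGroup C
  have hRCC : RC ≤ C := pCoreMap_le p C
  have hNCRC : Subgroup.normalizer (C : Set H) ≤ Subgroup.normalizer (RC : Set H) :=
    normalizer_le_normalizer_pCoreMap C
  have hQRC : Q ≤ Subgroup.normalizer (RC : Set H) := hQC.trans hNCRC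
  have hCRC : C ≤ Subgroup.normalizer (RC : Set H) := le_normalizer_pCoreMap p C
  have hCP : C ≤ Subgroup.normalizer (P : Set H) := Subgroup.centralizer_le_normalizer _
  have hsup : IsPGroup p (Q ⊔ RC : Subgroup H) := IsPGroup.to_sup_of_normal_right' hQp hRCp hQRC
  have hRCQ : RC ≤ Subgroup.normalizer (Q : Set H) :=
    le_sup_right.trans (wc_le_normalizer Q T hwc (Q ⊔ RC) hsup le_sup_left)
  set Z := P ⊓ RC with hZ
  have hLRC : L ⊓ RC ≤ P :=
    le_pCoreMap L (L ⊓ RC) inf_le_left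
      (le_normalizer_inf L RC L Subgroup.le_normalizer (hLC.trans hNCRC)) (hRCp.to_le inf_le_right)
  have hQRCZ : ∀ q ∈ Q, ∀ a ∈ RC, q * a * q⁻¹ * a⁻¹ ∈ Z := by
    intro q hq a ha
    have h1 : q * a * q⁻¹ * a⁻¹ ∈ RC :=
      RC.mul_mem ((Subgroup.mem_normalizer_iff.1 (hQRC hq) a).1 ha) (RC.inv_mem ha)
    have h2 : q * a * q⁻¹ * a⁻¹ ∈ Q := by
      have e : q * a * q⁻¹ * a⁻¹ = q * (a * q⁻¹ * a⁻¹) := by group
      rw [e]
      exact Q.mul_mem hq ((Subgroup.mem_normalizer_iff.1 (hRCQ ha) _).1 (Q.inv_mem hq))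
    exact ⟨hLRC ⟨hQL h2, h1⟩, h1⟩
  have hZcent : ∀ c ∈ C, ∀ z ∈ Z, c * z = z * c := fun c hc z hz =>
    (Subgroup.mem_centralizer_iff.1 hc z hz.1).symm
  have hNZ : ∀ X : Subgroup H, X ≤ Subgroup.normalizer (P : Set H) →
      X ≤ Subgroup.normalizer (RC : Set H) → X ≤ Subgroup.normalizer (Z : Set H) :=
    fun X h1 h2 => le_normalizer_inf P RC X h1 h2
  let K : Subgroup H :=
    { carrier := {g | g ∈ Subgroup.normalizer (Z : Set H) ∧ ∀ a ∈ RC, g * a * g⁻¹ * a⁻¹ ∈ Z}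
      mul_mem' := by
        rintro g₁ g₂ ⟨h1, h1'⟩ ⟨h2, h2'⟩
        refine ⟨mul_mem h1 h2, fun a ha => ?_⟩
        have e : g₁ * g₂ * a * (g₁ * g₂)⁻¹ * a⁻¹
            = g₁ * (g₂ * a * g₂⁻¹ * a⁻¹) * g₁⁻¹ * (g₁ * a * g₁⁻¹ * a⁻¹) := by group
        rw [e]
        exact Z.mul_mem ((Subgroup.mem_normalizer_iff.1 h1 _).1 (h2' a ha)) (h1' a ha)
      one_mem' := ⟨one_mem _, fun a _ => by simp⟩
      inv_mem' := by
        rintro g ⟨h1, h1'⟩
        refine ⟨inv_mem h1, fun a ha => ?_⟩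
        have e : g⁻¹ * a * g⁻¹⁻¹ * a⁻¹ = g⁻¹ * (g * a * g⁻¹ * a⁻¹)⁻¹ * g⁻¹⁻¹ := by group
        rw [e]
        exact (Subgroup.mem_normalizer_iff.1 (inv_mem h1) _).1 (Z.inv_mem (h1' a ha)) }
  have hKmem : ∀ g, g ∈ K ↔ (g ∈ Subgroup.normalizer (Z : Set H) ∧
      ∀ a ∈ RC, g * a * g⁻¹ * a⁻¹ ∈ Z) := fun g => Iff.rfl
  have hQK : Q ≤ K := fun q hq => ⟨hNZ Q (hQL.trans hLP) hQRC hq, hQRCZ q hq⟩
  have hCK : C ≤ Subgroup.normalizer (K : Set H) := by
    apply Helper3.le_normalizer_of_conj_mem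
    intro c hc g hg
    rw [hKmem] at hg ⊢
    have hcZ := hNZ C hCP hCRC hc
    refine ⟨mul_mem (mul_mem hcZ hg.1) (inv_mem hcZ), fun a ha => ?_⟩
    have ha' : c⁻¹ * a * c ∈ RC := by
      have := (Subgroup.mem_normalizer_iff.1 (inv_mem (hCRC hc)) a).1 ha
      simpa using this
    have h1 := hg.2 _ ha'
    have e : c * g * c⁻¹ * a * (c * g * c⁻¹)⁻¹ * a⁻¹
        = c * (g * (c⁻¹ * a * c) * g⁻¹ * (c⁻¹ * a * c)⁻¹) * c⁻¹ := by group
    rw [e]
    exact (Subgroup.mem_normalizer_iff.1 hcZ _).1 h1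
  have hcomK : ⁅Q, C⁆ ≤ K :=
    (Subgroup.commutator_mono hQK le_rfl).trans (commutator_le_left_of_le_normalizer K C hCK)
  have hcomC : ⁅Q, C⁆ ≤ C := commutator_le_right_of_le_normalizer Q C hQC
  have hcomp : IsPGroup p (⁅Q, C⁆ : Subgroup H) := by
    apply isPGroup_of_coprime_elements_trivial
    intro x hx hxc
    have hxC := hcomC hx
    have hxK := hcomK hx
    have hcent : ∀ a ∈ RC, x * a = a * x :=
      stab_two x (orderOf x) (pow_orderOf_eq_one x) Z RC (fun z hz => hZcent x hxC z hz)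
        (fun a ha => hxK.2 a ha) (fun a ha ham => eq_one_of_pow_coprime RC hRCp _ hxc a ha.2 ham)
    have hxRC : x ∈ RC :=
      hC ⟨hxC, Subgroup.mem_centralizer_iff.2 (fun a ha => (hcent a ha).symm)⟩
    exact Helper3.eq_one_of_mem_pGroup_of_coprime p RC hRCp hxRC hxc
  have hQcom : Q ≤ Subgroup.normalizer ((⁅Q, C⁆ : Subgroup H) : Set H) :=
    le_normalizer_commutator_self_left Q C
  have hsup2 : IsPGroup p (Q ⊔ ⁅Q, C⁆ : Subgroup H) :=
    IsPGroup.to_sup_of_normal_right' hQp hcomp hQcom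
  have hCQn : C ≤ Subgroup.normalizer (Q : Set H) := by
    intro c hc
    have h1 : Q.map (MulAut.conj c).toMonoidHom ≤ Q ⊔ ⁅Q, C⁆ := by
      rintro _ ⟨q, hq, rfl⟩
      have e : c * q * c⁻¹ = (⁅q, c⁆)⁻¹ * q := by rw [commutatorElement_def]; group
      show c * q * c⁻¹ ∈ _
      rw [e]
      exact Subgroup.mul_mem _ (le_sup_right (a := Q)
        (Subgroup.inv_mem _ (Subgroup.commutator_mem_commutator hq hc)))
        (le_sup_left (b := ⁅Q, C⁆) hq)
    have h2 := wc_unique Q T hwc _ hsup2 1 c (by rw [conj_one]; exact le_sup_left) h1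
    rw [conj_one] at h2
    exact (mem_normalizer_iff_conj_eq Q c).2 h2.symm
  have hcomm : ⁅Q, C⁆ ≤ Q ⊓ C := le_inf (commutator_le_left_of_le_normalizer Q C hCQn) hcomC
  have hQ₁P : Q ⊓ C ≤ P := by
    set D := L ⊓ C with hD
    have hLD : L ≤ Subgroup.normalizer (D : Set H) :=
      le_normalizer_inf L C L Subgroup.le_normalizer hLC
    have hDQ₁ : D ≤ Subgroup.normalizer ((Q ⊓ C : Subgroup H) : Set H) :=
      le_normalizer_inf Q C D (inf_le_right.trans hCQn)
        (inf_le_right.trans Subgroup.le_normalizer)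
    have h1 : Q ⊓ C ≤ (Cfsg.pCore p ↥D).map D.subtype :=
      le_pCoreMap D _ (inf_le_inf hQL le_rfl) hDQ₁ (hQp.to_le inf_le_left)
    have h2 : (Cfsg.pCore p ↥D).map D.subtype ≤ P :=
      le_pCoreMap L _ ((pCoreMap_le p D).trans inf_le_left)
        (hLD.trans (normalizer_le_normalizer_pCoreMap D)) (pCoreMap_isPGroup D)
    exact h1.trans h2
  have hCp : IsPGroup p C := by
    apply isPGroup_of_coprime_elements_trivial
    intro x hx hxc
    have hcent : ∀ a ∈ Q, x * a = a * x := by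
      apply stab_two x (orderOf x) (pow_orderOf_eq_one x) (Q ⊓ C) Q
      · intro a ha
        exact (Subgroup.mem_centralizer_iff.1 hx a (hQ₁P ha)).symm
      · intro a ha
        have h1 : ⁅a, x⁆ ∈ ⁅Q, C⁆ := Subgroup.commutator_mem_commutator ha hx
        have e : x * a * x⁻¹ * a⁻¹ = (⁅a, x⁆)⁻¹ := by rw [commutatorElement_def]; group
        rw [e]; exact Subgroup.inv_mem _ (hcomm h1)
      · intro a ha ham
        exact eq_one_of_pow_coprime Q hQp _ hxc a ha.1 ham
    have hxQ : x ∈ Q := hCQ (Subgroup.mem_centralizer_iff.2 (fun a ha => (hcent a ha).symm))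
    exact Helper3.eq_one_of_mem_pGroup_of_coprime p Q hQp hxQ hxc
  refine ⟨hcomm.trans (le_inf inf_le_left hQ₁P), hCp, ?_⟩
  rw [charP_iff]
  exact le_pCoreMap L _ inf_le_left
    (le_normalizer_inf L _ L Subgroup.le_normalizer hLC) (hCp.to_le inf_le_right)

theorem wc_main [Finite H] {p : ℕ} [Fact p.Prime] (Q : Subgroup H) (hQp : IsPGroup p ↥Q)
    (hwc : Cfsg.IsWeaklyClosedSubgroup p Q)
    (hCQ : Subgroup.centralizer ((Q : Subgroup H) : Set H) ≤ Q) (L : Subgroup H) (hQL : Q ≤ L)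
    (hyp : Subgroup.centralizer (Cfsg.pCore p H : Set H) ≤ Cfsg.pCore p H ∨
      ∃ y : H, y ≠ 1 ∧
        y ∈ (Cfsg.pCoreOf p L) ⊓ Subgroup.centralizer ((Q : Subgroup H) : Set H) ∧
        Subgroup.centralizer (Cfsg.pCore p ↥(Subgroup.centralizer ({y} : Set H)) :
          Set ↥(Subgroup.centralizer ({y} : Set H))) ≤
          Cfsg.pCore p ↥(Subgroup.centralizer ({y} : Set H))) :
    ⁅Q, Subgroup.centralizer (((Cfsg.pCoreOf p L) : Subgroup H) : Set H)⁆ ≤
        Q ⊓ (Cfsg.pCoreOf p L) ∧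
      IsPGroup p ↥(Subgroup.centralizer (((Cfsg.pCoreOf p L) : Subgroup H) : Set H)) ∧
      Subgroup.centralizer (Cfsg.pCore p ↥L : Set ↥L) ≤ Cfsg.pCore p ↥L := by
  obtain ⟨T, hT⟩ := hwc
  have hPp : IsPGroup p ((Cfsg.pCore p ↥L).map L.subtype) := pCoreMap_isPGroup L
  apply wc_core Q hQp T hT hCQ L hQL
  rcases hyp with h | ⟨y, hy1, hy, hyc⟩
  · have h1 := Helper3.fstar_normalizer_eq_pCore p ((fstar_eq_pCore_iff_centralizer p).2 h)
      ((Cfsg.pCore p ↥L).map L.subtype) hPp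
    have h2 := (charP_iff _).1 ((fstar_eq_pCore_iff_centralizer p).1 h1)
    exact charP_of_normal _ _ h2 (Subgroup.centralizer_le_normalizer _)
      (normalizer_le_normalizer_centralizer _)
  · have hyP : y ∈ (Cfsg.pCore p ↥L).map L.subtype := hy.1
    have hB₀ := fstar_normalizer_of_centralizer y
      ((Cfsg.pCore p ↥L).map L.subtype ⊓ Subgroup.centralizer ({y} : Set H))
      (hPp.to_le inf_le_left) ⟨hyP, (mem_centralizer_singleton_iff y y).2 rfl⟩
      (fun x hx => (mem_centralizer_singleton_iff y x).1 hx.2)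
      ((fstar_eq_pCore_iff_centralizer p).2 hyc)
    have h3 := (fstar_chain ((Cfsg.pCore p ↥L).map L.subtype) hPp _ inf_le_left
      ((fstar_eq_pCore_iff_centralizer p).2 hB₀)).2
    exact (charP_iff _).1 ((fstar_eq_pCore_iff_centralizer p).1 h3)

end Cfsg.Agent.Helper5
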