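import Mathlib
import Cfsg.Prelude.Def_LocalStructure
import Cfsg.Agent.Helper5.Basic
import Cfsg.Agent.Helper5.StrEmb
import Cfsg.Agent.Helper5.WeakCl
import Cfsg.Agent.Helper5.WeakCl3
import Cfsg.Agent.Helper5.PIrr3
import Cfsg.Agent.Helper5.SubnCl
import Cfsg.Agent.Helper4.RelSylow

set_option autoImplicit false

namespace Cfsg.Agent.Helper5

open scoped commutatorElement Pointwise

variable {H : Type*} [Group H]

/-- a Sylow subgroup of `K` containing `Q`, seen in the ambient group. -/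
theorem exists_pgroup_sylow_in [Finite H] {p : ℕ} [Fact p.Prime] (Q K : Subgroup H)
    (hQp : IsPGroup p ↥Q) (hQK : Q ≤ K) :
    ∃ TK : Sylow p ↥K, Q.subgroupOf K ≤ (TK : Subgroup ↥K) ∧
      Q ≤ (TK : Subgroup ↥K).map K.subtype ∧ (TK : Subgroup ↥K).map K.subtype ≤ K ∧
      IsPGroup p ↥((TK : Subgroup ↥K).map K.subtype) ∧
      ¬ p ∣ ((TK : Subgroup ↥K).map K.subtype).relIndex K := by
  have hQ' : IsPGroup p (Q.subgroupOf K) := hQp.comap_of_injective K.subtype K.subtype_injective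
  obtain ⟨TK, hTK⟩ := hQ'.exists_le_sylow
  refine ⟨TK, hTK, ?_, ?_, TK.2.map _, ?_⟩
  · intro x hx
    exact ⟨⟨x, hQK hx⟩, hTK (Subgroup.mem_subgroupOf.2 hx), rfl⟩
  · rintro _ ⟨y, _, rfl⟩
    exact y.2
  · have e : ((TK : Subgroup ↥K).map K.subtype).subgroupOf K = (TK : Subgroup ↥K) :=
      Subgroup.comap_map_eq_self_of_injective K.subtype_injective _
    rw [Subgroup.relIndex, e]
    exact TK.not_dvd_index

/-- conjugates of a weakly closed subgroup inside `K` are `K`-conjugate. -/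
theorem wc_conj_in [Finite H] {p : ℕ} [Fact p.Prime] (Q : Subgroup H) (hQp : IsPGroup p ↥Q)
    (T : Sylow p H) (hwc : Cfsg.IsWeaklyClosed Q (T : Subgroup H)) (K : Subgroup H)
    (hQK : Q ≤ K) (g : H) (hg : Q.map (MulAut.conj g).toMonoidHom ≤ K) :
    ∃ k ∈ K, Q.map (MulAut.conj g).toMonoidHom = Q.map (MulAut.conj k).toMonoidHom := by
  obtain ⟨TK, -, hQP, -, hPp, hidx⟩ := exists_pgroup_sylow_in Q K hQp hQK
  obtain ⟨c, hcK, hc⟩ := Helper4.exists_conj_le_of_relIndex K _ (Q.map (MulAut.conj g).toMonoidHom)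
    hPp hidx (hQp.map _) hg
  have h1 : Q.map (MulAut.conj (c * g)).toMonoidHom ≤ (TK : Subgroup ↥K).map K.subtype := by
    rw [← conj_conj]
    rintro _ ⟨x, hx, rfl⟩
    exact hc x hx
  have h2 := wc_unique Q T hwc _ hPp 1 (c * g) (by rw [conj_one]; exact hQP) h1
  rw [conj_one] at h2
  refine ⟨c⁻¹, K.inv_mem hcK, ?_⟩
  have h3 : Q.map (MulAut.conj g).toMonoidHom =
      (Q.map (MulAut.conj (c * g)).toMonoidHom).map (MulAut.conj c⁻¹).toMonoidHom := by
    rw [conj_conj]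
    have e : c⁻¹ * (c * g) = g := by group
    rw [e]
  rw [h3, ← h2]

theorem wc_subgroupOf [Finite H] {p : ℕ} [Fact p.Prime] (Q : Subgroup H) (hQp : IsPGroup p ↥Q)
    (hwc : Cfsg.IsWeaklyClosedSubgroup p Q) (K : Subgroup H) (hQK : Q ≤ K) :
    Cfsg.IsWeaklyClosedSubgroup p (Q.subgroupOf K) ∧
      Cfsg.IsParabolic p ((Subgroup.normalizer ((Q : Subgroup H) : Set H)).subgroupOf K) := by
  obtain ⟨T, hT⟩ := hwc
  obtain ⟨TK, hTK, hQP, -, hPp, -⟩ := exists_pgroup_sylow_in Q K hQp hQK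
  have hN := wc_le_normalizer Q T hT _ hPp hQP
  refine ⟨⟨TK, hTK, ?_⟩, ⟨TK, ?_⟩⟩
  · intro k hk
    have h1 : Q.map (MulAut.conj (k : H)).toMonoidHom ≤ (TK : Subgroup ↥K).map K.subtype := by
      rintro _ ⟨x, hx, rfl⟩
      refine ⟨k * ⟨x, hQK hx⟩ * k⁻¹, ?_, rfl⟩
      exact hk ⟨⟨x, hQK hx⟩, Subgroup.mem_subgroupOf.2 hx, rfl⟩
    have h2 := wc_unique Q T hT _ hPp 1 (k : H) (by rw [conj_one]; exact hQP) h1
    rw [conj_one] at h2
    have hkN : (k : H) ∈ Subgroup.normalizer (Q : Set H) :=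
      (mem_normalizer_iff_conj_eq Q _).2 h2.symm
    ext y
    rw [mem_conj_iff, Subgroup.mem_subgroupOf, Subgroup.mem_subgroupOf]
    have h3 := (Subgroup.mem_normalizer_iff.1 (Subgroup.inv_mem _ hkN) (y : H))
    rw [inv_inv] at h3
    exact h3.symm
  · intro t ht
    rw [Subgroup.mem_subgroupOf]
    exact hN ⟨t, ht, rfl⟩

theorem wc_residual [Finite H] {p : ℕ} [Fact p.Prime] (Q : Subgroup H)
    (hwc : Cfsg.IsWeaklyClosedSubgroup p Q) (N' : Subgroup H) [N'.Normal] :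
    (N' ⊓ Subgroup.normalizer ((Q : Subgroup H) : Set H)) ⊔
      (Cfsg.pResidual p ↥N').map N'.subtype = N' := by
  obtain ⟨T, hT⟩ := hwc
  have hTN := wc_le_normalizer Q T hT _ T.2 hT.1
  apply le_antisymm
  · refine sup_le inf_le_left ?_
    rintro _ ⟨y, _, rfl⟩
    exact y.2
  · obtain ⟨T', hT'⟩ := exists_sylow_map_eq_inf T N'
    haveI := pResidual_normal' (H := ↥N') p
    have h1 := sup_sylow_eq_top_of_pResidual_le (Cfsg.pResidual p ↥N') le_rfl T'
    intro x hx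
    have h2 : (⟨x, hx⟩ : ↥N') ∈ Cfsg.pResidual p ↥N' ⊔ (T' : Subgroup ↥N') := by
      rw [h1]; trivial
    have h3 : x ∈ (Cfsg.pResidual p ↥N' ⊔ (T' : Subgroup ↥N')).map N'.subtype :=
      ⟨⟨x, hx⟩, h2, rfl⟩
    rw [Subgroup.map_sup, hT', sup_comm] at h3
    have h4 : (T : Subgroup H) ⊓ N' ≤ N' ⊓ Subgroup.normalizer ((Q : Subgroup H) : Set H) :=
      le_inf inf_le_right (inf_le_left.trans hTN)
    exact (sup_le_sup_right h4 _) h3

theorem map_mk_conj (Q N' : Subgroup H) [N'.Normal] (g : H) :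
    (Q.map (QuotientGroup.mk' N')).map (MulAut.conj (QuotientGroup.mk' N' g)).toMonoidHom =
      (Q.map (MulAut.conj g).toMonoidHom).map (QuotientGroup.mk' N') := by
  rw [Subgroup.map_map, Subgroup.map_map]
  congr 1

theorem wc_quotient [Finite H] {p : ℕ} [Fact p.Prime] (Q : Subgroup H) (hQp : IsPGroup p ↥Q)
    (hwc : Cfsg.IsWeaklyClosedSubgroup p Q) (N' : Subgroup H) [N'.Normal] :
    Cfsg.IsWeaklyClosedSubgroup p (Q.map (QuotientGroup.mk' N')) := by
  obtain ⟨T, hT⟩ := hwc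
  have hTN := wc_le_normalizer Q T hT _ T.2 hT.1
  have hsurj : Function.Surjective (QuotientGroup.mk' N') := QuotientGroup.mk'_surjective N'
  refine ⟨T.mapSurjective hsurj, ?_, ?_⟩
  · rw [Sylow.coe_mapSurjective]
    exact Subgroup.map_mono hT.1
  · intro gbar hgbar
    obtain ⟨g, rfl⟩ := hsurj gbar
    rw [Sylow.coe_mapSurjective, map_mk_conj] at hgbar
    rw [map_mk_conj]
    have h1 : Q.map (MulAut.conj g).toMonoidHom ≤ (T : Subgroup H) ⊔ N' := by
      have h := Subgroup.comap_mono (f := QuotientGroup.mk' N') hgbar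
      rw [Subgroup.comap_map_eq, Subgroup.comap_map_eq, QuotientGroup.ker_mk'] at h
      exact le_sup_left.trans h
    have hidx : ¬ p ∣ (T : Subgroup H).relIndex ((T : Subgroup H) ⊔ N') := fun hdvd =>
      T.not_dvd_index (hdvd.trans (Subgroup.relIndex_dvd_index_of_le le_sup_left))
    obtain ⟨c, hcM, hc⟩ := Helper4.exists_conj_le_of_relIndex ((T : Subgroup H) ⊔ N')
      (T : Subgroup H) (Q.map (MulAut.conj g).toMonoidHom) T.2 hidx (hQp.map _) h1
    have h2 : Q.map (MulAut.conj (c * g)).toMonoidHom ≤ (T : Subgroup H) := by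
      rw [← conj_conj]
      rintro _ ⟨x, hx, rfl⟩
      exact hc x hx
    have h3 := hT.2 _ h2
    have hcbar : ∃ t ∈ (T : Subgroup H), QuotientGroup.mk' N' c = QuotientGroup.mk' N' t := by
      obtain ⟨t, ht, n, hn, rfl⟩ := Subgroup.mem_sup_of_normal_right.1 hcM
      refine ⟨t, ht, ?_⟩
      have hn1 : QuotientGroup.mk' N' n = 1 := (QuotientGroup.eq_one_iff n).2 hn
      rw [map_mul, hn1, mul_one]
    obtain ⟨t, ht, hct⟩ := hcbar
    have h4 : (Q.map (MulAut.conj (c * g)).toMonoidHom).map (QuotientGroup.mk' N') =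
        ((Q.map (MulAut.conj g).toMonoidHom).map (QuotientGroup.mk' N')).map
          (MulAut.conj (QuotientGroup.mk' N' t)).toMonoidHom := by
      rw [← map_mk_conj, ← map_mk_conj, conj_conj, map_mul, hct]
    rw [h3] at h4
    have h5 : (Q.map (QuotientGroup.mk' N')).map
        (MulAut.conj (QuotientGroup.mk' N' t)).toMonoidHom = Q.map (QuotientGroup.mk' N') := by
      rw [map_mk_conj, (mem_normalizer_iff_conj_eq Q t).1 (hTN ht)]
    rw [← h5] at h4
    exact (Subgroup.map_injective (MulAut.conj (QuotientGroup.mk' N' t)).injective h4).symm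

/-- every conjugate of a weakly closed subgroup lies in each subnormal subgroup containing it. -/
theorem wc_conj_le_of_isSubnormal [Finite H] {p : ℕ} [Fact p.Prime] (Q : Subgroup H)
    (hQp : IsPGroup p ↥Q) (T : Sylow p H) (hwc : Cfsg.IsWeaklyClosed Q (T : Subgroup H))
    (S : Subgroup H) (hS : S.IsSubnormal) (hQS : Q ≤ S) (g : H) :
    Q.map (MulAut.conj g).toMonoidHom ≤ S := by
  induction hS with
  | top => exact le_top
  | step S S₁ hle hS₁ hn ih =>
    have h1 := ih (hQS.trans hle)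
    obtain ⟨k, hk, hgk⟩ := wc_conj_in Q hQp T hwc S₁ (hQS.trans hle) g h1
    rw [hgk]
    rintro _ ⟨x, hx, rfl⟩
    have h2 := hn.conj_mem ⟨x, hle (hQS hx)⟩ (Subgroup.mem_subgroupOf.2 (hQS hx)) ⟨k, hk⟩
    exact Subgroup.mem_subgroupOf.1 h2

theorem wc_subnormalClosure [Finite H] {p : ℕ} [Fact p.Prime] (Q : Subgroup H)
    (hQp : IsPGroup p ↥Q) (hwc : Cfsg.IsWeaklyClosedSubgroup p Q) :
    Cfsg.subnormalClosure Q = Subgroup.normalClosure (Q : Set H) := by
  obtain ⟨T, hT⟩ := hwc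
  apply le_antisymm
  · exact subnormalClosure_le Q _ Subgroup.subset_normalClosure
      (Subgroup.normalClosure_normal.isSubnormal)
  · apply le_sInf
    rintro M ⟨hQM, hM⟩
    rw [Subgroup.normalClosure]
    rw [Subgroup.closure_le]
    intro y hy
    obtain ⟨a, ha, hay⟩ := Group.mem_conjugatesOfSet_iff.1 hy
    obtain ⟨c, hc⟩ := isConj_iff.1 hay
    rw [← hc]
    exact wc_conj_le_of_isSubnormal Q hQp T hT M hM hQM c (conj_mem_conj Q c a ha)

end Cfsg.Agent.Helper5
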