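import Mathlib
import Cfsg.Prelude.Def_LocalStructure
import Cfsg.Agent.Helper5.Basic
import Cfsg.Agent.Helper5.YMin
import Cfsg.Agent.Helper5.CD
import Cfsg.Agent.Helper5.Frattini
import Cfsg.Agent.Helper3.Layer2
import Cfsg.Agent.Helper3.Signalizer
import Cfsg.Agent.Lead.PGroupFrattini
import Cfsg.Agent.S0130

set_option autoImplicit false

namespace Cfsg.Agent.Helper5

open scoped commutatorElement

variable {L : Type*} [Group L]

theorem ymin_gen [Finite L] (L₀ : Subgroup L) (hL₀ : IsCoatom L₀) (Y : Subgroup L) (hY : Y ≤ L₀)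
    (hmin : Cfsg.IsMinimalOver Y) (g : L) (hg : g ∉ L₀) :
    Y ⊔ Y.map (MulAut.conj g).toMonoidHom = ⊤ := by
  by_contra hne
  have h1 := ymin_le_of_ne_top L₀ hL₀ Y hY hmin _ le_sup_left hne
  have hYg : Y.map (MulAut.conj g).toMonoidHom ≤ L₀ := le_sup_right.trans h1
  have hco : IsCoatom (L₀.map (MulAut.conj g⁻¹).toMonoidHom) := by
    have h := (OrderIso.isCoatom_iff (MulEquiv.mapSubgroup (MulAut.conj g⁻¹)) L₀).2 hL₀
    rw [MulEquiv.mapSubgroup_apply] at h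
    exact h
  have hYle : Y ≤ L₀.map (MulAut.conj g⁻¹).toMonoidHom := by
    intro y hy
    rw [mem_conj_iff, inv_inv]
    exact hYg (conj_mem_conj Y g y hy)
  obtain ⟨M₀, _, hM₀⟩ := hmin.2
  have e1 : L₀.map (MulAut.conj g⁻¹).toMonoidHom = M₀ := hM₀ _ ⟨hco, hYle⟩
  have e2 : L₀ = M₀ := hM₀ L₀ ⟨hL₀, hY⟩
  have e3 : L₀.map (MulAut.conj g⁻¹).toMonoidHom = L₀ := e1.trans e2.symm
  have hgN : g ∈ Subgroup.normalizer (L₀ : Set L) := by
    have h2 : g⁻¹ ∈ Subgroup.normalizer (L₀ : Set L) := mem_normalizer_of_conj_le L₀ g⁻¹ e3.le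
    have h3 := Subgroup.inv_mem _ h2
    rwa [inv_inv] at h3
  rcases eq_or_lt_of_le (Subgroup.le_normalizer : L₀ ≤ Subgroup.normalizer (L₀ : Set L)) with h | h
  · rw [← h] at hgN
    exact hg hgN
  · have hN := hL₀.2 _ h
    haveI : L₀.Normal := Subgroup.normalizer_eq_top_iff.1 hN
    have h4 : Subgroup.normalClosure (Y : Set L) ≤ L₀ := Subgroup.normalClosure_le_normal hY
    rw [hmin.1] at h4
    exact hL₀.1 (top_le_iff.1 h4)

theorem ymin_char [Finite L] {p : ℕ} [Fact p.Prime]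
    (hchar : Subgroup.centralizer (Cfsg.pCore p L : Set L) ≤ Cfsg.pCore p L)
    (L₀ : Subgroup L) (hL₀ : IsCoatom L₀) (Y : Subgroup L) (hYL₀ : Y ≤ L₀)
    (hYel : Cfsg.IsElementaryAbelian p Y) (hmin : Cfsg.IsMinimalOver Y)
    (hOY : Cfsg.pCore p L ≤ Subgroup.normalizer (Y : Set L)) (A : Subgroup L)
    (hA : A = Subgroup.normalClosure (((Cfsg.pCore p L ⊓ Y : Subgroup L)) : Set L)) (g : L)
    (hg : g ∉ L₀) :
    (frattini ↥A).map A.subtype = ⁅A, A⁆ ∧ ⁅A, A⁆ = ⁅A ⊓ Y, A⁆ ∧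
      ⁅A ⊓ Y, A⁆ = ⁅A ⊓ Y, A ⊓ Y.map (MulAut.conj g).toMonoidHom⁆ ∧
      ⁅A ⊓ Y, A⁆ ≤ Y ⊓ Subgroup.center L ∧
      Y ⊓ Y.map (MulAut.conj g).toMonoidHom = Y ⊓ Subgroup.center L ∧
      (A ⊓ Y) ⊓ (A ⊓ Y.map (MulAut.conj g).toMonoidHom) = Y ⊓ Subgroup.center L ∧
      A ⊓ Subgroup.center L = Y ⊓ Subgroup.center L := by
  classical
  have hQn0 := pCore_normal p L
  obtain ⟨Q, hQ⟩ : ∃ Q : Subgroup L, Q = Cfsg.pCore p L := ⟨_, rfl⟩
  rw [← hQ] at hchar hOY hA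
  have hQn : Q.Normal := hQ ▸ hQn0
  have hQp : IsPGroup p Q := hQ ▸ pCore_isPGroup
  obtain ⟨Yg, hYg⟩ : ∃ Yg : Subgroup L, Yg = Y.map (MulAut.conj g).toMonoidHom := ⟨_, rfl⟩
  rw [← hYg]
  have hgen : Y ⊔ Yg = ⊤ := hYg ▸ ymin_gen L₀ hL₀ Y hYL₀ hmin g hg
  haveI := hYel.1
  have hYc : ∀ a ∈ Y, ∀ b ∈ Y, a * b = b * a := fun a ha b hb =>
    congrArg Subtype.val (mul_comm' (⟨a, ha⟩ : Y) ⟨b, hb⟩)
  have hYgc : ∀ a ∈ Yg, ∀ b ∈ Yg, a * b = b * a := by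
    rw [hYg]
    rintro _ ⟨a, ha, rfl⟩ _ ⟨b, hb, rfl⟩
    rw [← map_mul, ← map_mul, hYc a ha b hb]
  have hYpow : ∀ a ∈ Y, a ^ p = 1 := hYel.2
  have hYgpow : ∀ a ∈ Yg, a ^ p = 1 := by
    rw [hYg]
    rintro _ ⟨a, ha, rfl⟩
    rw [← map_pow, hYpow a ha, map_one]
  have hQY : ∀ q ∈ Q, ∀ b ∈ Y, q * b * q⁻¹ ∈ Y := fun q hq b hb =>
    (Subgroup.mem_normalizer_iff.1 (hOY hq) b).1 hb
  have hQYg : ∀ q ∈ Q, ∀ b ∈ Yg, q * b * q⁻¹ ∈ Yg := by
    intro q hq b hb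
    rw [hYg] at hb ⊢
    rw [mem_conj_iff] at hb ⊢
    have hq' : g⁻¹ * q * g ∈ Q := by
      have := hQn.conj_mem q hq g⁻¹
      rwa [inv_inv] at this
    have h1 := hQY _ hq' _ hb
    have e : g⁻¹ * (q * b * q⁻¹) * g = (g⁻¹ * q * g) * (g⁻¹ * b * g) * (g⁻¹ * q * g)⁻¹ := by
      group
    rw [e]
    exact h1
  have hcomm : ∀ a ∈ Q ⊓ Y, ∀ b ∈ Q ⊓ Yg, ⁅a, b⁆ ∈ (Q ⊓ Y) ⊓ (Q ⊓ Yg) := by
    intro a ha b hb
    have hQm : ⁅a, b⁆ ∈ Q := by
      rw [commutatorElement_def]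
      exact Q.mul_mem (Q.mul_mem (Q.mul_mem ha.1 hb.1) (Q.inv_mem ha.1)) (Q.inv_mem hb.1)
    refine ⟨⟨hQm, ?_⟩, ⟨hQm, ?_⟩⟩
    · have e : ⁅a, b⁆ = a * (b * a⁻¹ * b⁻¹) := by rw [commutatorElement_def]; group
      rw [e]
      exact Y.mul_mem ha.2 (hQY b hb.1 _ (Y.inv_mem ha.2))
    · have e : ⁅a, b⁆ = (a * b * a⁻¹) * b⁻¹ := by rw [commutatorElement_def]
      rw [e]
      exact Yg.mul_mem (hQYg a ha.1 b hb.2) (Yg.inv_mem hb.2)
  have hN₀ : Q ⊓ Yg ≤ Subgroup.normalizer ((Q ⊓ Y : Subgroup L) : Set L) :=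
    Helper3.le_normalizer_of_conj_mem _ _ (fun b hb a ha =>
      ⟨hQn.conj_mem a ha.1 b, hQY b hb.1 a ha.2⟩)
  have hsplit : ∀ x ∈ (Q ⊓ Y) ⊔ (Q ⊓ Yg), ∃ a ∈ Q ⊓ Y, ∃ b ∈ Q ⊓ Yg, a * b = x := fun x hx =>
    Helper3.mem_sup_of_le_normalizer_right _ _ hN₀ hx
  have hAeq : A = (Q ⊓ Y) ⊔ (Q ⊓ Yg) := by
    rw [hA]
    apply le_antisymm
    · haveI hnorm : ((Q ⊓ Y) ⊔ (Q ⊓ Yg)).Normal := by
        rw [← Subgroup.normalizer_eq_top_iff, eq_top_iff, ← hgen]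
        refine sup_le ?_ ?_
        · apply Helper3.le_normalizer_of_conj_mem
          intro y hy x hx
          obtain ⟨a, ha, b, hb, rfl⟩ := hsplit x hx
          have h1 : y * a = a * y := hYc y hy a ha.2
          have e : y * (a * b) * y⁻¹ = a * (⁅y, b⁆ * b) := by
            calc y * (a * b) * y⁻¹ = (y * a) * b * y⁻¹ := by group
              _ = (a * y) * b * y⁻¹ := by rw [h1]
              _ = a * (⁅y, b⁆ * b) := by rw [commutatorElement_def]; group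
          rw [e]
          have hc : ⁅y, b⁆ ∈ Q ⊓ Y := by
            refine ⟨?_, ?_⟩
            · have e2 : ⁅y, b⁆ = (y * b * y⁻¹) * b⁻¹ := by rw [commutatorElement_def]
              rw [e2]
              exact Q.mul_mem (hQn.conj_mem b hb.1 y) (Q.inv_mem hb.1)
            · have e2 : ⁅y, b⁆ = y * (b * y⁻¹ * b⁻¹) := by rw [commutatorElement_def]; group
              rw [e2]
              exact Y.mul_mem hy (hQY b hb.1 _ (Y.inv_mem hy))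
          exact Subgroup.mul_mem _ (Subgroup.mem_sup_left ha)
            (Subgroup.mul_mem _ (Subgroup.mem_sup_left hc) (Subgroup.mem_sup_right hb))
        · apply Helper3.le_normalizer_of_conj_mem
          intro y hy x hx
          obtain ⟨a, ha, b, hb, rfl⟩ := hsplit x hx
          have h1 : y * b = b * y := hYgc y hy b hb.2
          have e : y * (a * b) * y⁻¹ = (⁅y, a⁆ * a) * b := by
            calc y * (a * b) * y⁻¹ = y * a * y⁻¹ * (y * b) * y⁻¹ := by group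
              _ = y * a * y⁻¹ * (b * y) * y⁻¹ := by rw [h1]
              _ = (⁅y, a⁆ * a) * b := by rw [commutatorElement_def]; group
          rw [e]
          have hc : ⁅y, a⁆ ∈ Q ⊓ Yg := by
            refine ⟨?_, ?_⟩
            · have e2 : ⁅y, a⁆ = (y * a * y⁻¹) * a⁻¹ := by rw [commutatorElement_def]
              rw [e2]
              exact Q.mul_mem (hQn.conj_mem a ha.1 y) (Q.inv_mem ha.1)
            · have e2 : ⁅y, a⁆ = y * (a * y⁻¹ * a⁻¹) := by rw [commutatorElement_def]; group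
              rw [e2]
              exact Yg.mul_mem hy (hQYg a ha.1 _ (Yg.inv_mem hy))
          exact Subgroup.mul_mem _ (Subgroup.mul_mem _ (Subgroup.mem_sup_right hc)
            (Subgroup.mem_sup_left ha)) (Subgroup.mem_sup_right hb)
      exact Subgroup.normalClosure_le_normal
        (show ((Q ⊓ Y : Subgroup L) : Set L) ⊆ ((Q ⊓ Y) ⊔ (Q ⊓ Yg) : Subgroup L) from
          fun x hx => Subgroup.mem_sup_left hx)
    · refine sup_le Subgroup.le_normalClosure ?_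
      intro b hb
      have hb2 : b ∈ Yg := hb.2
      rw [hYg, mem_conj_iff] at hb2
      have hbQ : g⁻¹ * b * g ∈ Q := by
        have := hQn.conj_mem b hb.1 g⁻¹
        rwa [inv_inv] at this
      have h3 := (Subgroup.normalClosure_normal (s := ((Q ⊓ Y : Subgroup L) : Set L))).conj_mem _
        (Subgroup.le_normalClosure (show g⁻¹ * b * g ∈ Q ⊓ Y from ⟨hbQ, hb2⟩)) g
      have e : g * (g⁻¹ * b * g) * g⁻¹ = b := by group
      rwa [e] at h3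
  have hAQ : A ≤ Q := by
    rw [hAeq]; exact sup_le inf_le_left inf_le_left
  have hY₀A : Q ⊓ Y ≤ A := hAeq ▸ le_sup_left
  have hYg₀A : Q ⊓ Yg ≤ A := hAeq ▸ le_sup_right
  have hAY : A ⊓ Y = Q ⊓ Y :=
    le_antisymm (le_inf (inf_le_left.trans hAQ) inf_le_right) (le_inf hY₀A inf_le_right)
  have hAYg : A ⊓ Yg = Q ⊓ Yg :=
    le_antisymm (le_inf (inf_le_left.trans hAQ) inf_le_right) (le_inf hYg₀A inf_le_right)
  rw [hAY, hAYg]
  have hcen : ∀ x : L, x ∈ Subgroup.centralizer (Y : Set L) →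
      x ∈ Subgroup.centralizer (Yg : Set L) → x ∈ Subgroup.center L := by
    intro x h1 h2
    have h3 : x ∈ Subgroup.centralizer ((Y ⊔ Yg : Subgroup L) : Set L) := by
      rw [centralizer_sup_eq]; exact ⟨h1, h2⟩
    rw [hgen, Subgroup.coe_top, Subgroup.centralizer_univ] at h3
    exact h3
  have hZYg : ∀ z ∈ Subgroup.center L, z ∈ Yg ↔ z ∈ Y := by
    intro z hz
    rw [hYg, mem_conj_iff]
    have e : g⁻¹ * z * g = z := by
      rw [mul_assoc, ← Subgroup.mem_center_iff.1 hz g, inv_mul_cancel_left]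
    rw [e]
  have h5 : Y ⊓ Yg = Y ⊓ Subgroup.center L := by
    apply le_antisymm
    · rintro x ⟨hx1, hx2⟩
      refine ⟨hx1, hcen x ?_ ?_⟩
      · rw [Subgroup.mem_centralizer_iff]; intro y hy; exact hYc y hy x hx1
      · rw [Subgroup.mem_centralizer_iff]; intro y hy; exact hYgc y hy x hx2
    · rintro x ⟨hx1, hx2⟩
      exact ⟨hx1, (hZYg x hx2).2 hx1⟩
  have hZQ : Subgroup.center L ≤ Q := (Subgroup.center_le_centralizer _).trans hchar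
  have hC₀D : ⁅Q ⊓ Y, Q ⊓ Yg⁆ ≤ (Q ⊓ Y) ⊓ (Q ⊓ Yg) := Subgroup.commutator_le.2 hcomm
  have hDcen : ∀ c ∈ (Q ⊓ Y) ⊓ (Q ⊓ Yg), ∀ x ∈ A, c * x = x * c := by
    intro c hc x hx
    rw [hAeq] at hx
    obtain ⟨a, ha, b, hb, rfl⟩ := hsplit x hx
    have h1 := hYc c hc.1.2 a ha.2
    have h2 := hYgc c hc.2.2 b hb.2
    rw [← mul_assoc, h1, mul_assoc, h2, mul_assoc]
  have hAA : ⁅A, A⁆ = ⁅Q ⊓ Y, Q ⊓ Yg⁆ := by
    apply le_antisymm
    · rw [Subgroup.commutator_le]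
      intro x hx y hy
      rw [hAeq] at hx hy
      obtain ⟨a₁, ha₁, b₁, hb₁, rfl⟩ := hsplit x hx
      obtain ⟨a₂, ha₂, b₂, hb₂, rfl⟩ := hsplit y hy
      have hc1 : ⁅a₁, b₂⁆ ∈ ⁅Q ⊓ Y, Q ⊓ Yg⁆ := Subgroup.commutator_mem_commutator ha₁ hb₂
      have hc2 : ⁅b₁, a₂⁆ ∈ ⁅Q ⊓ Y, Q ⊓ Yg⁆ := by
        rw [← commutatorElement_inv]
        exact Subgroup.inv_mem _ (Subgroup.commutator_mem_commutator ha₂ hb₁)
      have k2 := hDcen _ (hC₀D hc2) a₁ (hY₀A ha₁)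
      have k1 := hDcen _ (hC₀D hc1) a₂ (hY₀A ha₂)
      have e1 : a₁ * a₂ = a₂ * a₁ := hYc a₁ ha₁.2 a₂ ha₂.2
      have e2 : b₁ * b₂ = b₂ * b₁ := hYgc b₁ hb₁.2 b₂ hb₂.2
      have key : ⁅a₁ * b₁, a₂ * b₂⁆ = ⁅b₁, a₂⁆ * ⁅a₁, b₂⁆ := by
        calc ⁅a₁ * b₁, a₂ * b₂⁆
            = a₁ * ⁅b₁, a₂⁆ * a₂ * (b₁ * b₂) * b₁⁻¹ * a₁⁻¹ * b₂⁻¹ * a₂⁻¹ := by
              simp only [commutatorElement_def]; group
          _ = a₁ * ⁅b₁, a₂⁆ * a₂ * (b₂ * b₁) * b₁⁻¹ * a₁⁻¹ * b₂⁻¹ * a₂⁻¹ := by rw [e2]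
          _ = (a₁ * ⁅b₁, a₂⁆) * a₂ * b₂ * a₁⁻¹ * b₂⁻¹ * a₂⁻¹ := by group
          _ = (⁅b₁, a₂⁆ * a₁) * a₂ * b₂ * a₁⁻¹ * b₂⁻¹ * a₂⁻¹ := by rw [k2]
          _ = ⁅b₁, a₂⁆ * (a₁ * a₂) * b₂ * a₁⁻¹ * b₂⁻¹ * a₂⁻¹ := by group
          _ = ⁅b₁, a₂⁆ * (a₂ * a₁) * b₂ * a₁⁻¹ * b₂⁻¹ * a₂⁻¹ := by rw [e1]
          _ = ⁅b₁, a₂⁆ * ((a₂ * ⁅a₁, b₂⁆) * a₂⁻¹) := by
              simp only [commutatorElement_def]; group
          _ = ⁅b₁, a₂⁆ * ((⁅a₁, b₂⁆ * a₂) * a₂⁻¹) := by rw [k1]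
          _ = ⁅b₁, a₂⁆ * ⁅a₁, b₂⁆ := by group
      rw [key]
      exact Subgroup.mul_mem _ hc2 hc1
    · exact Subgroup.commutator_mono hY₀A hYg₀A
  have hYA : ⁅Q ⊓ Y, A⁆ = ⁅Q ⊓ Y, Q ⊓ Yg⁆ :=
    le_antisymm ((Subgroup.commutator_mono hY₀A le_rfl).trans hAA.le)
      (Subgroup.commutator_mono le_rfl hYg₀A)
  refine ⟨?_, hAA.trans hYA.symm, hYA, ?_, h5, ?_, ?_⟩
  · have hAp : IsPGroup p ↥A := hQp.to_le hAQ
    apply le_antisymm
    · rw [Subgroup.map_le_iff_le_comap]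
      apply frattini_le_of_elementary_quotient (Fact.out : p.Prime)
      · intro a b
        show ((a * b * a⁻¹ * b⁻¹ : ↥A) : L) ∈ ⁅A, A⁆
        have e : ((a * b * a⁻¹ * b⁻¹ : ↥A) : L) = ⁅(a : L), (b : L)⁆ := by
          rw [commutatorElement_def]; rfl
        rw [e]
        exact Subgroup.commutator_mem_commutator a.2 b.2
      · intro x
        show ((x ^ p : ↥A) : L) ∈ ⁅A, A⁆
        rw [SubmonoidClass.coe_pow]
        obtain ⟨a, ha, b, hb, hab⟩ := hsplit (x : L) (hAeq ▸ x.2)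
        rw [← hab]
        have hw : ⁅b⁻¹, a⁻¹⁆ ∈ ⁅Q ⊓ Y, Q ⊓ Yg⁆ := by
          rw [← commutatorElement_inv]
          exact Subgroup.inv_mem _ (Subgroup.commutator_mem_commutator
            (Subgroup.inv_mem _ ha) (Subgroup.inv_mem _ hb))
        have hwa : Commute ⁅b⁻¹, a⁻¹⁆ a := hDcen _ (hC₀D hw) a (hY₀A ha)
        have hwb : Commute ⁅b⁻¹, a⁻¹⁆ b := hDcen _ (hC₀D hw) b (hYg₀A hb)
        have hyx : b * a = a * b * ⁅b⁻¹, a⁻¹⁆ := by rw [commutatorElement_def]; group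
        rw [Cfsg.Agent.S0130.pow_mul_class_two hwa hwb hyx p, hYpow a ha.2, hYgpow b hb.2,
          one_mul, one_mul, hAA]
        exact Subgroup.pow_mem _ hw _
    · rw [← Subgroup.map_subtype_commutator]
      exact Subgroup.map_mono (Lead.commutator_le_frattini_of_isPGroup p hAp)
  · rw [hYA, ← h5]
    exact hC₀D.trans (inf_le_inf inf_le_right inf_le_right)
  · apply le_antisymm
    · rw [← h5]; exact inf_le_inf inf_le_right inf_le_right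
    · rintro x ⟨hx1, hx2⟩
      exact ⟨⟨hZQ hx2, hx1⟩, ⟨hZQ hx2, (hZYg x hx2).2 hx1⟩⟩
  · apply le_antisymm
    · rintro z ⟨hzA, hzZ⟩
      refine ⟨?_, hzZ⟩
      rw [hAeq] at hzA
      obtain ⟨a, ha, b, hb, rfl⟩ := hsplit z hzA
      have hbc : b ∈ Subgroup.center L := by
        apply hcen
        · rw [Subgroup.mem_centralizer_iff]
          intro y hy
          have h1 := hYc y hy a ha.2
          have h2 := Subgroup.mem_center_iff.1 hzZ y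
          calc y * b = a⁻¹ * ((a * y) * b) := by group
            _ = a⁻¹ * ((y * a) * b) := by rw [h1]
            _ = a⁻¹ * (y * (a * b)) := by group
            _ = a⁻¹ * ((a * b) * y) := by rw [h2]
            _ = b * y := by group
        · rw [Subgroup.mem_centralizer_iff]
          intro y hy
          exact hYgc y hy b hb.2
      exact Y.mul_mem ha.2 ((hZYg b hbc).1 hb.2)
    · rintro x ⟨hx1, hx2⟩
      exact ⟨hY₀A ⟨hZQ hx2, hx1⟩, hx2⟩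

end Cfsg.Agent.Helper5
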