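import Mathlib
import Cfsg.Prelude.Def_LocalStructure
import Cfsg.Agent.Helper5.Basic
import Cfsg.Agent.Helper5.ZL
import Cfsg.Agent.Helper5.FixAvg
import Cfsg.Agent.Helper5.WeakCl
import Cfsg.Agent.Helper5.WeakCl2
import Cfsg.Agent.Helper5.PIrr3
import Cfsg.Agent.Helper3.Layer2

set_option autoImplicit false

namespace Cfsg.Agent.Helper5

open scoped commutatorElement

variable {H : Type*} [Group H]

theorem zl_decomp [Finite H] {p : ℕ} [Fact p.Prime] (L : Subgroup H)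
    (hL : Subgroup.centralizer (Cfsg.pCore p ↥L : Set ↥L) ≤ Cfsg.pCore p ↥L) :
    Cfsg.sylowCenterClosure p L =
        (Cfsg.omegaOne p (L ⊓ Subgroup.centralizer ((L : Subgroup H) : Set H))) ⊔
          ⁅Cfsg.sylowCenterClosure p L, (Cfsg.pResidual p ↥L).map L.subtype⁆ ∧
      ⁅Cfsg.sylowCenterClosure p L, L⁆ =
        ⁅Cfsg.sylowCenterClosure p L, (Cfsg.pResidual p ↥L).map L.subtype⁆ := by
  have hZA := sylowCenterClosure_le_omega L hL
  have hspec := omegaOne_center_spec p ((Cfsg.pCore p ↥L).map L.subtype)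
  have hZL0 := sylowCenterClosure_le p L
  have hLZ0 := le_normalizer_sylowCenterClosure p L
  have hgen : ∀ S : Sylow p ↥L, Cfsg.omegaOne p (((S : Subgroup ↥L).map L.subtype) ⊓
      Subgroup.centralizer (((S : Subgroup ↥L).map L.subtype : Subgroup H) : Set H)) ≤
      Cfsg.sylowCenterClosure p L := by
    intro S
    unfold Cfsg.sylowCenterClosure
    exact le_iSup (fun S : Sylow p ↥L => Cfsg.omegaOne p (((S : Subgroup ↥L).map L.subtype) ⊓
      Subgroup.centralizer (((S : Subgroup ↥L).map L.subtype : Subgroup H) : Set H))) S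
  have hdef : Cfsg.sylowCenterClosure p L = ⨆ S : Sylow p ↥L,
      Cfsg.omegaOne p (((S : Subgroup ↥L).map L.subtype) ⊓
      Subgroup.centralizer (((S : Subgroup ↥L).map L.subtype : Subgroup H) : Set H)) := rfl
  obtain ⟨Z, hZ⟩ : ∃ Z : Subgroup H, Z = Cfsg.sylowCenterClosure p L := ⟨_, rfl⟩
  obtain ⟨R, hR⟩ : ∃ R : Subgroup H, R = (Cfsg.pResidual p ↥L).map L.subtype := ⟨_, rfl⟩
  rw [← hZ, ← hR]
  rw [← hZ] at hZA hZL0 hLZ0 hgen hdef
  have hRL : R ≤ L := by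
    rw [hR]; rintro _ ⟨y, _, rfl⟩; exact y.2
  have hZc : ∀ a ∈ Z, ∀ b ∈ Z, a * b = b * a := by
    intro a ha b hb
    have h1 := hspec a (hZA ha)
    have h2 := hspec b (hZA hb)
    exact h2.2.1 a h1.1
  have hZp : ∀ a ∈ Z, a ^ p = 1 := fun a ha => (hspec a (hZA ha)).2.2
  haveI hVn : (Z.subgroupOf L).Normal :=
    (Subgroup.normal_subgroupOf_iff_le_normalizer hZL0).2 hLZ0
  have hVe : Cfsg.IsElementaryAbelian p (Z.subgroupOf L) := by
    refine ⟨⟨⟨?_⟩⟩, ?_⟩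
    · rintro ⟨a, ha⟩ ⟨b, hb⟩
      apply Subtype.ext
      apply Subtype.ext
      exact hZc a (Subgroup.mem_subgroupOf.1 ha) b (Subgroup.mem_subgroupOf.1 hb)
    · intro a ha
      apply Subtype.ext
      rw [SubmonoidClass.coe_pow]
      exact hZp a (Subgroup.mem_subgroupOf.1 ha)
  have hmapV : (Z.subgroupOf L).map L.subtype = Z := by
    rw [Subgroup.subgroupOf_map_subtype, inf_of_le_left hZL0]
  have hcomm : (⁅Z.subgroupOf L, Cfsg.pResidual p ↥L⁆).map L.subtype = ⁅Z, R⁆ := by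
    rw [Subgroup.map_commutator, hmapV, hR]
  have hRN : L ≤ Subgroup.normalizer (R : Set H) := by
    intro l hl
    apply mem_normalizer_of_conj_le
    rw [hR]
    rintro _ ⟨_, ⟨y, hy, rfl⟩, rfl⟩
    haveI := pResidual_normal' (H := ↥L) p
    exact ⟨⟨l, hl⟩ * y * ⟨l, hl⟩⁻¹, (inferInstance : (Cfsg.pResidual p ↥L).Normal).conj_mem y hy _,
      rfl⟩
  have hCN : L ≤ Subgroup.normalizer ((⁅Z, R⁆ : Subgroup H) : Set H) := fun l hl =>
    mem_normalizer_commutator Z R l (hLZ0 hl) (hRN hl)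
  have hCZ : ⁅Z, R⁆ ≤ Z := commutator_le_left_of_le_normalizer Z R (hRL.trans hLZ0)
  obtain ⟨Om, hOm⟩ : ∃ Om : Subgroup H,
    Om = Cfsg.omegaOne p (L ⊓ Subgroup.centralizer ((L : Subgroup H) : Set H)) := ⟨_, rfl⟩
  rw [← hOm]
  have hOmspec : ∀ c ∈ Om, c ∈ L ∧ (∀ a ∈ L, a * c = c * a) ∧ c ^ p = 1 := by
    rw [hOm]; exact omegaOne_center_spec p L
  have hOmZ : Om ≤ Z := by
    intro c hc
    obtain ⟨h1, h2, h3⟩ := hOmspec c hc
    obtain ⟨S⟩ : Nonempty (Sylow p ↥L) := inferInstance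
    apply hgen S
    have hcO : (⟨c, h1⟩ : ↥L) ∈ Cfsg.pCore p ↥L := by
      apply hL
      rw [Subgroup.mem_centralizer_iff]
      intro a _
      apply Subtype.ext
      exact h2 a a.2
    apply mem_omegaOne_center
    · exact ⟨⟨c, h1⟩, pCore_le_sylow S hcO, rfl⟩
    · rintro _ ⟨a, _, rfl⟩
      exact h2 a a.2
    · exact h3
  have hle : Z ≤ Om ⊔ ⁅Z, R⁆ := by
    refine hdef.le.trans ?_
    apply iSup_le
    intro S z hz
    obtain ⟨hz1, hz2, hz3⟩ := omegaOne_center_spec p _ z hz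
    have hzZ : z ∈ Z := hgen S hz
    have hzT : ∀ t ∈ (S : Subgroup ↥L), t * (⟨z, hZL0 hzZ⟩ : ↥L) = ⟨z, hZL0 hzZ⟩ * t := by
      intro t ht
      apply Subtype.ext
      exact hz2 t ⟨t, ht, rfl⟩
    obtain ⟨c, hcV, hcc, hcz⟩ := fixed_eq_central_mul S (Z.subgroupOf L) hVe ⟨z, hZL0 hzZ⟩
      (Subgroup.mem_subgroupOf.2 hzZ) hzT
    have hcZ : (c : H) ∈ Z := Subgroup.mem_subgroupOf.1 hcV
    have hcOm : (c : H) ∈ Om := by
      rw [hOm]
      apply mem_omegaOne_center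
      · exact c.2
      · intro a ha
        exact congrArg Subtype.val (hcc ⟨a, ha⟩)
      · exact hZp _ hcZ
    have hw : (c : H)⁻¹ * z ∈ ⁅Z, R⁆ := by
      rw [← hcomm]
      exact ⟨_, hcz, rfl⟩
    have e : z = (c : H) * ((c : H)⁻¹ * z) := by group
    rw [e]
    exact Subgroup.mul_mem _ (Subgroup.mem_sup_left hcOm) (Subgroup.mem_sup_right hw)
  refine ⟨le_antisymm hle (sup_le hOmZ hCZ), ?_⟩
  apply le_antisymm
  · rw [Subgroup.commutator_le]
    intro z hz l hl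
    have hN : ⁅Z, R⁆ ≤ Subgroup.normalizer (Om : Set H) := by
      intro w hw
      apply mem_normalizer_of_conj_le
      rintro _ ⟨c, hc, rfl⟩
      have h1 := (hOmspec c hc).2.1 w (hZL0 (hCZ hw))
      show w * c * w⁻¹ ∈ Om
      rw [h1, mul_inv_cancel_right]
      exact hc
    obtain ⟨c, hc, w, hw, rfl⟩ := Helper3.mem_sup_of_le_normalizer_right Om _ hN (hle hz)
    obtain ⟨h1, h2, -⟩ := hOmspec c hc
    have hwL : w ∈ L := hZL0 (hCZ hw)
    have e1 : w * l * w⁻¹ * l⁻¹ * c = c * (w * l * w⁻¹ * l⁻¹) :=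
      h2 _ (L.mul_mem (L.mul_mem (L.mul_mem hwL hl) (L.inv_mem hwL)) (L.inv_mem hl))
    have e : ⁅c * w, l⁆ = w * (l * w⁻¹ * l⁻¹) := by
      rw [commutatorElement_def]
      calc c * w * l * (c * w)⁻¹ * l⁻¹ = c * (w * l * w⁻¹ * l⁻¹ * c) * c⁻¹ * c⁻¹ := by
            have e3 : c⁻¹ * l⁻¹ = l⁻¹ * c⁻¹ := by
              have := h2 l hl
              have e4 : l⁻¹ * c⁻¹ = (c * l)⁻¹ := by group
              have e5 : c⁻¹ * l⁻¹ = (l * c)⁻¹ := by group
              rw [e4, e5, this]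
            calc c * w * l * (c * w)⁻¹ * l⁻¹ = c * w * l * w⁻¹ * (c⁻¹ * l⁻¹) := by group
              _ = c * w * l * w⁻¹ * (l⁻¹ * c⁻¹) := by rw [e3]
              _ = c * (w * l * w⁻¹ * l⁻¹ * c) * c⁻¹ * c⁻¹ := by group
        _ = c * (c * (w * l * w⁻¹ * l⁻¹)) * c⁻¹ * c⁻¹ := by rw [e1]
        _ = c * c * (w * l * w⁻¹ * l⁻¹) * c⁻¹ * c⁻¹ := by group
        _ = w * (l * w⁻¹ * l⁻¹) := by
            have e6 : (w * l * w⁻¹ * l⁻¹) * c⁻¹ = c⁻¹ * (w * l * w⁻¹ * l⁻¹) := by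
              have e7 : (w * l * w⁻¹ * l⁻¹) * c⁻¹ = c⁻¹ * (c * (w * l * w⁻¹ * l⁻¹)) * c⁻¹ := by
                group
              rw [e7, ← e1]; group
            calc c * c * (w * l * w⁻¹ * l⁻¹) * c⁻¹ * c⁻¹
                = c * c * ((w * l * w⁻¹ * l⁻¹) * c⁻¹) * c⁻¹ := by group
              _ = c * c * (c⁻¹ * (w * l * w⁻¹ * l⁻¹)) * c⁻¹ := by rw [e6]
              _ = c * ((w * l * w⁻¹ * l⁻¹) * c⁻¹) := by group
              _ = c * (c⁻¹ * (w * l * w⁻¹ * l⁻¹)) := by rw [e6]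
              _ = w * (l * w⁻¹ * l⁻¹) := by group
    rw [e]
    exact Subgroup.mul_mem _ hw
      ((Subgroup.mem_normalizer_iff.1 (hCN hl) _).1 (Subgroup.inv_mem _ hw))
  · exact Subgroup.commutator_mono le_rfl hRL

end Cfsg.Agent.Helper5
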